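import Groth.Agent.AlgSt.K736.Prod
import Groth.Agent.AlgSt.K735.Top
/-!
# Quasi-compact opens and affine charts (helper736)
-/

set_option autoImplicit false
set_option backward.isDefEq.respectTransparency false
set_option backward.isDefEq.respectTransparency.types false

universe v₄ u₄ v₃ u₃ v₂ u₂ v u

open CategoryTheory CategoryTheory.Limits AlgebraicGeometry Opposite K736.Fib K736.Rep K736.Cover K736.Props K736.Prod AlgSp

namespace K736.QC

variable {S : Scheme.{u}} {𝒳 : BasedCategory.{v₂, u₂} (Over S)} {𝒴 : BasedCategory.{v₃, u₃} (Over S)}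

theorem locP_smooth_comp ⦃X Y Z : AlgSp.Sp S⦄ (hX : AlgSp.IsAlgSpace X) (hY : AlgSp.IsAlgSpace Y) (hZ : AlgSp.IsAlgSpace Z)
    (a : X ⟶ Y) (b : Y ⟶ Z) (ha : LocP @Smooth a) (hb : LocP @Smooth b) : LocP @Smooth (a ≫ b) :=
  K597.locP_comp K597.etLoc_smooth hX.hasAtlas hY.hasAtlas hZ.hasAtlas ha hb

theorem locP_yon_map_of {P : MorphismProperty Scheme.{u}} [P.IsStableUnderBaseChange] (hP : K597.EtLoc P) {U V : Over S} {g : U ⟶ V} (h : P g.left) :
    LocP P ((yon S).map g) :=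
  K597.locP_of_repWith hP.precomp ((repWith_yon_map_iff _ _).2 h)

/-- Precomposition of a smooth chart with a smooth morphism of schemes. -/
theorem smooth_comp_overMap {V : Over S} {v : FibCat.overCat V ⥤ᵇ 𝒳} (hv : AlgSt.RepByAlgSpWith (LocP @Smooth) v)
    {U : Over S} (g : U ⟶ V) (hg : Smooth g.left) : AlgSt.RepByAlgSpWith (LocP @Smooth) (BasedFunctor.comp (AlgSt.overMap g) v) := by
  have h1 : AlgSt.RepByAlgSpWith (LocP @Smooth) (BasedFunctor.comp (AlgSt.ofSpMap ((yon S).map g)) (BasedFunctor.comp (AlgSt.toOverCat V) v)) :=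
    algRepWith_comp_ofSpMap (stabBC_locP K597.etLoc_smooth) locP_smooth_comp (IsAlgSpace.yon_obj V) (IsAlgSpace.yon_obj U)
      ((algRep_comp_equiv_iff (isEquivOver_toOverCat V)).2 hv) (locP_yon_map_of K597.etLoc_smooth hg)
  exact (algRep_comp_equiv_iff (isEquivOver_ofOverCat U)).2 h1

variable {K : Precoverage Scheme.{u}}

theorem continuous_ofChart (h𝒳 : AlgSt.IsAlgStack K 𝒳) {V : Over S} (v : FibCat.overCat V ⥤ᵇ 𝒳) :
    Continuous (AlgSt.Points.ofChart v) := K735.Top.chartCont_of_isAlgStack h𝒳 V v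

theorem isOpenMap_ofChart (h𝒳 : AlgSt.IsAlgStack K 𝒳) {V : Over S} {v : FibCat.overCat V ⥤ᵇ 𝒳}
    (hv : AlgSt.RepByAlgSpWith (LocP @Smooth) v) : IsOpenMap (AlgSt.Points.ofChart v) :=
  K735.Top.isOpenMap_ofChart v (K735.Top.isOpenMap_map K735.Top.isOpenMap_of_smooth h𝒳.isStack.1
    (K736.Fib.isFibGrpd_overCat V) (K735.Top.chartCont_overCat V) hv)

theorem surjective_ofChart (h𝒳 : AlgSt.IsAlgStack K 𝒳) {V : Over S} {v : FibCat.overCat V ⥤ᵇ 𝒳}
    (hv : AlgSt.RepByAlgSpWith IsSurjectiveMor v) : Function.Surjective (AlgSt.Points.ofChart v) :=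
  (K735.PtsSp.surjective_map_iff_surjective_ofChart v).1
    (K735.Top.surjective_of_repByAlgSpWith h𝒳.isStack.1 (K736.Fib.isFibGrpd_overCat V) hv)

theorem surj_of_surjective_ofChart (h𝒳 : AlgSt.IsAlgStack K 𝒳) {V : Over S} {v : FibCat.overCat V ⥤ᵇ 𝒳}
    (hv : AlgSt.RepByAlgSp1 v) (hs : Function.Surjective (AlgSt.Points.ofChart v)) : AlgSt.RepByAlgSpWith IsSurjectiveMor v :=
  (K735.Top.repByAlgSpWith_surjective_iff h𝒳.isStack.1 (K736.Fib.isFibGrpd_overCat V) hv).1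
    ((K735.PtsSp.surjective_map_iff_surjective_ofChart v).2 hs)

/-- Every quasi-compact open of `|𝒳|` is the image of a smooth affine chart. -/
theorem exists_affine_chart (h𝒳 : AlgSt.IsAlgStack K 𝒳) {Q : Set (AlgSt.Points 𝒳)} (hQ : IsCompact Q) (hQo : IsOpen Q) :
    ∃ (U : Over S) (x : FibCat.overCat U ⥤ᵇ 𝒳), IsAffine U.left ∧ AlgSt.RepByAlgSpWith (LocP @Smooth) x ∧
      Set.range (AlgSt.Points.ofChart x) = Q := by
  obtain ⟨V, v, h1, h2⟩ := h𝒳.atlas
  have hc := continuous_ofChart h𝒳 v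
  have ho := isOpenMap_ofChart h𝒳 h1
  have hs := surjective_ofChart h𝒳 h2
  let W : Set ↥V.left := AlgSt.Points.ofChart v ⁻¹' Q
  have hW : IsOpen W := hQo.preimage hc
  have key : ∀ w : W, ∃ O : V.left.Opens, IsAffineOpen O ∧ w.1 ∈ O ∧ (O : Set ↥V.left) ⊆ W := fun w => by
    obtain ⟨O, hO, hw, hOW⟩ := (Scheme.isBasis_affineOpens V.left).exists_subset_of_mem_open w.2 hW
    obtain ⟨O', h3, h4⟩ := hO
    subst h4
    exact ⟨O', h3, hw, hOW⟩
  choose O hO hw hOW using key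
  obtain ⟨t, ht⟩ := hQ.elim_finite_subcover (fun w : W => AlgSt.Points.ofChart v '' (O w : Set ↥V.left))
    (fun w => ho _ (O w).2) (fun q hq => by
      obtain ⟨w, rfl⟩ := hs q
      exact Set.mem_iUnion.2 ⟨⟨w, hq⟩, w, hw ⟨w, hq⟩, rfl⟩)
  let g₀ : (∐ fun w : t => ((O w.1 : V.left.Opens) : Scheme.{u})) ⟶ V.left := Sigma.desc fun w : t => (O w.1).ι
  let U : Over S := Over.mk (g₀ ≫ V.hom)
  let g : U ⟶ V := Over.homMk g₀ rfl
  have haff : ∀ w : t, IsAffine ((O w.1 : V.left.Opens) : Scheme.{u}) := fun w => hO w.1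
  have hg : Smooth g.left := IsZariskiLocalAtSource.sigmaDesc (P := @Smooth) fun w => inferInstance
  refine ⟨U, BasedFunctor.comp (AlgSt.overMap g) v, ?_, smooth_comp_overMap h1 g hg, ?_⟩
  · exact inferInstanceAs (IsAffine (∐ fun w : t => ((O w.1 : V.left.Opens) : Scheme.{u})))
  · apply Set.Subset.antisymm
    · rintro _ ⟨s, rfl⟩
      rw [K735.PtsSp.ofChart_overMap]
      obtain ⟨⟨w, s⟩, rfl⟩ := (sigmaMk (fun w : t => ((O w.1 : V.left.Opens) : Scheme.{u}))).surjective s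
      rw [sigmaMk_mk]
      change AlgSt.Points.ofChart v (g₀ ((Sigma.ι (fun w : t => ((O w.1 : V.left.Opens) : Scheme.{u})) w) s)) ∈ Q
      have h3 : g₀ ((Sigma.ι (fun w : t => ((O w.1 : V.left.Opens) : Scheme.{u})) w) s) = (O w.1).ι s := by
        rw [← Scheme.Hom.comp_apply, Sigma.ι_desc]
      rw [h3]
      exact hOW w.1 s.2
    · intro q hq
      obtain ⟨w, hwt, s, hs', rfl⟩ := Set.mem_iUnion₂.1 (ht hq)
      refine ⟨(Sigma.ι (fun w : t => ((O w.1 : V.left.Opens) : Scheme.{u})) ⟨w, hwt⟩) ⟨s, hs'⟩, ?_⟩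
      rw [K735.PtsSp.ofChart_overMap]
      change AlgSt.Points.ofChart v (g₀ _) = _
      rw [← Scheme.Hom.comp_apply, Sigma.ι_desc]
      rfl

/-- S12847. -/
theorem isQuasiCompact_iff (h𝒳 : AlgSt.IsAlgStack K 𝒳) : AlgSt.IsQuasiCompact 𝒳 ↔ CompactSpace (AlgSt.Points 𝒳) := by
  constructor
  · rintro ⟨U, x, hU, hx, hx'⟩
    have hs := surjective_ofChart h𝒳 hx'
    have hc := continuous_ofChart h𝒳 x
    rw [← isCompact_univ_iff, ← Set.range_eq_univ.2 hs]
    exact isCompact_range hc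
  · intro h
    obtain ⟨U, x, hU, hx, hr⟩ := exists_affine_chart h𝒳 isCompact_univ isOpen_univ
    exact ⟨U, x, hU, hx, surj_of_surjective_ofChart h𝒳 (K735.Rep.repByAlgSp1_of_with hx) (Set.range_eq_univ.1 hr)⟩

end K736.QC
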