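import Groth.Agent.AlgSt.K746.WnaRep
import Groth.Agent.AlgSt.K742.Aff
import Groth.Agent.AlgSt.K735.Top
import Groth.Agent.S1881
import Groth.Agent.Grpsch.Points
import Groth.Prelude.Def_SymProd

/-!
# Finite locally free charts: the groupoid, invariant affine opens, points
-/

set_option autoImplicit false
set_option linter.unusedVariables false
set_option backward.isDefEq.respectTransparency false
set_option backward.isDefEq.respectTransparency.types false

universe w' v' w v u

open CategoryTheory CategoryTheory.Limits AlgebraicGeometry Opposite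

namespace K736.KM

open K734.Fib K746

variable {S : Scheme.{u}} {𝒳 : BasedCategory.{v, w} (Over S)} {U : Over S} {x : FibCat.overCat U ⥤ᵇ 𝒳}

theorem exists_rep (h𝒳 : FibCat.IsFibGrpd 𝒳.p) (hx : AlgSt.RepByAlgSpWith (WnaP S) x) {T : Over S}
    (z : FibCat.overCat T ⥤ᵇ 𝒳) : ∃ (W : Over S) (G : PairRep z x W),
      IsFinite G.s.left ∧ Flat G.s.left ∧ LocallyOfFinitePresentation G.s.left ∧ Surjective G.s.left := by
  obtain ⟨F, π, hP, ⟨R⟩⟩ := K738.repByAlgSpWith_iff_secRep.1 hx T z
  obtain ⟨⟨⟨h1, h2⟩, h3⟩, h4⟩ := hP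
  rw [K742.Aff.isFiniteMor_eq] at h3
  obtain ⟨W, i, fst, sq⟩ := h3.1 (𝟙 _)
  have hi := h3.2 _ _ _ sq
  have hfst : IsIso fst := sq.isIso_fst_of_isIso
  have e : (asIso fst).hom ≫ π = (AlgSp.yon S).map i := by
    rw [asIso_hom, sq.w, Category.comp_id]
  have hR := secRepOfIso R (asIso fst).symm
  rw [Iso.symm_inv, e] at hR
  have hfe : AlgSp.RepWith @Etale fst := K598.RepKit.repWith_of_isIso fst
  obtain ⟨G, hG⟩ := exists_pairRep h𝒳 hR
  obtain rfl : i = G.s := (AlgSp.yon S).map_injective hG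
  refine ⟨W, G, hi, ?_, ?_, ?_⟩
  · have := K597.locP_precomp hfe h2
    rw [show fst ≫ π = _ from e] at this
    exact AlgSp.locP_yon_map this
  · have := K597.locP_precomp hfe h4
    rw [show fst ≫ π = _ from e] at this
    exact AlgSp.locP_yon_map this
  · have h5 : AlgSp.IsSurjectiveMor ((AlgSp.yon S).map G.s) := by
      rw [← e, asIso_hom]
      intro p
      obtain ⟨q, hq⟩ := h1 p
      refine ⟨AlgSp.Points.map (inv fst) q, ?_⟩
      rw [← AlgSp.Points.map_comp, IsIso.inv_hom_id_assoc, hq]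
    exact ⟨(K609.Points.surjective_map_yon_map_iff G.s).1 h5⟩

/-- The groupoid of a finite locally free chart and invariant affine opens. -/
theorem exists_invariant (h𝒳 : FibCat.IsFibGrpd 𝒳.p) (hx : AlgSt.RepByAlgSpWith (WnaP S) x)
    (hU : SymProd.IsAF U.hom) : ∃ (R : Over S) (G : ChartRep x R), ∀ u : U.left, ∃ W : U.left.Opens,
      IsAffineOpen W ∧ u ∈ W ∧ ∀ r : R.left, G.s.left r ∈ W ↔ G.t.left r ∈ W := by
  classical
  obtain ⟨R, G, h1, h2, h3, h4⟩ := exists_rep h𝒳 hx x
  refine ⟨R, G, fun u => ?_⟩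
  let GS : Grpd.GroupoidScheme S := (ChartRep.toOGpd G h𝒳).toGpd
  have i1 : IsFinite GS.s := h1
  have i2 : Flat GS.s := h2
  have i3 : LocallyOfFinitePresentation GS.s := h3
  have j1 : IsFinite GS.t := (Groth.Agent.Grpsch.Points.s_iff_t GS @IsFinite).1 h1
  have j2 : Flat GS.t := (Groth.Agent.Grpsch.Points.s_iff_t GS @Flat).1 h2
  have j3 : LocallyOfFinitePresentation GS.t := (Groth.Agent.Grpsch.Points.s_iff_t GS @LocallyOfFinitePresentation).1 h3
  have hfin : (G.s.left ⁻¹' {u}).Finite := Scheme.Hom.finite_preimage_singleton G.s.left u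
  obtain ⟨V, hV, huV⟩ := hU (U.hom u) (hfin.toFinset.image G.t.left) (by
    intro v hv
    obtain ⟨r, hr, rfl⟩ := Finset.mem_image.1 hv
    have hr' : G.s.left r = u := by simpa using hr
    change U.hom (G.t.left r) = U.hom u
    rw [← hr', ← Scheme.Hom.comp_apply, ← Scheme.Hom.comp_apply, Over.w, Over.w])
  obtain ⟨W, hW, huW, hinv⟩ := Groth.Agent.S1881.result S GS u V hV (fun r hr => huV _ (Finset.mem_image.2
    ⟨r, hfin.mem_toFinset.2 hr, rfl⟩))
  refine ⟨W, hW, huW, fun r => ?_⟩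
  exact ⟨fun hr => (show r ∈ GS.t ⁻¹ᵁ W from hinv ▸ (show r ∈ GS.s ⁻¹ᵁ W from hr)),
    fun hr => (show r ∈ GS.s ⁻¹ᵁ W from hinv ▸ (show r ∈ GS.t ⁻¹ᵁ W from hr))⟩

/-- The field point of a slice at a point of the scheme. -/
noncomputable def fpt (u : U.left) : AlgSt.FPt (FibCat.overCat U) where
  K := ↥(U.left.residueField u)
  str := U.left.fromSpecResidueField u ≫ U.hom
  obj := Over.mk (Over.homMk (U.left.fromSpecResidueField u) rfl :
          Over.mk (U.left.fromSpecResidueField u ≫ U.hom) ⟶ U)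
  lies := rfl

/-- Points of the chart with the same image are joined by a point of the groupoid. -/
theorem exists_arr (h𝒳 : FibCat.IsFibGrpd 𝒳.p) {R : Over S} (G : ChartRep x R) {u u' : U.left}
    (h : AlgSt.Points.ofChart x u = AlgSt.Points.ofChart x u') : ∃ r : R.left, G.s.left r = u ∧ G.t.left r = u' := by
  have hU : FibCat.IsFibGrpd (FibCat.overCat U).p := K735.Fp.isFibGrpd_overCat U
  have h1 : AlgSt.FPt.Rel ((fpt u).map x) ((fpt u').map x) := (K735.Pts.mk_eq_mk_iff h𝒳).1 h
  obtain ⟨w, a, b, -⟩ := K735.Pts.exists_fp_of_rel hU hU h𝒳 x x _ _ h1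
  obtain ⟨u₁, v₁, φ, hφ, e, he⟩ := exists_mkO h𝒳 w.obj
  obtain ⟨r, hr⟩ := G.exists_pt φ hφ
  have hev : IsVert (FibCat.fp x x) e := isVert_iff.2 ⟨rfl, he⟩
  have hei : IsIso e := isIso_of_vert (isFibGrpd_fp _ _ hU hU h𝒳) hev
  -- the left legs
  let ef : (show Over U from w.obj.obj.fst) ⟶ Over.mk u₁ := (FibCat.fpFst x x).map e
  let es : (show Over U from w.obj.obj.snd) ⟶ Over.mk v₁ := (FibCat.fpSnd x x).map e
  have hes : IsIso es := inferInstanceAs (IsIso ((FibCat.fpSnd x x).toFunctor.map e))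
  have hef : ef.left = 𝟙 _ := he
  let a' : (show Over U from w.obj.obj.fst) ⟶ Over.mk (Over.homMk (U.left.fromSpecResidueField u) rfl :
    Over.mk (U.left.fromSpecResidueField u ≫ U.hom) ⟶ U) := a
  let b' : (show Over U from w.obj.obj.snd) ⟶ Over.mk (Over.homMk (U.left.fromSpecResidueField u') rfl :
    Over.mk (U.left.fromSpecResidueField u' ≫ U.hom) ⟶ U) := b
  have hne : Nonempty ((FibCat.fp x x).p.obj w.obj).left := by
    rw [w.lies]
    exact ⟨IsLocalRing.closedPoint w.K⟩
  obtain ⟨t₀⟩ := hne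
  refine ⟨r.left t₀, ?_, ?_⟩
  · have e1 : ef.left ≫ u₁ = (show Over U from w.obj.obj.fst).hom := Over.w ef
    have e2 : a'.left ≫ (Over.homMk (U.left.fromSpecResidueField u) rfl :
      Over.mk (U.left.fromSpecResidueField u ≫ U.hom) ⟶ U) = (show Over U from w.obj.obj.fst).hom := Over.w a'
    rw [hef, Category.id_comp] at e1
    have e3 : r.left ≫ G.s.left = u₁.left := congrArg CommaMorphism.left hr.hs
    have e4 : a'.left.left ≫ U.left.fromSpecResidueField u = u₁.left := congrArg CommaMorphism.left (e2.trans e1.symm)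
    have e5 : G.s.left (r.left t₀) = u₁.left t₀ := by rw [← e3, Scheme.Hom.comp_apply]
    have e6 : u₁.left t₀ = U.left.fromSpecResidueField u (a'.left.left t₀) := by rw [← e4]; rfl
    rw [e5, e6]
    exact Scheme.fromSpecResidueField_apply u _
  · have e1 : (inv es).left ≫ (show Over U from w.obj.obj.snd).hom = v₁ := Over.w (inv es)
    have e2 : b'.left ≫ (Over.homMk (U.left.fromSpecResidueField u') rfl :
      Over.mk (U.left.fromSpecResidueField u' ≫ U.hom) ⟶ U) = (show Over U from w.obj.obj.snd).hom := Over.w b'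
    have e3 : r.left ≫ G.t.left = v₁.left := congrArg CommaMorphism.left hr.ht
    have e4 : (inv es).left.left ≫ b'.left.left ≫ U.left.fromSpecResidueField u' = v₁.left :=
      (congrArg CommaMorphism.left (congrArg (fun t => (inv es).left ≫ t) e2)).trans (congrArg CommaMorphism.left e1)
    have e5 : G.t.left (r.left t₀) = v₁.left t₀ := by rw [← e3, Scheme.Hom.comp_apply]
    have e6 : v₁.left t₀ = U.left.fromSpecResidueField u' (b'.left.left ((inv es).left.left t₀)) := by rw [← e4]; rfl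
    rw [e5, e6]
    exact Scheme.fromSpecResidueField_apply u' _

end K736.KM
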