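import Groth.Agent.AlgSt.K736.BC
import Groth.Agent.AlgSt.K735.Rep
import Groth.Prelude.Def_AlgSpCov
import Groth.Prelude.Def_AlgSt3
/-!
# `RepByAlgSpWith` in terms of base changes (helper736)

`algRepWith_iff : RepByAlgSpWith P f ↔ ∀ U (y : ofSch U ⥤ᵇ 𝒴), ∃ (V : Space S) (a : V.obj ⟶ h_U), IsBC y f a.hom ∧ P a`.
-/

set_option autoImplicit false
set_option backward.isDefEq.respectTransparency false
set_option backward.isDefEq.respectTransparency.types false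

universe v₇ u₇ v₆ u₆ v₅ u₅ v₄ u₄ v₃ u₃ v₂ u₂ v u

open CategoryTheory CategoryTheory.Limits AlgebraicGeometry Opposite K736.Fib

namespace K736.Rep

variable {S : Scheme.{u}}
variable {𝒳 : BasedCategory.{v₂, u₂} (Over S)} {𝒴 : BasedCategory.{v₃, u₃} (Over S)}
  {𝒵 : BasedCategory.{v₄, u₄} (Over S)}

theorem isEquivOver_toOverCat (U : Over S) : FibCat.IsEquivOver (AlgSt.toOverCat U) :=
  K735.Rep.isEquivOver_toOverCat U

theorem isEquivOver_ofOverCat (U : Over S) : FibCat.IsEquivOver (AlgSt.ofOverCat U) :=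
  ⟨AlgSt.toOverCat U, ⟨Iso.refl _⟩, ⟨Iso.refl _⟩⟩

/-- Pullback squares of sheaves and of presheaves. -/
theorem isPullback_hom_iff {P X Y Z : AlgSp.Sp S} {p : P ⟶ X} {q : P ⟶ Y} {f : X ⟶ Z} {g : Y ⟶ Z} :
    IsPullback p.hom q.hom f.hom g.hom ↔ IsPullback p q f g :=
  ⟨fun h => IsPullback.of_map_of_faithful (sheafToPresheaf (AlgSp.J S) (Type (u + 1))) h,
    fun h => h.map (sheafToPresheaf (AlgSp.J S) (Type (u + 1)))⟩

/-- Isomorphisms of underlying presheaves are isomorphisms of sheaves. -/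
def isoOfHomIso {F G : AlgSp.Sp S} (i : F.obj ≅ G.obj) : F ≅ G :=
  (fullyFaithfulSheafToPresheaf (AlgSp.J S) _).preimageIso (X := F) (Y := G) i

theorem isoOfHomIso_hom_hom {F G : AlgSp.Sp S} (i : F.obj ≅ G.obj) : (isoOfHomIso i).hom.hom = i.hom := rfl

/-- Two base changes (sheaves) of `f` along `z` are isomorphic. -/
theorem exists_iso {V V' Z : AlgSp.Sp S} {z : AlgSt.ofSp Z ⥤ᵇ 𝒴} {f : 𝒳 ⥤ᵇ 𝒴} {a : V ⟶ Z} {b : V' ⟶ Z}
    (h : IsBC z f a.hom) (h' : IsBC z f b.hom) : ∃ i : V ≅ V', i.hom ≫ b = a := by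
  obtain ⟨i, hi⟩ := h.exists_iso h'
  exact ⟨isoOfHomIso i, ObjectProperty.hom_ext _ hi⟩

theorem of_isPullback {Z Z' V V' : AlgSp.Sp S} {a : V ⟶ Z} {z : AlgSt.ofSp Z ⥤ᵇ 𝒴} {f : 𝒳 ⥤ᵇ 𝒴} {b : Z' ⟶ Z} {p : V' ⟶ V} {q : V' ⟶ Z'}
    (h : IsBC z f a.hom) (sq : IsPullback p q a b) :
    IsBC (BasedFunctor.comp (AlgSt.ofSpMap b) z) f q.hom :=
  h.of_isPullback (isPullback_hom_iff.2 sq)

theorem exists_isPullback {Z Z' V V' : AlgSp.Sp S} {a : V ⟶ Z} {z : AlgSt.ofSp Z ⥤ᵇ 𝒴} {f : 𝒳 ⥤ᵇ 𝒴} {b : Z' ⟶ Z} {q : V' ⟶ Z'}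
    (h : IsBC z f a.hom) (h' : IsBC (BasedFunctor.comp (AlgSt.ofSpMap b) z) f q.hom) :
    ∃ p : V' ⟶ V, IsPullback p q a b := by
  obtain ⟨p, hp⟩ := IsBC.exists_isPullback (b := b.hom) (q := q.hom) h h'
  exact ⟨ObjectProperty.homMk p, isPullback_hom_iff.1 hp⟩

/-- The sheaf map of a functor into a slice names a base change. -/
theorem isBC_spMapOfOver {U : Over S} {y : FibCat.overCat U ⥤ᵇ 𝒴} {f : 𝒳 ⥤ᵇ 𝒴} {F : AlgSp.Sp S}
    {e : AlgSt.ofSp F ⥤ᵇ FibCat.fp y f} (he : FibCat.IsEquivOver e) :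
    IsBC (BasedFunctor.comp (AlgSt.toOverCat U) y) f
      (AlgSt.spMapOfOver (BasedFunctor.comp e (FibCat.fpFst y f))).hom := by
  obtain ⟨β⟩ := K735.Rep.exists_iso_spMapOfOver (BasedFunctor.comp e (FibCat.fpFst y f))
  have h1 : FibCat.IsTwoCartOver (BasedFunctor.comp e (FibCat.fpFst y f)) (BasedFunctor.comp e (FibCat.fpSnd y f))
    (isoWhiskerLeft e (FibCat.fpIso y f)) := isTwoCartOver_precomp he (isTwoCartOver_fp y f)
  refine ⟨BasedFunctor.comp e (FibCat.fpSnd y f), (isoWhiskerRight β y).symm.trans (isoWhiskerLeft e (FibCat.fpIso y f)), ?_⟩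
  rw [← isTwoCartOver_comp_equiv_iff (F := y) (isEquivOver_toOverCat U)]
  refine isTwoCartOver_of_iso (G := f) (b₂ := BasedFunctor.comp e (FibCat.fpSnd y f)) β (Iso.refl _) ?_ h1
  intro w
  have h2 := map_iso_hom_inv y (appIso β w)
  change y.map (β.hom.toNatTrans.app w) ≫ y.map (β.inv.toNatTrans.app w) ≫ (e.obj w).obj.iso.hom =
    (e.obj w).obj.iso.hom ≫ f.map (𝟙 _)
  change y.map (β.hom.toNatTrans.app w) ≫ y.map (β.inv.toNatTrans.app w) = 𝟙 _ at h2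
  have h3 : f.map (𝟙 ((FibCat.fpSnd y f).obj (e.obj w))) = 𝟙 _ := f.toFunctor.map_id _
  rw [reassoc_of% h2]
  erw [h3]
  exact (Category.comp_id _).symm

/-- Conversely a base change along `toOverCat U ⋙ y` comes from a representation of the fibre product. -/
theorem exists_equiv_of_isBC {U : Over S} {y : FibCat.overCat U ⥤ᵇ 𝒴} {f : 𝒳 ⥤ᵇ 𝒴} {F : AlgSp.Sp S}
    {a : F ⟶ (AlgSp.yon S).obj U} (h : IsBC (BasedFunctor.comp (AlgSt.toOverCat U) y) f a.hom) :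
    ∃ e : AlgSt.ofSp F ⥤ᵇ FibCat.fp y f, FibCat.IsEquivOver e ∧
      AlgSt.spMapOfOver (BasedFunctor.comp e (FibCat.fpFst y f)) = a := by
  obtain ⟨v, α, h1⟩ := h
  rw [← isTwoCartOver_comp_equiv_iff (F := y) (isEquivOver_toOverCat U)] at h1
  refine ⟨_, h1, ?_⟩
  change AlgSt.spMapOfOver (BasedFunctor.comp (AlgSt.ofSpMap a) (AlgSt.toOverCat U)) = a
  apply ObjectProperty.hom_ext
  ext T x
  change (⟨𝟙 _ ≫ (a.hom.app T x).down⟩ : ULift (T.unop ⟶ U)) = _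
  rw [Category.id_comp]
  rfl

theorem algRepWith_iff_overCat (P : MorphismProperty (AlgSp.Sp S)) (f : 𝒳 ⥤ᵇ 𝒴) : AlgSt.RepByAlgSpWith P f ↔
    ∀ (U : Over S) (y : FibCat.overCat U ⥤ᵇ 𝒴), ∃ (V : AlgSp.Space S) (a : V.obj ⟶ (AlgSp.yon S).obj U),
      IsBC (BasedFunctor.comp (AlgSt.toOverCat U) y) f a.hom ∧ P a := by
  constructor
  · intro h U y
    obtain ⟨F, e, he, hP⟩ := h U y
    exact ⟨F, _, isBC_spMapOfOver he, hP⟩
  · intro h U y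
    obtain ⟨V, a, ha, hP⟩ := h U y
    obtain ⟨e, he, rfl⟩ := exists_equiv_of_isBC ha
    exact ⟨V, e, he, hP⟩

theorem algRepWith_iff (P : MorphismProperty (AlgSp.Sp S)) (f : 𝒳 ⥤ᵇ 𝒴) : AlgSt.RepByAlgSpWith P f ↔
    ∀ (U : Over S) (y : AlgSt.ofSch U ⥤ᵇ 𝒴), ∃ (V : AlgSp.Space S) (a : V.obj ⟶ (AlgSp.yon S).obj U),
      IsBC y f a.hom ∧ P a := by
  rw [algRepWith_iff_overCat]
  constructor
  · intro h U y
    exact h U (BasedFunctor.comp (AlgSt.ofOverCat U) y)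
  · intro h U y
    exact h U _

theorem algRep1_iff (f : 𝒳 ⥤ᵇ 𝒴) : AlgSt.RepByAlgSp1 f ↔
    ∀ (U : Over S) (y : AlgSt.ofSch U ⥤ᵇ 𝒴), ∃ (V : AlgSp.Space S) (a : V.obj ⟶ (AlgSp.yon S).obj U), IsBC y f a.hom := by
  rw [K735.Rep.repByAlgSp1_iff_top, algRepWith_iff]
  exact ⟨fun h U y => by obtain ⟨V, a, ha, -⟩ := h U y; exact ⟨V, a, ha⟩,
    fun h U y => by obtain ⟨V, a, ha⟩ := h U y; exact ⟨V, a, ha, trivial⟩⟩

/-- A base change which is a presheaf isomorphic to a sheaf can be made a sheaf. -/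
theorem isSheaf_of_isBC {Z V : AlgSp.Sp S} {z : AlgSt.ofSp Z ⥤ᵇ 𝒴} {f : 𝒳 ⥤ᵇ 𝒴} {a : V ⟶ Z} (h : IsBC z f a.hom)
    {V' : (Over S)ᵒᵖ ⥤ Type (u + 1)} {b : V' ⟶ Z.obj} (h' : IsBC z f b) : Presheaf.IsSheaf (AlgSp.J S) V' := by
  obtain ⟨i, -⟩ := h.exists_iso h'
  exact (Presheaf.isSheaf_of_iso_iff i).1 V.property

/-- `P` is invariant under isomorphisms of algebraic spaces. -/
def IsoInv (P : MorphismProperty (AlgSp.Sp S)) : Prop :=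
  ∀ ⦃X Y X' : AlgSp.Sp S⦄, AlgSp.IsAlgSpace X → AlgSp.IsAlgSpace Y → ∀ (i : X' ≅ X) (a : X ⟶ Y), P a → P (i.hom ≫ a)

theorem IsoInv.of_respectsIso (P : MorphismProperty (AlgSp.Sp S)) [P.RespectsIso] : IsoInv P :=
  fun _ _ _ _ _ i a ha => MorphismProperty.RespectsIso.precomp P i.hom a ha

/-- Stability under base change in the form used by the milestones. -/
def StabBC (P : MorphismProperty (AlgSp.Sp S)) : Prop :=
  ∀ ⦃X₁ Y₁ X₂ Y₂ : AlgSp.Sp S⦄, AlgSp.IsAlgSpace X₁ → AlgSp.IsAlgSpace Y₁ → AlgSp.IsAlgSpace X₂ →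
      AlgSp.IsAlgSpace Y₂ → ∀ (a : X₁ ⟶ Y₁) (b : Y₂ ⟶ Y₁) (a' : X₂ ⟶ Y₂) (b' : X₂ ⟶ X₁),
      IsPullback b' a' a b → P a → P a'

theorem StabBC.isoInv {P : MorphismProperty (AlgSp.Sp S)} (h : StabBC P) : IsoInv P := by
  intro X Y X' hX hY i a ha
  exact h hX hY (hX.of_iso i.symm) hY a (𝟙 Y) (i.hom ≫ a) i.hom (IsPullback.of_horiz_isIso ⟨by simp⟩) ha

theorem prop_of_isBC {P : MorphismProperty (AlgSp.Sp S)} (hP : IsoInv P) {f : 𝒳 ⥤ᵇ 𝒴}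
    (hf : AlgSt.RepByAlgSpWith P f) {U : Over S} {y : AlgSt.ofSch U ⥤ᵇ 𝒴} {V : AlgSp.Sp S}
    {a : V ⟶ (AlgSp.yon S).obj U} (h : IsBC y f a.hom) : AlgSp.IsAlgSpace V ∧ P a := by
  obtain ⟨V', a', h', ha'⟩ := (algRepWith_iff P f).1 hf U y
  obtain ⟨i, rfl⟩ := exists_iso h h'
  exact ⟨V'.property.of_iso i.symm, hP V'.property (AlgSp.IsAlgSpace.yon_obj U) i a' ha'⟩

theorem isAlgSpace_of_isBC_sch {f : 𝒳 ⥤ᵇ 𝒴}
    (hf : AlgSt.RepByAlgSp1 f) {U : Over S} {y : AlgSt.ofSch U ⥤ᵇ 𝒴} {V : AlgSp.Sp S}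
    {a : V ⟶ (AlgSp.yon S).obj U} (h : IsBC y f a.hom) : AlgSp.IsAlgSpace V := by
  obtain ⟨V', a', h'⟩ := (algRep1_iff f).1 hf U y
  obtain ⟨i, rfl⟩ := exists_iso h h'
  exact V'.property.of_iso i.symm

/-- With `P` for representable `f`: it suffices that every base change to a scheme has `P`. -/
theorem algRepWith_of_forall {P : MorphismProperty (AlgSp.Sp S)} {f : 𝒳 ⥤ᵇ 𝒴} (hf : AlgSt.RepByAlgSp1 f)
    (h : ∀ (U : Over S) (y : AlgSt.ofSch U ⥤ᵇ 𝒴) (V : AlgSp.Space S) (a : V.obj ⟶ (AlgSp.yon S).obj U),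
      IsBC y f a.hom → P a) : AlgSt.RepByAlgSpWith P f := by
  rw [algRepWith_iff]
  intro U y
  obtain ⟨V, a, ha⟩ := (algRep1_iff f).1 hf U y
  exact ⟨V, a, ha, h U y V a ha⟩

end K736.Rep
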