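import Groth.Agent.AlgSt.K736.ModIso
import Groth.Agent.AlgSt.K736.KMChart
import Groth.Agent.AlgSt.K736.Rep
import Groth.Agent.AlgSp.K647.Compl
import Groth.Agent.AlgSp.K610.SchLocus
import Groth.Agent.AlgSp.K618.OpenSurj
import Groth.Agent.AlgSp.K638.QfNhd
import Groth.Agent.S10195
import Groth.Agent.S12763
import Groth.Agent.AlgSt.K746.ModUnif
import Groth.Prelude.Def_W4stkstmodspWNA

/-!
# The moduli space is a scheme when the finite locally free cover has invariant affine opens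
-/

set_option autoImplicit false
set_option linter.unusedVariables false
set_option backward.isDefEq.respectTransparency false
set_option backward.isDefEq.respectTransparency.types false

universe v u₂ u

open CategoryTheory CategoryTheory.Limits AlgebraicGeometry Opposite

namespace K736.KM

open K736.Fib K736.ModIso

variable {S : Scheme.{u}}

/-- A universal homeomorphism to an algebraic space is a homeomorphism on points. -/
theorem isHomeomorph_of_isUnivHomeo {𝒳 : AlgSt.Cat S} {M : AlgSp.Sp S} (hM : AlgSp.IsAlgSpace M) (π : 𝒳 ⥤ᵇ AlgSt.ofSp M)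
    (h : AlgSt.IsUnivHomeo Scheme.fppfPrecoverage π) : IsHomeomorph (AlgSt.Points.map π) := by
  have h1 := h (AlgSt.ofSp M) (K740.SpDM.isAlgStack_ofSp hM) (BasedFunctor.id _)
  have h2 : FibCat.IsEquivOver (FibCat.fpSnd (BasedFunctor.id (AlgSt.ofSp M)) π) :=
    isEquivOver_snd_of_isTwoCartOver (isTwoCartOver_fp _ _) (isEquivOver_id _)
  have h3 := K735.Univ.isHomeomorph_map_of_isEquivOver h2
  have h4 : ∀ p, AlgSt.Points.map (FibCat.fpFst (BasedFunctor.id (AlgSt.ofSp M)) π) p =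
      AlgSt.Points.map π (AlgSt.Points.map (FibCat.fpSnd (BasedFunctor.id (AlgSt.ofSp M)) π) p) := by
    intro p
    rw [← K735.Pts.map_comp]
    exact K735.Pts.map_congr (FibCat.fpIso (BasedFunctor.id (AlgSt.ofSp M)) π) p
  let H := h3.homeomorph
  have h5 : AlgSt.Points.map π = AlgSt.Points.map (FibCat.fpFst (BasedFunctor.id (AlgSt.ofSp M)) π) ∘ H.symm := by
    funext p
    obtain ⟨q, rfl⟩ := H.surjective p
    rw [Function.comp_apply, Homeomorph.symm_apply_apply, h4]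
    rfl
  rw [h5]
  exact h1.comp H.symm.isHomeomorph

variable {𝒳 : AlgSt.Cat S} {M : AlgSp.Sp S} {U : Over S}

open K735.SpFp K735.PtsSp in
theorem ofPt_unchart (c : FibCat.overCat U ⥤ᵇ 𝒳) (π : 𝒳 ⥤ᵇ AlgSt.ofSp M) (u : U.left) :
    AlgSp.Points.ofPt (unchart (BasedFunctor.comp c π)) u =
      ptsEquiv M (AlgSt.Points.map π (AlgSt.Points.ofChart c u)) := by
  obtain ⟨e⟩ := exists_iso_chart (BasedFunctor.comp c π)
  rw [← ptsEquiv_ofChart, ← K735.PtsSp.ofChart_congr e]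
  rfl

open K735.SpFp K735.PtsSp in
/-- The open subspace of the moduli space of an invariant open of the chart. -/
theorem exists_openSub (h𝒳 : AlgSt.IsAlgStack Scheme.fppfPrecoverage 𝒳) (hM : AlgSp.IsAlgSpace M)
    (π : 𝒳 ⥤ᵇ AlgSt.ofSp M) (hπ : AlgSt.IsUnivHomeo Scheme.fppfPrecoverage π) (c : FibCat.overCat U ⥤ᵇ 𝒳)
    (hc : AlgSt.RepByAlgSpWith (K746.WnaP S) c) {R : Over S} (G : K746.ChartRep c R) (W : U.left.Opens)
    (hW : ∀ r : R.left, G.s.left r ∈ W ↔ G.t.left r ∈ W) :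
    ∃ (M' : AlgSp.Sp S) (j : M' ⟶ M) (k : (AlgSp.yon S).obj (Over.mk (W.ι ≫ U.hom)) ⟶ M'), AlgSp.IsAlgSpace M' ∧
      AlgSp.RepWith @IsOpenImmersion j ∧
      IsPullback k ((AlgSp.yon S).map (Over.homMk W.ι rfl : Over.mk (W.ι ≫ U.hom) ⟶ U)) j
        (unchart (BasedFunctor.comp c π)) ∧
      ∀ u ∈ W, AlgSp.Points.ofPt (unchart (BasedFunctor.comp c π)) u ∈ Set.range (AlgSp.Points.map j) := by
  have hh := isHomeomorph_of_isUnivHomeo hM π hπ
  have hopen : IsOpenMap (AlgSt.Points.map c) := by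
    refine K735.Top.isOpenMap_map (P := @Flat ⊓ @LocallyOfFinitePresentation) K735.Top.isOpenMap_of_flat_lfp
      h𝒳.isStack.1 (K735.Fp.isFibGrpd_overCat U) (K735.Top.chartCont_overCat U) ?_
    exact K738.repByAlgSpWith_mono hc fun q hq => K597.locP_inf_iff.2 ⟨hq.1.1.2, hq.2⟩
  have hopen' := K735.Top.isOpenMap_ofChart c hopen
  let O : Set (AlgSp.Points M) := AlgSp.Points.ofPt (unchart (BasedFunctor.comp c π)) '' W
  have hO : O = (K735.Top.ptsHomeo hM) '' (AlgSt.Points.map π '' (AlgSt.Points.ofChart c '' W)) := by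
    rw [Set.image_image, Set.image_image]
    exact Set.image_congr fun u _ => ofPt_unchart c π u
  have hOo : IsOpen O := by
    rw [hO]
    exact (K735.Top.ptsHomeo hM).isOpenMap _ (hh.isOpenMap _ (hopen' _ W.2))
  obtain ⟨M', j, hj, hr⟩ := Groth.Agent.S10195.result ⟨M, hM⟩ O hOo
  obtain ⟨k, sq⟩ := K647.Compl.exists_isPullback_opens hj (unchart (BasedFunctor.comp c π)) W (by
    ext u
    rw [hr]
    constructor
    · intro hu
      exact ⟨u, hu, rfl⟩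
    · rintro ⟨w, hw, hwu⟩
      rw [ofPt_unchart, ofPt_unchart] at hwu
      obtain ⟨r, rfl, rfl⟩ := exists_arr h𝒳.isStack.1 G (hh.injective ((ptsEquiv M).injective hwu))
      exact (hW r).1 hw)
  refine ⟨M'.obj, j.hom, k, M'.property, hj, sq, fun u hu => ?_⟩
  rw [hr]
  exact ⟨u, hu, rfl⟩

open K735.SpFp in
/-- The chart of the open substack. -/
theorem exists_chart {M' : AlgSp.Sp S} {W : Over S} (π : 𝒳 ⥤ᵇ AlgSt.ofSp M) (c : FibCat.overCat U ⥤ᵇ 𝒳)
    (j : M' ⟶ M) (k : (AlgSp.yon S).obj W ⟶ M') (i : W ⟶ U)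
    (sq : IsPullback k ((AlgSp.yon S).map i) j (unchart (BasedFunctor.comp c π)))
    {P : MorphismProperty (AlgSp.Sp S)} (hc : AlgSt.RepByAlgSpWith P c) :
    ∃ c' : FibCat.overCat W ⥤ᵇ FibCat.fp (AlgSt.ofSpMap j) π, AlgSt.RepByAlgSpWith P c' := by
  let c₀ : AlgSt.ofSch U ⥤ᵇ 𝒳 := BasedFunctor.comp (AlgSt.toOverCat U) c
  obtain ⟨α⟩ : Nonempty (BasedFunctor.comp c₀ π ≅ AlgSt.ofSpMap (unchart (BasedFunctor.comp c π))) :=
    K735.Rep.exists_iso_spMap (BasedFunctor.comp (AlgSt.toOverCat U) (BasedFunctor.comp c π))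
  let ε : BasedFunctor.comp (AlgSt.ofSpMap k) (AlgSt.ofSpMap j) ≅
      BasedFunctor.comp (BasedFunctor.comp (AlgSt.ofSpMap ((AlgSp.yon S).map i)) c₀) π :=
    (sqIso (congrArg (fun f => f.hom) sq.w)).trans (isoWhiskerLeft (AlgSt.ofSpMap ((AlgSp.yon S).map i)) α.symm)
  let b' : AlgSt.ofSch W ⥤ᵇ FibCat.fp (AlgSt.ofSpMap j) π :=
    FibCat.fpLift (AlgSt.ofSpMap k) (BasedFunctor.comp (AlgSt.ofSpMap ((AlgSp.yon S).map i)) c₀) ε
  let e' : BasedFunctor.comp (AlgSt.ofSpMap ((AlgSp.yon S).map i)) c₀ ≅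
      BasedFunctor.comp b' (FibCat.fpSnd (AlgSt.ofSpMap j) π) := Iso.refl _
  have h1 := isTwoCartOver_paste_iff (isTwoCartOver_symm (isTwoCartOver_fp (AlgSt.ofSpMap j) π)) e'
  have h2 : FibCat.IsTwoCartOver (AlgSt.ofSpMap ((AlgSp.yon S).map i)) (AlgSt.ofSpMap k)
      (sqIso (congrArg (fun f => f.hom) sq.flip.w)) := (isTwoCartOver_ofPsh_iff _).2 (K736.Rep.isPullback_hom_iff.2 sq.flip)
  have h3 := isTwoCartOver_of_iso_cospan α.symm (Iso.refl _) h2
  have h4 := h1.1 (isTwoCartOver_congr (fun w => app_unique _ _ w) h3)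
  refine ⟨BasedFunctor.comp (AlgSt.ofOverCat W) b', (K736.Rep.algRepWith_iff P _).2 fun T z => ?_⟩
  obtain ⟨V, a, ha, hP⟩ := (K736.Rep.algRepWith_iff P c).1 hc T (BasedFunctor.comp z (FibCat.fpSnd (AlgSt.ofSpMap j) π))
  exact ⟨V, a, (isBC_comp_equiv_iff (K736.Rep.isEquivOver_ofOverCat W)).2
    ((isBC_iff_of_isTwoCartOver (isTwoCartOver_symm h4)).2
      ((isBC_comp_equiv_iff (K736.Rep.isEquivOver_toOverCat U)).2 ha)), hP⟩

/-- Categorical moduli spaces are unique. -/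
theorem exists_iso_of_isCatModuli {𝒵 : BasedCategory.{v, u₂} (Over S)} {M M' : AlgSp.Sp S} {π : 𝒵 ⥤ᵇ AlgSt.ofSp M}
    {π' : 𝒵 ⥤ᵇ AlgSt.ofSp M'} (h : AlgSt.IsCatModuli π) (h' : AlgSt.IsCatModuli π') : Nonempty (M ≅ M') := by
  obtain ⟨h1, h2⟩ := K746.isCatModuliIn_iff.1 h
  obtain ⟨h1', h2'⟩ := K746.isCatModuliIn_iff.1 h'
  obtain ⟨f, hf, -⟩ := h2 M' h1' π'
  obtain ⟨g, hg, -⟩ := h2' M h1 π
  refine ⟨⟨f, g, (h2 M h1 π).unique (fun z => ?_) (fun z => rfl), (h2' M' h1' π').unique (fun z => ?_) (fun z => rfl)⟩⟩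
  · exact (congrArg (AlgSt.ofSpMap g).obj (hf z)).trans (hg z)
  · exact (congrArg (AlgSt.ofSpMap f).obj (hg z)).trans (hf z)

/-- The interface: moduli spaces of well-nigh affine stacks. -/
def WnaMod (S : Scheme.{u}) : Prop :=
  ∀ (𝒳 : AlgSt.Cat S), AlgSt.IsAlgStack Scheme.fppfPrecoverage 𝒳 → AlgSt.IsWellNighAffine 𝒳 →
    ∃ (M : Over S) (π : 𝒳 ⥤ᵇ AlgSt.ofSch M), IsAffine M.left ∧ AlgSt.IsUnifCatModuli π ∧
      AlgSt.IsSeparatedMor π ∧ AlgSt.IsQuasiCompactMor Scheme.fppfPrecoverage π ∧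
      AlgSt.IsUnivHomeo Scheme.fppfPrecoverage π

open K735.SpFp K735.PtsSp in
/-- The moduli space is a scheme. -/
theorem isRepresentable (int : WnaMod S) (h𝒳 : AlgSt.IsAlgStack Scheme.fppfPrecoverage 𝒳)
    (π : 𝒳 ⥤ᵇ AlgSt.ofSp M) (hπ : AlgSt.IsUnifCatModuli π) (hπ' : AlgSt.IsUnivHomeo Scheme.fppfPrecoverage π)
    (c : FibCat.overCat U ⥤ᵇ 𝒳) (hc : AlgSt.RepByAlgSpWith (K746.WnaP S) c) (hU : SymProd.IsAF U.hom) :
    ∃ Y : Over S, Nonempty (M ≅ (AlgSp.yon S).obj Y) := by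
  have hM : AlgSp.IsAlgSpace M := hπ.1.1
  have key : (⟨M, hM⟩ : AlgSp.Space S).obj.obj.IsRepresentable := by
    rw [K610.SchLocus.isRepresentable_iff_forall]
    intro p
    -- a point of the chart
    have hh := isHomeomorph_of_isUnivHomeo hM π hπ'
    have hs : Function.Surjective (AlgSt.Points.ofChart c) := by
      have h1 : Function.Surjective (AlgSt.Points.map c) :=
        K735.Top.surjective_of_repByAlgSpWith h𝒳.isStack.1 (K735.Fp.isFibGrpd_overCat U)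
          (K738.repByAlgSpWith_mono hc fun q hq => hq.1.1.1)
      intro q
      obtain ⟨q', rfl⟩ := h1 q
      obtain ⟨u, rfl⟩ := (ofChart_id_bijective U).2 q'
      exact ⟨u, rfl⟩
    obtain ⟨u, hu⟩ : ∃ u : U.left, AlgSp.Points.ofPt (unchart (BasedFunctor.comp c π)) u = p := by
      obtain ⟨q, rfl⟩ := (ptsEquiv M).surjective p
      obtain ⟨q', rfl⟩ := hh.surjective q
      obtain ⟨u, rfl⟩ := hs q'
      exact ⟨u, ofPt_unchart c π u⟩
    obtain ⟨R, G, hG⟩ := exists_invariant h𝒳.isStack.1 hc hU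
    obtain ⟨W, hW, huW, hinv⟩ := hG u
    obtain ⟨M', j, k, hM', hj, sq, hr⟩ := exists_openSub h𝒳 hM π hπ' c hc G W hinv
    obtain ⟨c', hc'⟩ := exists_chart π c j k _ sq hc
    have h𝒵 : AlgSt.IsAlgStack Scheme.fppfPrecoverage (FibCat.fp (AlgSt.ofSpMap j) π) :=
      Groth.Agent.S12763.result (K740.SpDM.isAlgStack_ofSp hM).isStack (K740.SpDM.isAlgStack_ofSp hM).diag
        (K740.SpDM.isAlgStack_ofSp hM') h𝒳 _ _
    obtain ⟨N, ρ, hN, hρ, -⟩ := int _ h𝒵 ⟨Over.mk (W.ι ≫ U.hom), c', hW, hc'⟩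
    have hfl : AlgSp.LocP @Flat j := K746.ModLoc.locP_flat_of_etale (K610.OpenImm.repWith_etale_of_open hj)
    obtain ⟨e⟩ := exists_iso_of_isCatModuli hρ.1 (hπ.2 M' hM' j hfl)
    refine ⟨_, (K610.SchLocus.isSch_iff hj).2 (K618.OpenSurj.isRepresentable_of_yon_iso e), ?_⟩
    rw [← hu]
    exact hr u huW
  obtain ⟨Y, ⟨e⟩⟩ := K638.QfNhd.exists_iso_of_isRepresentable key
  exact ⟨Y, ⟨e.symm⟩⟩

end K736.KM
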