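import Groth.Agent.AlgSt.K736.Fp
/-!
# 2-cartesian squares over the base: calculus (helper736)

Pasting, symmetry, invariance under 2-isomorphisms and equivalences for `FibCat.IsTwoCartOver`.
-/

set_option autoImplicit false
set_option backward.isDefEq.respectTransparency false
set_option backward.isDefEq.respectTransparency.types false

universe v₇ u₇ v₆ u₆ v₅ u₅ v₄ u₄ v₃ u₃ v₂ u₂ v u

open CategoryTheory CategoryTheory.Limits

namespace K736.Fib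

variable {C : Type u} [Category.{v} C]

variable {𝒳 : BasedCategory.{v₂, u₂} C} {𝒴 : BasedCategory.{v₃, u₃} C} {𝒮 : BasedCategory.{v₄, u₄} C}
  {𝒲 : BasedCategory.{v₅, u₅} C}
variable {F : 𝒳 ⥤ᵇ 𝒮} {G : 𝒴 ⥤ᵇ 𝒮}

theorem isTwoCartOver_fp (F : 𝒳 ⥤ᵇ 𝒮) (G : 𝒴 ⥤ᵇ 𝒮) :
    FibCat.IsTwoCartOver (FibCat.fpFst F G) (FibCat.fpSnd F G) (FibCat.fpIso F G) :=
  isEquivOver_id _

theorem map_iso_hom_inv {𝒜 : BasedCategory.{v₂, u₂} C} {ℬ : BasedCategory.{v₃, u₃} C} (F : 𝒜 ⥤ᵇ ℬ) {x y : 𝒜.obj}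
    (i : x ≅ y) : F.map i.hom ≫ F.map i.inv = 𝟙 _ := by
  rw [← F.toFunctor.map_comp, i.hom_inv_id]; exact F.toFunctor.map_id _

theorem map_iso_inv_hom {𝒜 : BasedCategory.{v₂, u₂} C} {ℬ : BasedCategory.{v₃, u₃} C} (F : 𝒜 ⥤ᵇ ℬ) {x y : 𝒜.obj}
    (i : x ≅ y) : F.map i.inv ≫ F.map i.hom = 𝟙 _ := by
  rw [← F.toFunctor.map_comp, i.inv_hom_id]; exact F.toFunctor.map_id _

/-- The underlying morphism of the inverse of an isomorphism over an identity. -/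
theorem p_map_inv {𝒜 : BasedCategory.{v₂, u₂} C} {x y : 𝒜.obj} (i : x ≅ y) {h : 𝒜.p.obj x = 𝒜.p.obj y}
    (hi : 𝒜.p.map i.hom = eqToHom h) : 𝒜.p.map i.inv = eqToHom h.symm := by
  rw [← cancel_epi (𝒜.p.map i.hom), ← Functor.map_comp, i.hom_inv_id, hi]; simp

/-- Transposition of a 2-commutative square. -/
theorem isTwoCartOver_symm {a : 𝒲 ⥤ᵇ 𝒳} {b : 𝒲 ⥤ᵇ 𝒴} {e : BasedFunctor.comp a F ≅ BasedFunctor.comp b G}
    (h : FibCat.IsTwoCartOver a b e) : FibCat.IsTwoCartOver b a e.symm := by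
  rw [isTwoCartOver_iff] at h ⊢
  obtain ⟨h1, h2⟩ := h
  constructor
  · intro w w' g f hgf
    change G.map g ≫ e.inv.toNatTrans.app w' = e.inv.toNatTrans.app w ≫ F.map f at hgf
    have : F.map f ≫ e.hom.toNatTrans.app w' = e.hom.toNatTrans.app w ≫ G.map g := by
      have h3 := congrArg (fun t => e.hom.toNatTrans.app w ≫ t ≫ e.hom.toNatTrans.app w') hgf
      simp only [Category.assoc, inv_hom_app, hom_inv_app_assoc] at h3
      rw [← h3]; erw [Category.comp_id]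
    obtain ⟨k, ⟨hk1, hk2⟩, hk3⟩ := h1 w w' f g this
    exact ⟨k, ⟨hk2, hk1⟩, fun k' hk' => hk3 k' ⟨hk'.2, hk'.1⟩⟩
  · intro y x i hi hi'
    obtain ⟨w, f, g, h', h3, h4⟩ := h2 x y i.symm hi.symm (p_map_inv i hi')
    refine ⟨w, g, f, ?_, ?_, ?_⟩
    · rw [b.w_obj, ← a.w_obj, h', ← F.w_obj, ← hi, G.w_obj]
    · have h5 : G.map g.hom = e.inv.toNatTrans.app w ≫ F.map f.hom ≫ i.inv := by
        change F.map f.hom ≫ i.inv = _ at h4
        rw [h4]; simp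
      have h6 := p_map G g.hom
      rw [h5, Functor.map_comp, Functor.map_comp, p_map_app, p_map_inv i hi', p_map, h3] at h6
      have h7 : 𝒴.p.map g.hom = eqToHom (G.w_obj _).symm ≫ (eqToHom (G.w_obj _) ≫ 𝒴.p.map g.hom ≫ eqToHom (G.w_obj _).symm) ≫
        eqToHom (G.w_obj _) := by simp
      rw [h7, ← h6]; simp
    · change F.map f.hom ≫ i.inv = e.hom.toNatTrans.app w ≫ G.map g.hom at h4
      change G.map g.hom ≫ i.hom = e.inv.toNatTrans.app w ≫ F.map f.hom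
      rw [← cancel_epi (e.hom.toNatTrans.app w), ← reassoc_of% h4]; simp

theorem isTwoCartOver_symm_iff {a : 𝒲 ⥤ᵇ 𝒳} {b : 𝒲 ⥤ᵇ 𝒴} {e : BasedFunctor.comp a F ≅ BasedFunctor.comp b G} :
    FibCat.IsTwoCartOver b a e.symm ↔ FibCat.IsTwoCartOver a b e :=
  ⟨fun h => isTwoCartOver_symm h, isTwoCartOver_symm⟩

section Paste

variable {𝒳' : BasedCategory.{v₆, u₆} C} {𝒲' : BasedCategory.{v₇, u₇} C} {H : 𝒳' ⥤ᵇ 𝒳}

/-- The 2-isomorphism of the pasted square. -/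
def pasteIso {a : 𝒲 ⥤ᵇ 𝒳} {b : 𝒲 ⥤ᵇ 𝒴} (e : BasedFunctor.comp a F ≅ BasedFunctor.comp b G)
    {a' : 𝒲' ⥤ᵇ 𝒳'} {b' : 𝒲' ⥤ᵇ 𝒲} (e' : BasedFunctor.comp a' H ≅ BasedFunctor.comp b' a) :
    BasedFunctor.comp a' (BasedFunctor.comp H F) ≅ BasedFunctor.comp (BasedFunctor.comp b' b) G :=
  (isoWhiskerRight e' F).trans (isoWhiskerLeft b' e)

theorem pasteIso_hom_app {a : 𝒲 ⥤ᵇ 𝒳} {b : 𝒲 ⥤ᵇ 𝒴} (e : BasedFunctor.comp a F ≅ BasedFunctor.comp b G)
    {a' : 𝒲' ⥤ᵇ 𝒳'} {b' : 𝒲' ⥤ᵇ 𝒲} (e' : BasedFunctor.comp a' H ≅ BasedFunctor.comp b' a) (w : 𝒲'.obj) :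
    (pasteIso e e').hom.toNatTrans.app w = F.map (e'.hom.toNatTrans.app w) ≫ e.hom.toNatTrans.app (b'.obj w) := rfl

/-- The square obtained by pasting the 2-fibre product square of `H` and `a` with a cartesian square is cartesian. -/
theorem isTwoCartOver_paste_fp {a : 𝒲 ⥤ᵇ 𝒳} {b : 𝒲 ⥤ᵇ 𝒴} {e : BasedFunctor.comp a F ≅ BasedFunctor.comp b G}
    (h : FibCat.IsTwoCartOver a b e) (H : 𝒳' ⥤ᵇ 𝒳) :
    FibCat.IsTwoCartOver (FibCat.fpFst H a) (BasedFunctor.comp (FibCat.fpSnd H a) b)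
      (pasteIso e (FibCat.fpIso H a)) := by
  rw [isTwoCartOver_iff] at h ⊢
  obtain ⟨h1, h2⟩ := h
  constructor
  · intro w w₂ f g hfg
    change F.map (H.map f) ≫ F.map w₂.obj.iso.hom ≫ e.hom.toNatTrans.app w₂.obj.snd =
      (F.map w.obj.iso.hom ≫ e.hom.toNatTrans.app w.obj.snd) ≫ G.map g at hfg
    have hf' : F.map (w.obj.iso.inv ≫ H.map f ≫ w₂.obj.iso.hom) ≫ e.hom.toNatTrans.app w₂.obj.snd =
        e.hom.toNatTrans.app w.obj.snd ≫ G.map g := by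
      have h3 := map_iso_inv_hom F w.obj.iso
      simp only [Functor.map_comp, Category.assoc, hfg, reassoc_of% h3]
    obtain ⟨k, ⟨hk1, hk2⟩, hk3⟩ := h1 _ _ (w.obj.iso.inv ≫ H.map f ≫ w₂.obj.iso.hom) g hf'
    refine ⟨fpHom f k ?_, ⟨rfl, hk2⟩, ?_⟩
    · rw [hk1]; simp
    · rintro k' ⟨hk4, hk5⟩
      refine fp_hom_ext hk4 (hk3 _ ⟨?_, hk5⟩)
      have h4 := fp_w k'
      have h5 : k'.hom.fst = f := hk4
      rw [← h5, h4]; simp
  · intro x' y j hj hj'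
    obtain ⟨w, f, g, h', h3, h4⟩ := h2 (H.obj x') y j hj hj'
    let w₀ : (FibCat.fp H a).obj := fpMk x' w f.symm ⟨h'.symm, p_map_inv f h3⟩
    refine ⟨w₀, Iso.refl x', g, rfl, 𝒳'.p.map_id x', ?_⟩
    change F.map (H.map (𝟙 x')) ≫ j.hom = (F.map f.inv ≫ e.hom.toNatTrans.app w) ≫ G.map g.hom
    have h5 : F.map (H.map (𝟙 x')) = 𝟙 _ := by
      erw [H.toFunctor.map_id]; exact F.toFunctor.map_id _
    have h6 := map_iso_inv_hom F f
    rw [h5, Category.id_comp, Category.assoc, ← h4, reassoc_of% h6]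

/-- Pasting lemma for 2-cartesian squares. -/
theorem isTwoCartOver_paste_iff {a : 𝒲 ⥤ᵇ 𝒳} {b : 𝒲 ⥤ᵇ 𝒴} {e : BasedFunctor.comp a F ≅ BasedFunctor.comp b G}
    (h : FibCat.IsTwoCartOver a b e) {a' : 𝒲' ⥤ᵇ 𝒳'} {b' : 𝒲' ⥤ᵇ 𝒲}
    (e' : BasedFunctor.comp a' H ≅ BasedFunctor.comp b' a) :
    FibCat.IsTwoCartOver a' (BasedFunctor.comp b' b) (pasteIso e e') ↔ FibCat.IsTwoCartOver a' b' e' := by
  have hK := isTwoCartOver_paste_fp h H
  have heq : FibCat.fpLift a' (BasedFunctor.comp b' b) (pasteIso e e') =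
      BasedFunctor.comp (FibCat.fpLift a' b' e')
        (FibCat.fpLift (FibCat.fpFst H a) (BasedFunctor.comp (FibCat.fpSnd H a) b) (pasteIso e (FibCat.fpIso H a))) :=
    rfl
  constructor
  · intro h'
    rw [FibCat.IsTwoCartOver, heq] at h'
    exact isEquivOver_of_comp_right hK h'
  · intro h'
    rw [FibCat.IsTwoCartOver, heq]
    exact isEquivOver_comp h' hK

/-- Change of the 2-isomorphism and the legs of a cartesian square. -/
theorem isTwoCartOver_of_iso {a a₂ : 𝒲 ⥤ᵇ 𝒳} {b b₂ : 𝒲 ⥤ᵇ 𝒴} {e : BasedFunctor.comp a F ≅ BasedFunctor.comp b G}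
    {e₂ : BasedFunctor.comp a₂ F ≅ BasedFunctor.comp b₂ G} (α : a ≅ a₂) (β : b ≅ b₂)
    (h : ∀ w, F.map (α.hom.toNatTrans.app w) ≫ e₂.hom.toNatTrans.app w =
      e.hom.toNatTrans.app w ≫ G.map (β.hom.toNatTrans.app w))
    (he : FibCat.IsTwoCartOver a b e) : FibCat.IsTwoCartOver a₂ b₂ e₂ :=
  isEquivOver_of_iso (fpNatIso (P := FibCat.fpLift a b e) (Q := FibCat.fpLift a₂ b₂ e₂) α β h) he

/-- Change of the target functors of a cartesian square along 2-isomorphisms. -/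
theorem isTwoCartOver_of_iso_cospan {a : 𝒲 ⥤ᵇ 𝒳} {b : 𝒲 ⥤ᵇ 𝒴} {e : BasedFunctor.comp a F ≅ BasedFunctor.comp b G}
    {F₂ : 𝒳 ⥤ᵇ 𝒮} {G₂ : 𝒴 ⥤ᵇ 𝒮} (α : F ≅ F₂) (β : G ≅ G₂) (he : FibCat.IsTwoCartOver a b e) :
    FibCat.IsTwoCartOver a b (((isoWhiskerLeft a α).symm.trans e).trans (isoWhiskerLeft b β)) := by
  rw [isTwoCartOver_iff] at he ⊢
  obtain ⟨h1, h2⟩ := he
  have key : ∀ w, (((isoWhiskerLeft a α).symm.trans e).trans (isoWhiskerLeft b β)).hom.toNatTrans.app w =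
    α.inv.toNatTrans.app (a.obj w) ≫ e.hom.toNatTrans.app w ≫ β.hom.toNatTrans.app (b.obj w) := fun w => by
      change (α.inv.toNatTrans.app (a.obj w) ≫ e.hom.toNatTrans.app w) ≫ β.hom.toNatTrans.app (b.obj w) = _
      rw [Category.assoc]
  constructor
  · intro w w' f g hfg
    refine h1 w w' f g ?_
    rw [key, key] at hfg
    have h3 : F.map f ≫ α.hom.toNatTrans.app _ = α.hom.toNatTrans.app _ ≫ F₂.map f := α.hom.toNatTrans.naturality f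
    have h4 : G.map g ≫ β.hom.toNatTrans.app _ = β.hom.toNatTrans.app _ ≫ G₂.map g := β.hom.toNatTrans.naturality g
    have h5 := congrArg (fun t => α.hom.toNatTrans.app _ ≫ t ≫ β.inv.toNatTrans.app _) hfg
    simp only [Category.assoc, hom_inv_app_assoc] at h5
    rw [← reassoc_of% h3, ← reassoc_of% h4] at h5
    simp only [hom_inv_app_assoc, hom_inv_app] at h5
    have h6 : ∀ {x y : 𝒮.obj} (p : x ⟶ y), p ≫ 𝟙 y = p := fun p => Category.comp_id p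
    erw [Category.comp_id, Category.comp_id] at h5
    exact h5
  · intro x y i hi hi'
    let i' : F.obj x ≅ G.obj y := (appIso α x).trans (i.trans (appIso β y).symm)
    have hi'' : 𝒮.p.map i'.hom = eqToHom (by rw [F.w_obj, ← F₂.w_obj, hi, G₂.w_obj, ← G.w_obj]) := by
      change 𝒮.p.map (α.hom.toNatTrans.app x ≫ i.hom ≫ β.inv.toNatTrans.app y) = _
      rw [Functor.map_comp, Functor.map_comp, p_map_app, hi', p_map_app]; simp
    obtain ⟨w, f, g, h', h3, h4⟩ := h2 x y i' _ hi''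
    refine ⟨w, f, g, h', h3, ?_⟩
    rw [key]
    have h5 : F.map f.hom ≫ α.hom.toNatTrans.app _ = α.hom.toNatTrans.app _ ≫ F₂.map f.hom := α.hom.toNatTrans.naturality f.hom
    have h6 : G.map g.hom ≫ β.hom.toNatTrans.app _ = β.hom.toNatTrans.app _ ≫ G₂.map g.hom := β.hom.toNatTrans.naturality g.hom
    change F.map f.hom ≫ α.hom.toNatTrans.app x ≫ i.hom ≫ β.inv.toNatTrans.app y = _ at h4
    rw [Category.assoc, Category.assoc, ← h6, ← reassoc_of% h4]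
    simp only [inv_hom_app, Category.comp_id]
    rw [reassoc_of% h5, inv_hom_app_assoc]

end Paste

/-- In a cartesian square, the base change of an equivalence is an equivalence. -/
theorem isEquivOver_snd_of_isTwoCartOver {a : 𝒲 ⥤ᵇ 𝒳} {b : 𝒲 ⥤ᵇ 𝒴} {e : BasedFunctor.comp a F ≅ BasedFunctor.comp b G}
    (h : FibCat.IsTwoCartOver a b e) (hF : FibCat.IsEquivOver F) : FibCat.IsEquivOver b := by
  rw [isTwoCartOver_iff] at h
  rw [isEquivOver_iff'] at hF ⊢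
  obtain ⟨h1, h2⟩ := h
  obtain ⟨⟨hF1, hF2⟩, hF3⟩ := hF
  have key : ∀ {w w' : 𝒲.obj} (g : b.obj w ⟶ b.obj w'), ∃ f : a.obj w ⟶ a.obj w',
      F.map f ≫ e.hom.toNatTrans.app w' = e.hom.toNatTrans.app w ≫ G.map g := fun {w w'} g => by
    obtain ⟨f, hf⟩ := hF1.map_surjective (e.hom.toNatTrans.app w ≫ G.map g ≫ e.inv.toNatTrans.app w')
    refine ⟨f, ?_⟩
    change F.map f = _ at hf
    rw [hf]; simp only [Category.assoc, inv_hom_app]
    exact congrArg (_ ≫ ·) (Category.comp_id _)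
  refine ⟨⟨⟨fun {w w'} g => ?_⟩, ⟨fun {w w'} φ ψ hφψ => ?_⟩⟩, fun y => ?_⟩
  · obtain ⟨f, hf⟩ := key g
    obtain ⟨k, hk, -⟩ := h1 w w' f g hf
    exact ⟨k, hk.2⟩
  · have hφψ' : b.map φ = b.map ψ := hφψ
    obtain ⟨k, -, hk⟩ := h1 w w' (a.map φ) (b.map φ) (e.hom.toNatTrans.naturality φ)
    rw [hk φ ⟨rfl, rfl⟩, hk ψ ⟨?_, hφψ'.symm⟩]
    apply hF2.map_injective
    have h3 : F.map (a.map φ) ≫ e.hom.toNatTrans.app w' = e.hom.toNatTrans.app w ≫ G.map (b.map φ) :=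
      e.hom.toNatTrans.naturality φ
    have h4 : F.map (a.map ψ) ≫ e.hom.toNatTrans.app w' = e.hom.toNatTrans.app w ≫ G.map (b.map ψ) :=
      e.hom.toNatTrans.naturality ψ
    rw [← hφψ', ← h3] at h4
    exact (cancel_mono (e.hom.toNatTrans.app w')).1 h4
  · obtain ⟨x, i, hi, hi'⟩ := hF3 (G.obj y)
    obtain ⟨w, f, g, h', h3, h4⟩ := h2 x y i hi hi'
    have h5 : G.map g.hom = e.inv.toNatTrans.app w ≫ F.map f.hom ≫ i.hom := by rw [h4]; simp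
    have h8 : 𝒴.p.obj (b.obj w) = 𝒴.p.obj y := by
      rw [b.w_obj, ← a.w_obj, h', ← F.w_obj]; rw [← G.w_obj]; exact hi
    refine ⟨w, g, h8, ?_⟩
    have h6 := p_map G g.hom
    rw [h5, Functor.map_comp, Functor.map_comp, p_map_app, hi', p_map, h3] at h6
    have h7 : 𝒴.p.map g.hom = eqToHom (G.w_obj _).symm ≫ (eqToHom (G.w_obj _) ≫ 𝒴.p.map g.hom ≫ eqToHom (G.w_obj _).symm) ≫
      eqToHom (G.w_obj _) := by simp
    rw [h7, ← h6]; simp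

theorem isEquivOver_fst_of_isTwoCartOver {a : 𝒲 ⥤ᵇ 𝒳} {b : 𝒲 ⥤ᵇ 𝒴} {e : BasedFunctor.comp a F ≅ BasedFunctor.comp b G}
    (h : FibCat.IsTwoCartOver a b e) (hG : FibCat.IsEquivOver G) : FibCat.IsEquivOver a :=
  isEquivOver_snd_of_isTwoCartOver (isTwoCartOver_symm h) hG

/-- A 2-commutative square with two opposite equivalences is cartesian. -/
theorem isTwoCartOver_of_isEquivOver {a : 𝒲 ⥤ᵇ 𝒳} {b : 𝒲 ⥤ᵇ 𝒴} (e : BasedFunctor.comp a F ≅ BasedFunctor.comp b G)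
    (hF : FibCat.IsEquivOver F) (hb : FibCat.IsEquivOver b) : FibCat.IsTwoCartOver a b e := by
  have h := isEquivOver_snd_of_isTwoCartOver (isTwoCartOver_fp F G) hF
  have h2 : FibCat.IsEquivOver (BasedFunctor.comp (FibCat.fpLift a b e) (FibCat.fpSnd F G)) := hb
  exact isEquivOver_of_comp_right h h2

theorem isTwoCartOver_of_isEquivOver' {a : 𝒲 ⥤ᵇ 𝒳} {b : 𝒲 ⥤ᵇ 𝒴} (e : BasedFunctor.comp a F ≅ BasedFunctor.comp b G)
    (hG : FibCat.IsEquivOver G) (ha : FibCat.IsEquivOver a) : FibCat.IsTwoCartOver a b e :=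
  isTwoCartOver_symm (isTwoCartOver_of_isEquivOver e.symm hG ha)

end K736.Fib
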