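import Mathlib.Topology.Spectral.Basic
import Mathlib.Topology.Spectral.Hom
import Mathlib.Topology.Spectral.ConstructibleTopology
/-!
# Quotients of spectral spaces by spectral open equivalence relations (helper736)

`spectralSpace_of_quotient`: let `U`, `R` be spectral, `s t : R → U` spectral maps and `π : U → W` continuous, open and
surjective with `π u = π u' ↔ ∃ r, s r = u ∧ t r = u'`.  Then `W` is spectral.
-/

set_option autoImplicit false

universe u v w

open Topology TopologicalSpace Set

namespace K736.Topo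

variable {U : Type u} [TopologicalSpace U]

/-- Closed in the constructible topology. -/
def Pro (s : Set U) : Prop := IsClosed[constructibleTopology U] s

theorem Pro.of_isCompact {s : Set U} (hs : IsCompact s) (ho : IsOpen s) : Pro s :=
  @IsClosed.mk U (constructibleTopology U) s
    (IsCompact.isOpen_constructibleTopology_of_isClosed (by rwa [compl_compl]) ho.isClosed_compl)

theorem Pro.compl_of_isCompact {s : Set U} (hs : IsCompact s) (ho : IsOpen s) : Pro sᶜ :=
  @IsClosed.mk U (constructibleTopology U) sᶜ (by rw [compl_compl]; exact hs.isOpen_constructibleTopology_of_isOpen ho)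

theorem Pro.inter {s t : Set U} (hs : Pro s) (ht : Pro t) : Pro (s ∩ t) :=
  @IsClosed.inter U s t (constructibleTopology U) hs ht

theorem Pro.union {s t : Set U} (hs : Pro s) (ht : Pro t) : Pro (s ∪ t) :=
  @IsClosed.union U s t (constructibleTopology U) hs ht

theorem Pro.iInter {ι : Sort v} {s : ι → Set U} (hs : ∀ i, Pro (s i)) : Pro (⋂ i, s i) :=
  @isClosed_iInter U ι (constructibleTopology U) s hs

theorem Pro.of_isClosed [PrespectralSpace U] {s : Set U} (hs : IsClosed s) : Pro s := by
  have h : s = ⋂ V : {V : Set U // IsOpen V ∧ IsCompact V ∧ V ⊆ sᶜ}, V.1ᶜ := by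
    ext x
    simp only [mem_iInter, mem_compl_iff, Subtype.forall]
    constructor
    · exact fun hx V hV hxV => hV.2.2 hxV hx
    · intro h
      by_contra hx
      obtain ⟨V, ⟨hV1, hV2⟩, hxV, hVs⟩ := PrespectralSpace.isTopologicalBasis.exists_subset_of_mem_open
        (show x ∈ sᶜ from hx) hs.isOpen_compl
      exact h V ⟨hV1, hV2, hVs⟩ hxV
  rw [h]
  exact Pro.iInter fun V => Pro.compl_of_isCompact V.2.2.1 V.2.1

/-- The set of generizations of a point. -/
theorem generizations_eq [PrespectralSpace U] (x : U) :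
    {y | y ⤳ x} = ⋂ V : {V : Set U // IsOpen V ∧ IsCompact V ∧ x ∈ V}, V.1 := by
  ext y
  simp only [mem_ofPred_eq, mem_iInter, Subtype.forall]
  constructor
  · exact fun h V hV => h.mem_open hV.1 hV.2.2
  · intro h
    rw [specializes_iff_forall_open]
    intro V hV hx
    obtain ⟨V', ⟨h1, h2⟩, h3, h4⟩ := PrespectralSpace.isTopologicalBasis.exists_subset_of_mem_open hx hV
    exact h4 (h V' ⟨h1, h2, h3⟩)

theorem pro_generizations [PrespectralSpace U] (x : U) : Pro {y | y ⤳ x} := by
  rw [generizations_eq]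
  exact Pro.iInter fun V => Pro.of_isCompact V.2.2.1 V.2.1

theorem pro_singleton [PrespectralSpace U] [T0Space U] (x : U) : Pro {x} := by
  have : ({x} : Set U) = {y | y ⤳ x} ∩ closure {x} := by
    ext y
    simp only [mem_singleton_iff, mem_inter_iff, mem_ofPred_eq]
    constructor
    · rintro rfl
      exact ⟨specializes_rfl, subset_closure rfl⟩
    · rintro ⟨h1, h2⟩
      exact (h1.antisymm (specializes_iff_mem_closure.2 h2)).eq
  rw [this]
  exact (pro_generizations x).inter (Pro.of_isClosed isClosed_closure)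

theorem compactSpace_cons [SpectralSpace U] : @CompactSpace U (constructibleTopology U) :=
  @Function.Surjective.compactSpace (WithConstructibleTopology U) U _ (constructibleTopology U)
    (WithTopology.ofTopology (t := constructibleTopology U)) (WithTopology.continuous_ofTopology _) inferInstance
    (WithTopology.ofTopology_surjective _)

theorem t2Space_cons [PrespectralSpace U] [T0Space U] : @T2Space U (constructibleTopology U) := by
  refine @T2Space.mk U (constructibleTopology U) fun x y hxy => ?_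
  have key : ∀ x y : U, (¬ y ⤳ x) → ∃ V : Set U, IsOpen V ∧ IsCompact V ∧ x ∈ V ∧ y ∉ V := by
    intro x y h
    have : y ∉ {y | y ⤳ x} := h
    rw [generizations_eq] at this
    simp only [mem_iInter, Subtype.forall, not_forall] at this
    obtain ⟨V, ⟨h1, h2, h3⟩, h4⟩ := this
    exact ⟨V, h1, h2, h3, h4⟩
  by_cases h : y ⤳ x
  · have h' : ¬ x ⤳ y := fun h' => hxy (h'.antisymm h).eq
    obtain ⟨V, h1, h2, h3, h4⟩ := key y x h'
    exact ⟨Vᶜ, V, IsCompact.isOpen_constructibleTopology_of_isClosed (by rwa [compl_compl]) h1.isClosed_compl,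
      h2.isOpen_constructibleTopology_of_isOpen h1, h4, h3, disjoint_compl_left⟩
  · obtain ⟨V, h1, h2, h3, h4⟩ := key x y h
    exact ⟨V, Vᶜ, h2.isOpen_constructibleTopology_of_isOpen h1,
      IsCompact.isOpen_constructibleTopology_of_isClosed (by rwa [compl_compl]) h1.isClosed_compl,
      h3, h4, disjoint_compl_right⟩

/-- Finite intersection property for closed subsets of the constructible topology. -/
theorem nonempty_iInter [SpectralSpace U] {ι : Type v} {s : ι → Set U} (hs : ∀ i, Pro (s i))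
    (h : ∀ t : Finset ι, (⋂ i ∈ t, s i).Nonempty) : (⋂ i, s i).Nonempty :=
  @CompactSpace.iInter_nonempty U (constructibleTopology U) ι compactSpace_cons s hs h

/-- Directed version. -/
theorem nonempty_iInter_of_directed [SpectralSpace U] {ι : Type v} [Nonempty ι] {s : ι → Set U} (hs : ∀ i, Pro (s i))
    (hd : Directed (· ⊇ ·) s) (h : ∀ i, (s i).Nonempty) : (⋂ i, s i).Nonempty :=
  @IsCompact.nonempty_iInter_of_directed_nonempty_isCompact_isClosed U (constructibleTopology U) ι _ s hd h
    (fun i => @IsClosed.isCompact U (constructibleTopology U) _ compactSpace_cons (hs i)) hs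

variable {R : Type v} [TopologicalSpace R] {W : Type w} [TopologicalSpace W]

theorem continuous_cons {f : R → U} (hf : IsSpectralMap f) :
    @Continuous R U (constructibleTopology R) (constructibleTopology U) f := by
  refine (@continuous_generateFrom_iff _ _ f (constructibleTopology R) _).2 ?_
  rintro V (⟨h1, h2⟩ | ⟨h1, h2⟩)
  · exact (h2.preimage_of_isOpen hf h1).isOpen_constructibleTopology_of_isOpen (h1.preimage hf.continuous)
  · refine IsCompact.isOpen_constructibleTopology_of_isClosed ?_ (h1.preimage hf.continuous)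
    rw [← preimage_compl]
    exact h2.preimage_of_isOpen hf h1.isOpen_compl

theorem Pro.preimage {f : R → U} (hf : IsSpectralMap f) {s : Set U} (hs : Pro s) : Pro (f ⁻¹' s) :=
  @IsClosed.preimage R U (constructibleTopology R) (constructibleTopology U) f (continuous_cons hf) s hs

theorem Pro.image [SpectralSpace R] [SpectralSpace U] {f : R → U} (hf : IsSpectralMap f) {s : Set R} (hs : Pro s) :
    Pro (f '' s) :=
  @IsCompact.isClosed U (constructibleTopology U) t2Space_cons _
    (@IsCompact.image R U (constructibleTopology R) (constructibleTopology U) s f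
      (@IsClosed.isCompact R (constructibleTopology R) _ compactSpace_cons hs) (continuous_cons hf))

/-- A nonempty pro-constructible subset of a spectral space contains a point without proper generizations in it. -/
theorem exists_maximal [SpectralSpace U] {s : Set U} (hs : Pro s) (hne : s.Nonempty) :
    ∃ x ∈ s, ∀ y ∈ s, y ⤳ x → y = x := by
  have : Nonempty s := hne.to_subtype
  obtain ⟨m, hm⟩ := exists_maximal_of_nonempty_chains_bounded (α := s) (r := fun a b => b.1 ⤳ a.1) (fun c hc hc' => by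
    have : Nonempty c := hc'.to_subtype
    obtain ⟨y, hy⟩ := nonempty_iInter_of_directed (U := U) (s := fun a : c => {y | y ⤳ a.1.1} ∩ s)
      (fun a => (pro_generizations _).inter hs) (fun a b => by
        by_cases hab : a.1 = b.1
        · obtain rfl : a = b := Subtype.ext hab
          exact ⟨a, subset_rfl, subset_rfl⟩
        · rcases hc a.2 b.2 hab with h | h
          · exact ⟨b, fun y hy => ⟨(show y ⤳ b.1.1 from hy.1).trans h, hy.2⟩, subset_rfl⟩
          · exact ⟨a, subset_rfl, fun y hy => ⟨(show y ⤳ a.1.1 from hy.1).trans h, hy.2⟩⟩)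
      (fun a => ⟨a.1.1, specializes_rfl, a.1.2⟩)
    rw [mem_iInter] at hy
    obtain ⟨a⟩ := ‹Nonempty c›
    exact ⟨⟨y, (hy a).2⟩, fun b hb => (hy ⟨b, hb⟩).1⟩) (fun h1 h2 => h2.trans h1)
  exact ⟨m.1, m.2, fun y hy h => (h.antisymm (hm ⟨y, hy⟩ h)).eq⟩

/-- **Quotient of a spectral space by an open spectral equivalence relation.** -/
theorem spectralSpace_of_quotient [SpectralSpace U] [SpectralSpace R] {s t : R → U} (hs : IsSpectralMap s)
    (ht : IsSpectralMap t) {π : U → W} (hπ : Continuous π) (hπo : IsOpenMap π) (hπs : Function.Surjective π)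
    (h : ∀ u u', π u = π u' ↔ ∃ r, s r = u ∧ t r = u') : SpectralSpace W := by
  have hrange : ∀ A : Set W, A ⊆ range π := fun A => by rw [hπs.range_eq]; exact subset_univ _
  -- saturation
  have hsat : ∀ A : Set U, π ⁻¹' (π '' A) = t '' (s ⁻¹' A) := by
    intro A
    ext u
    constructor
    · rintro ⟨a, ha, hau⟩
      obtain ⟨r, rfl, rfl⟩ := (h a u).1 hau
      exact ⟨r, ha, rfl⟩
    · rintro ⟨r, hr, rfl⟩
      exact ⟨s r, hr, (h _ _).2 ⟨r, rfl, rfl⟩⟩
  -- preimages of compact opens are compact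
  have hpre : ∀ A : Set W, IsOpen A → IsCompact A → IsCompact (π ⁻¹' A) := by
    intro A hA hA'
    obtain ⟨V, hV, rfl⟩ := IsOpenMap.exists_opens_image_eq_of_prespectralSpace hπ hπo (hrange A) hA hA'
    have h1 : IsCompact (s ⁻¹' (V : Set U)) := hV.preimage_of_isOpen hs V.2
    rw [hsat]
    exact h1.image ht.continuous
  -- fibres are pro-constructible
  have hfib : ∀ w : W, Pro (π ⁻¹' {w}) := by
    intro w
    obtain ⟨a, rfl⟩ := hπs w
    rw [← image_singleton, hsat]
    exact ((pro_singleton a).preimage hs).image ht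
  have hcompact : CompactSpace W := ⟨by rw [← hπs.range_eq]; exact isCompact_range hπ⟩
  have hprespectral : PrespectralSpace W := by
    refine PrespectralSpace.of_isTopologicalBasis (B := Set.image π '' {V : Set U | IsOpen V ∧ IsCompact V})
      (PrespectralSpace.isTopologicalBasis.isQuotientMap (hπo.isQuotientMap hπ hπs) hπo) ?_
    rintro _ ⟨V, hV, rfl⟩
    exact hV.2.image hπ
  have hqs : QuasiSeparatedSpace W := by
    refine ⟨fun A B hA hA' hB hB' => ?_⟩
    have h1 : A ∩ B = π '' (π ⁻¹' A ∩ π ⁻¹' B) := by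
      rw [← preimage_inter, image_preimage_eq _ hπs]
    rw [h1]
    exact (QuasiSeparatedSpace.inter_isCompact _ _ (hA.preimage hπ) (hpre A hA hA') (hB.preimage hπ)
      (hpre B hB hB')).image hπ
  have hT0 : T0Space W := by
    refine ⟨fun w w' hww => ?_⟩
    by_contra hne
    -- every point of a fibre has a generization in the other fibre
    have key : ∀ w w' : W, Inseparable w w' → ∀ a ∈ π ⁻¹' {w}, ∃ b ∈ π ⁻¹' {w'}, b ⤳ a := by
      intro w w' hww a ha
      have hne : ∀ V : {V : Set U // IsOpen V ∧ IsCompact V ∧ a ∈ V}, (V.1 ∩ π ⁻¹' {w'}).Nonempty := by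
        rintro ⟨V, hV, -, haV⟩
        have h1 : w' ∈ π '' V := (hww.mem_open_iff (hπo V hV)).1 ⟨a, haV, ha⟩
        obtain ⟨b, hb, hb'⟩ := h1
        exact ⟨b, hb, hb'⟩
      obtain ⟨V₀, hV₀, haV₀, -⟩ := PrespectralSpace.isTopologicalBasis.exists_subset_of_mem_open (mem_univ a) isOpen_univ
      have : Nonempty {V : Set U // IsOpen V ∧ IsCompact V ∧ a ∈ V} := ⟨⟨V₀, hV₀.1, hV₀.2, haV₀⟩⟩
      obtain ⟨b, hb⟩ := nonempty_iInter_of_directed (U := U)
        (s := fun V : {V : Set U // IsOpen V ∧ IsCompact V ∧ a ∈ V} => V.1 ∩ π ⁻¹' {w'})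
        (fun V => (Pro.of_isCompact V.2.2.1 V.2.1).inter (hfib w')) (fun V V' =>
          ⟨⟨V.1 ∩ V'.1, V.2.1.inter V'.2.1, QuasiSeparatedSpace.inter_isCompact _ _ V.2.1 V.2.2.1 V'.2.1 V'.2.2.1,
            V.2.2.2, V'.2.2.2⟩, fun x hx => ⟨hx.1.1, hx.2⟩, fun x hx => ⟨hx.1.2, hx.2⟩⟩) hne
      rw [mem_iInter] at hb
      refine ⟨b, (hb ⟨V₀, hV₀.1, hV₀.2, haV₀⟩).2, ?_⟩
      have h2 : b ∈ {y | y ⤳ a} := by
        rw [generizations_eq]
        exact mem_iInter.2 fun V => (hb V).1
      exact h2
    obtain ⟨a₀, ha₀⟩ := hπs w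
    obtain ⟨m, hm, hm'⟩ := exists_maximal ((hfib w).union (hfib w')) ⟨a₀, Or.inl ha₀⟩
    rcases hm with hm | hm
    · obtain ⟨b, hb, hbm⟩ := key w w' hww m hm
      have := hm' b (Or.inr hb) hbm
      subst this
      exact hne (Eq.trans (Eq.symm hm) hb)
    · obtain ⟨b, hb, hbm⟩ := key w' w hww.symm m hm
      have := hm' b (Or.inl hb) hbm
      subst this
      exact hne (Eq.trans (Eq.symm hb) hm)
  have hsober : QuasiSober W := by
    refine ⟨fun {Z} hZ hZc => ?_⟩
    -- the compact opens meeting `Z`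
    let ι := {A : Set W // IsOpen A ∧ IsCompact A ∧ (Z ∩ A).Nonempty}
    obtain ⟨z, hz⟩ := hZ.nonempty
    obtain ⟨A₀, hA₀, hzA₀, -⟩ := PrespectralSpace.isTopologicalBasis.exists_subset_of_mem_open (mem_univ z) isOpen_univ
    have : Nonempty ι := ⟨⟨A₀, hA₀.1, hA₀.2, z, hz, hzA₀⟩⟩
    obtain ⟨u, hu⟩ := nonempty_iInter_of_directed (U := U) (s := fun A : ι => π ⁻¹' Z ∩ π ⁻¹' A.1)
      (fun A => (Pro.of_isClosed (hZc.preimage hπ)).inter (Pro.of_isCompact (hpre A.1 A.2.1 A.2.2.1) (A.2.1.preimage hπ)))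
      (fun A B => ⟨⟨A.1 ∩ B.1, A.2.1.inter B.2.1, QuasiSeparatedSpace.inter_isCompact _ _ A.2.1 A.2.2.1 B.2.1 B.2.2.1,
        hZ.2 A.1 B.1 A.2.1 B.2.1 A.2.2.2 B.2.2.2⟩, fun x hx => ⟨hx.1, hx.2.1⟩, fun x hx => ⟨hx.1, hx.2.2⟩⟩)
      (fun A => by
        obtain ⟨z, hz, hzA⟩ := A.2.2.2
        obtain ⟨a, rfl⟩ := hπs z
        exact ⟨a, hz, hzA⟩)
    rw [mem_iInter] at hu
    refine ⟨π u, ?_⟩
    refine Subset.antisymm (hZc.closure_subset_iff.2 (singleton_subset_iff.2 (hu ⟨A₀, hA₀.1, hA₀.2, z, hz, hzA₀⟩).1)) ?_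
    intro z' hz'
    rw [mem_closure_iff]
    intro O hO hz'O
    obtain ⟨A, hA, hzA, hAO⟩ := PrespectralSpace.isTopologicalBasis.exists_subset_of_mem_open hz'O hO
    exact ⟨π u, hAO (hu ⟨A, hA.1, hA.2, z', hz', hzA⟩).2, rfl⟩
  exact { }

end K736.Topo
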