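import Groth.Agent.AlgSt.K736.QC
import Groth.Agent.AlgSt.K736.Topo
import Groth.Agent.AlgSt.K745.DiagQcAux
/-!
# Spectral spaces of points (helper736): S12834, S12835

`exists_relation`: for an affine chart `x : (Sch/U) → 𝒳` of a stack with quasi-compact diagonal over a quasi-separated
base, the equivalence relation `ofChart x u = ofChart x u'` on `U` is the image of an affine scheme `R`.
-/

set_option autoImplicit false
set_option backward.isDefEq.respectTransparency false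
set_option backward.isDefEq.respectTransparency.types false

universe v₂ u₂ v u

open CategoryTheory CategoryTheory.Limits AlgebraicGeometry Opposite K736.Fib K736.Rep K736.Cover K736.Props K736.Prod
  K736.QC AlgSp

namespace K736.Spectral

variable {S : Scheme.{u}} {𝒳 : BasedCategory.{v₂, u₂} (Over S)} {K : Precoverage Scheme.{u}}

/-- The product of `U` and `U'` over `S`. -/
noncomputable def prodOver (U U' : Over S) : Over S := Over.mk (pullback.fst U.hom U'.hom ≫ U.hom)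

noncomputable def pr₁ (U U' : Over S) : prodOver U U' ⟶ U := Over.homMk (pullback.fst U.hom U'.hom) rfl

noncomputable def pr₂ (U U' : Over S) : prodOver U U' ⟶ U' := Over.homMk (pullback.snd U.hom U'.hom) pullback.condition.symm

theorem exists_lift {U U' T : Over S} (a : T ⟶ U) (b : T ⟶ U') :
    ∃ c : T ⟶ prodOver U U', c ≫ pr₁ U U' = a ∧ c ≫ pr₂ U U' = b := by
  have w : a.left ≫ U.hom = b.left ≫ U'.hom := (Over.w a).trans (Over.w b).symm
  refine ⟨Over.homMk (pullback.lift a.left b.left w) ?_, ?_, ?_⟩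
  · change pullback.lift a.left b.left w ≫ pullback.fst U.hom U'.hom ≫ U.hom = T.hom
    rw [pullback.lift_fst_assoc]
    exact Over.w a
  · ext1
    exact pullback.lift_fst _ _ _
  · ext1
    exact pullback.lift_snd _ _ _

instance compactSpace_prodOver [QuasiSeparatedSpace S] (U U' : Over S) [CompactSpace ↥U.left] [CompactSpace ↥U'.left] :
    CompactSpace ↥(prodOver U U').left := by
  have h1 : QuasiCompact U'.hom := quasiCompact_of_compactSpace U'.hom
  have h2 : QuasiCompact (pullback.fst U.hom U'.hom) := inferInstance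
  exact (QuasiCompact.compactSpace_of_compactSpace (pullback.fst U.hom U'.hom) : CompactSpace ↥(pullback U.hom U'.hom))

/-- Points of a chart with the same image, in terms of the diagonal. -/
theorem ofChart_eq_iff (h𝒳 : FibCat.IsFibGrpd 𝒳.p) {U : Over S} (x : FibCat.overCat U ⥤ᵇ 𝒳) (u u' : ↥U.left) :
    AlgSt.Points.ofChart x u = AlgSt.Points.ofChart x u' ↔
      ∃ (w : ↥(prodOver U U).left) (z : AlgSt.Points 𝒳), (pr₁ U U).left w = u ∧ (pr₂ U U).left w = u' ∧
        AlgSt.Points.ofChart (K745.DiagAtlas.sq (pr₁ U U) (pr₂ U U) x x) w =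
          AlgSt.Points.map (FibCat.diag (FibCat.toSelf 𝒳)) z := by
  constructor
  · intro h
    obtain ⟨w, hw1, hw2⟩ := K735.Pts.exists_fp (K736.Fib.isFibGrpd_overCat U) (K736.Fib.isFibGrpd_overCat U) h𝒳 x x
      (AlgSt.Points.ofChart (BasedFunctor.id _) u) (AlgSt.Points.ofChart (BasedFunctor.id _) u') h
    obtain ⟨L, _, s, ω, hω⟩ := K735.Top.exists_fpt_chart
      (K735.Fp.isFibGrpd_fp (K736.Fib.isFibGrpd_overCat U) (K736.Fib.isFibGrpd_overCat U) h𝒳 x x) w
    let t : ↥(Over.mk s : Over S).left := IsLocalRing.closedPoint L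
    obtain ⟨a, ⟨ia⟩⟩ := K735.Top.exists_iso_overMap (BasedFunctor.comp ω (FibCat.fpFst x x))
    obtain ⟨b, ⟨ib⟩⟩ := K735.Top.exists_iso_overMap (BasedFunctor.comp ω (FibCat.fpSnd x x))
    obtain ⟨c, hc1, hc2⟩ := exists_lift a b
    obtain ⟨m₁⟩ := K745.Lift.exists_overMapComp c (pr₁ U U)
    obtain ⟨m₂⟩ := K745.Lift.exists_overMapComp c (pr₂ U U)
    rw [hc1] at m₁
    rw [hc2] at m₂
    have hinj := (K735.PtsSp.ofChart_id_bijective U).1
    have hwa : a.left t = u := by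
      apply hinj
      rw [← hw1, ← hω t, K735.PtsSp.map_ofChart, K735.PtsSp.ofChart_congr ia, ← K735.PtsSp.ofChart_overMap]
      rfl
    have hwb : b.left t = u' := by
      apply hinj
      rw [← hw2, ← hω t, K735.PtsSp.map_ofChart, K735.PtsSp.ofChart_congr ib, ← K735.PtsSp.ofChart_overMap]
      rfl
    -- the two pullbacks of `x` are isomorphic
    have iab : BasedFunctor.comp (AlgSt.overMap b) x ≅ BasedFunctor.comp (AlgSt.overMap a) x :=
      (K735.Fib.whiskerRightIso ib.symm x : BasedFunctor.comp (AlgSt.overMap b) x ≅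
          BasedFunctor.comp (BasedFunctor.comp ω (FibCat.fpSnd x x)) x) ≪≫
        (K735.Fib.whiskerLeftIso ω (FibCat.fpIso x x).symm : BasedFunctor.comp ω (BasedFunctor.comp (FibCat.fpSnd x x) x) ≅
          BasedFunctor.comp ω (BasedFunctor.comp (FibCat.fpFst x x) x)) ≪≫
        (K735.Fib.whiskerRightIso ia x : BasedFunctor.comp (BasedFunctor.comp ω (FibCat.fpFst x x)) x ≅
          BasedFunctor.comp (AlgSt.overMap a) x)
    have key : BasedFunctor.comp (AlgSt.overMap c) (K745.DiagAtlas.sq (pr₁ U U) (pr₂ U U) x x) ≅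
        BasedFunctor.comp (BasedFunctor.comp (AlgSt.overMap a) x) (FibCat.diag (FibCat.toSelf 𝒳)) :=
      K735.Prod.prodExt
        (K735.Fib.whiskerRightIso m₁ x : BasedFunctor.comp (AlgSt.overMap c) (BasedFunctor.comp (AlgSt.overMap (pr₁ U U)) x) ≅
          BasedFunctor.comp (AlgSt.overMap a) x)
        ((K735.Fib.whiskerRightIso m₂ x : BasedFunctor.comp (AlgSt.overMap c) (BasedFunctor.comp (AlgSt.overMap (pr₂ U U)) x) ≅
          BasedFunctor.comp (AlgSt.overMap b) x) ≪≫ iab)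
    refine ⟨c.left t, AlgSt.Points.ofChart (BasedFunctor.comp (AlgSt.overMap a) x) t, ?_, ?_, ?_⟩
    · rw [← hwa, ← hc1]
      rfl
    · rw [← hwb, ← hc2]
      rfl
    · rw [← K735.PtsSp.ofChart_overMap, K735.PtsSp.ofChart_congr key]
      rfl
  · rintro ⟨w, z, rfl, rfl, h⟩
    have h1 := congrArg (AlgSt.Points.map (FibCat.fpFst (FibCat.toSelf 𝒳) (FibCat.toSelf 𝒳))) h
    have h2 := congrArg (AlgSt.Points.map (FibCat.fpSnd (FibCat.toSelf 𝒳) (FibCat.toSelf 𝒳))) h
    rw [← K735.Pts.map_comp] at h1 h2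
    have e1 : BasedFunctor.comp (FibCat.diag (FibCat.toSelf 𝒳)) (FibCat.fpFst (FibCat.toSelf 𝒳) (FibCat.toSelf 𝒳)) =
      BasedFunctor.id 𝒳 := rfl
    have e2 : BasedFunctor.comp (FibCat.diag (FibCat.toSelf 𝒳)) (FibCat.fpSnd (FibCat.toSelf 𝒳) (FibCat.toSelf 𝒳)) =
      BasedFunctor.id 𝒳 := rfl
    rw [e1, K735.Pts.map_id, K735.PtsSp.map_ofChart] at h1
    rw [e2, K735.Pts.map_id, K735.PtsSp.map_ofChart] at h2
    rw [← K735.PtsSp.ofChart_overMap, ← K735.PtsSp.ofChart_overMap]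
    exact h1.trans h2.symm

/-- For an affine chart of a stack with quasi-compact diagonal, the relation "same image in `|𝒳|`" is the image of an
affine scheme. -/
theorem exists_relation [QuasiSeparatedSpace S] (h𝒳 : FibCat.IsFibGrpd 𝒳.p)
    (hΔ : AlgSt.RepByAlgSpWith AlgSp.IsQuasiCompactMor (FibCat.diag (FibCat.toSelf 𝒳)))
    {U : Over S} [CompactSpace ↥U.left] (x : FibCat.overCat U ⥤ᵇ 𝒳) :
    ∃ (R : Scheme.{u}) (_ : IsAffine R) (s t : R ⟶ U.left), ∀ u u' : ↥U.left,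
      AlgSt.Points.ofChart x u = AlgSt.Points.ofChart x u' ↔ ∃ r : ↥R, s r = u ∧ t r = u' := by
  let y := K745.DiagAtlas.sq (pr₁ U U) (pr₂ U U) x x
  obtain ⟨F, e, he, hF⟩ := hΔ _ y
  let q : F.obj ⟶ (yon S).obj (prodOver U U) := AlgSt.spMapOfOver (BasedFunctor.comp e (FibCat.fpFst _ _))
  have hFc : IsQuasiCompactSp F.obj := hF (IsAlgSpace.yon_obj _) (K596.QC.isQuasiCompactSp_yon _) (𝟙 _) (𝟙 _) q
    (IsPullback.id_horiz q)
  obtain ⟨R, p, hR, -, hp⟩ := K609.QC.exists_affine_chart hFc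
  obtain ⟨ρ, hρ⟩ := (yon S).map_surjective (p ≫ q)
  have hmap : ∀ r : ↥R.left, Points.map q (Points.ofPt p r) = Points.ofScheme _ (ρ.left r) := fun r => by
    rw [Points.map_ofPt, ← hρ, K609.Points.ofPt_yon_map]
  refine ⟨R.left, hR, (ρ ≫ pr₁ U U).left, (ρ ≫ pr₂ U U).left, fun u u' => ?_⟩
  rw [ofChart_eq_iff h𝒳]
  constructor
  · rintro ⟨w, z, rfl, rfl, h⟩
    obtain ⟨ξ, hξ, -⟩ := (K735.Top.exists_rep_fp (K735.Fp.isFibGrpd_fp h𝒳 h𝒳 K735.Fp.isFibGrpd_selfOver _ _) h𝒳 y e he w z).1 h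
    obtain ⟨r, rfl⟩ := K609.Points.surjective_ofPt_of_repWith_surjective hp ξ
    have h1 : ρ.left r = w := by
      apply K609.Points.ofScheme_injective
      rw [← hmap]
      exact hξ
    exact ⟨r, by rw [← h1]; rfl, by rw [← h1]; rfl⟩
  · rintro ⟨r, rfl, rfl⟩
    refine ⟨ρ.left r, AlgSt.Points.map (BasedFunctor.comp e (FibCat.fpSnd y (FibCat.diag (FibCat.toSelf 𝒳))))
      ((K735.PtsSp.ptsEquiv F.obj).symm (Points.ofPt p r)), rfl, rfl, ?_⟩
    exact (K735.Top.exists_rep_fp (K735.Fp.isFibGrpd_fp h𝒳 h𝒳 K735.Fp.isFibGrpd_selfOver _ _) h𝒳 y e he _ _).2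
      ⟨Points.ofPt p r, hmap r, rfl⟩

theorem spectralSpace_of_isAffine (X : Scheme.{u}) [IsAffine X] : SpectralSpace ↥X where
  toT0Space := inferInstance
  toCompactSpace := inferInstance
  toQuasiSober := inferInstance
  toQuasiSeparatedSpace := inferInstance
  toPrespectralSpace := inferInstance

/-- The image of an affine smooth chart is a spectral space. -/
theorem spectralSpace_range [QuasiSeparatedSpace S] (h𝒳 : AlgSt.IsAlgStack K 𝒳)
    (hΔ : AlgSt.RepByAlgSpWith AlgSp.IsQuasiCompactMor (FibCat.diag (FibCat.toSelf 𝒳)))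
    {U : Over S} [IsAffine U.left] {x : FibCat.overCat U ⥤ᵇ 𝒳} (hx : AlgSt.RepByAlgSpWith (LocP @Smooth) x) :
    SpectralSpace ↥(Set.range (AlgSt.Points.ofChart x)) := by
  obtain ⟨R, hR, s, t, h⟩ := exists_relation h𝒳.isStack.1 hΔ x
  have : SpectralSpace ↥U.left := spectralSpace_of_isAffine _
  have : SpectralSpace ↥R := spectralSpace_of_isAffine _
  have hs : QuasiCompact s := inferInstance
  have ht : QuasiCompact t := inferInstance
  have ho := isOpenMap_ofChart h𝒳 hx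
  have hc := continuous_ofChart h𝒳 x
  refine K736.Topo.spectralSpace_of_quotient (π := Set.rangeFactorization (AlgSt.Points.ofChart x)) s.isSpectralMap
    t.isSpectralMap (hc.subtype_mk _) ?_ Set.rangeFactorization_surjective ?_
  · intro V hV
    have h1 : (Subtype.val : ↥(Set.range (AlgSt.Points.ofChart x)) → _) ⁻¹' (AlgSt.Points.ofChart x '' V) =
        Set.rangeFactorization (AlgSt.Points.ofChart x) '' V := by
      ext w
      constructor
      · rintro ⟨v, hv, hw⟩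
        exact ⟨v, hv, Subtype.ext hw⟩
      · rintro ⟨v, hv, rfl⟩
        exact ⟨v, hv, rfl⟩
    rw [← h1]
    exact (ho V hV).preimage continuous_subtype_val
  · intro u u'
    rw [← h u u']
    exact Subtype.ext_iff

/-- S12834. -/
theorem spectralSpace_points [QuasiSeparatedSpace S] (h𝒳 : AlgSt.IsAlgStack K 𝒳) (hqc : AlgSt.IsQuasiCompact 𝒳)
    (hΔ : AlgSt.RepByAlgSpWith AlgSp.IsQuasiCompactMor (FibCat.diag (FibCat.toSelf 𝒳))) :
    SpectralSpace (AlgSt.Points 𝒳) := by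
  obtain ⟨U, x, hU, hx, hx'⟩ := hqc
  have h1 := spectralSpace_range h𝒳 hΔ hx
  have h2 : IsCompact (Set.range (AlgSt.Points.ofChart x)) := isCompact_range (continuous_ofChart h𝒳 x)
  rw [Set.range_eq_univ.2 (surjective_ofChart h𝒳 hx')] at h1 h2
  have : CompactSpace (AlgSt.Points 𝒳) := isCompact_univ_iff.1 h2
  exact (Homeomorph.Set.univ (AlgSt.Points 𝒳)).symm.isOpenEmbedding.spectralSpace

/-- S12835. -/
theorem exists_spectral_nhd [QuasiSeparatedSpace S] (h𝒳 : AlgSt.IsAlgStack K 𝒳)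
    (hΔ : AlgSt.RepByAlgSpWith AlgSp.IsQuasiCompactMor (FibCat.diag (FibCat.toSelf 𝒳))) (z : AlgSt.Points 𝒳) :
    ∃ V : Set (AlgSt.Points 𝒳), IsOpen V ∧ z ∈ V ∧ SpectralSpace ↥V := by
  obtain ⟨Q, hQo, hQ, hz, -⟩ := K735.Top.exists_isOpen_isCompact_nhd h𝒳 z Set.univ isOpen_univ (Set.mem_univ z)
  obtain ⟨U, x, hU, hx, hr⟩ := exists_affine_chart h𝒳 hQ hQo
  have h1 := spectralSpace_range h𝒳 hΔ hx
  rw [hr] at h1
  exact ⟨Q, hQo, hz, h1⟩

theorem sober [QuasiSeparatedSpace S] (h𝒳 : AlgSt.IsAlgStack K 𝒳)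
    (hΔ : AlgSt.RepByAlgSpWith AlgSp.IsQuasiCompactMor (FibCat.diag (FibCat.toSelf 𝒳))) :
    QuasiSober (AlgSt.Points 𝒳) ∧ T0Space (AlgSt.Points 𝒳) := by
  have key := exists_spectral_nhd h𝒳 hΔ
  constructor
  · have h1 : ∀ s : {V : Set (AlgSt.Points 𝒳) | IsOpen V ∧ SpectralSpace ↥V}, QuasiSober s := fun s =>
      s.2.2.toQuasiSober
    refine quasiSober_of_open_cover {V : Set (AlgSt.Points 𝒳) | IsOpen V ∧ SpectralSpace ↥V} (fun s => s.2.1) ?_
    refine Set.eq_univ_of_forall fun z => ?_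
    obtain ⟨V, hV, hz, hVs⟩ := key z
    exact ⟨V, ⟨hV, hVs⟩, hz⟩
  · refine T0Space.of_open_cover fun z => ?_
    obtain ⟨V, hV, hz, hVs⟩ := key z
    exact ⟨V, hz, hV, hVs.toT0Space⟩

end K736.Spectral
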