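import Groth.Agent.AlgSt.K736.Psh
/-!
# Base changes of 1-morphisms along maps from presheaves (helper736)

`IsBC z f a` : the map of presheaves `a : V ⟶ Z` is the base change of `f : 𝒳 ⥤ᵇ 𝒴` along `z : ofPsh Z ⥤ᵇ 𝒴`, i.e. there is a
2-cartesian square with sides `ofPshMap a`, `v : ofPsh V ⥤ᵇ 𝒳` over `(z, f)`.
-/

set_option autoImplicit false
set_option backward.isDefEq.respectTransparency false
set_option backward.isDefEq.respectTransparency.types false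

universe w v₇ u₇ v₆ u₆ v₅ u₅ v₄ u₄ v₃ u₃ v₂ u₂ v u

open CategoryTheory CategoryTheory.Limits Opposite

namespace K736.Fib

variable {C : Type u} [Category.{v} C]

section General

variable {𝒳 : BasedCategory.{v₂, u₂} C} {𝒴 : BasedCategory.{v₃, u₃} C} {𝒮 : BasedCategory.{v₄, u₄} C}
  {𝒲 : BasedCategory.{v₅, u₅} C} {𝒲' : BasedCategory.{v₆, u₆} C} {𝒳' : BasedCategory.{v₇, u₇} C}
variable {F : 𝒳 ⥤ᵇ 𝒮} {G : 𝒴 ⥤ᵇ 𝒮}

/-- Precomposition of a cartesian square with an equivalence. -/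
theorem isTwoCartOver_precomp {a : 𝒲 ⥤ᵇ 𝒳} {b : 𝒲 ⥤ᵇ 𝒴} {e : BasedFunctor.comp a F ≅ BasedFunctor.comp b G}
    {E : 𝒲' ⥤ᵇ 𝒲} (hE : FibCat.IsEquivOver E) (h : FibCat.IsTwoCartOver a b e) :
    FibCat.IsTwoCartOver (BasedFunctor.comp E a) (BasedFunctor.comp E b) (isoWhiskerLeft E e) := by
  have : FibCat.fpLift (BasedFunctor.comp E a) (BasedFunctor.comp E b) (isoWhiskerLeft E e) =
    BasedFunctor.comp E (FibCat.fpLift a b e) := rfl
  rw [FibCat.IsTwoCartOver, this]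
  exact isEquivOver_comp hE h

/-- The 2-isomorphism may be replaced by one with the same components. -/
theorem isTwoCartOver_congr {a : 𝒲 ⥤ᵇ 𝒳} {b : 𝒲 ⥤ᵇ 𝒴} {e e' : BasedFunctor.comp a F ≅ BasedFunctor.comp b G}
    (h : ∀ w, e.hom.toNatTrans.app w = e'.hom.toNatTrans.app w) (he : FibCat.IsTwoCartOver a b e) :
    FibCat.IsTwoCartOver a b e' := by
  have : e = e' := by ext1; exact natTrans_ext _ _ h
  exact this ▸ he

/-- A cartesian square with a leg composed with an equivalence. -/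
theorem isTwoCartOver_comp_equiv_iff {E : 𝒳' ⥤ᵇ 𝒳} (hE : FibCat.IsEquivOver E) {a : 𝒲 ⥤ᵇ 𝒳'} {b : 𝒲 ⥤ᵇ 𝒴}
    (e : BasedFunctor.comp a (BasedFunctor.comp E F) ≅ BasedFunctor.comp b G) :
    FibCat.IsTwoCartOver (F := F) (BasedFunctor.comp a E) b e ↔
      FibCat.IsTwoCartOver (F := BasedFunctor.comp E F) a b e := by
  let b' : 𝒲 ⥤ᵇ FibCat.fp F G := FibCat.fpLift (BasedFunctor.comp a E) b e
  let e' : BasedFunctor.comp a E ≅ BasedFunctor.comp b' (FibCat.fpFst F G) := Iso.refl _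
  have h1 := isTwoCartOver_paste_iff (isTwoCartOver_fp F G) e'
  have h2 : pasteIso (FibCat.fpIso F G) e' = e := by
    ext1
    apply natTrans_ext
    intro w
    rw [pasteIso_hom_app]
    change F.map (𝟙 _) ≫ e.hom.toNatTrans.app w = _
    have h3 : F.map (𝟙 (E.obj (a.obj w))) = 𝟙 _ := F.toFunctor.map_id _
    erw [h3, Category.id_comp]
  rw [h2] at h1
  change FibCat.IsTwoCartOver a b e ↔ _ at h1
  rw [h1]
  constructor
  · intro h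
    exact isTwoCartOver_of_isEquivOver e' hE h
  · intro h
    exact isEquivOver_snd_of_isTwoCartOver h hE

end General

section BC

variable {𝒳 : BasedCategory.{v₂, u₂} C} {𝒴 : BasedCategory.{v₃, u₃} C} {𝒵 : BasedCategory.{v₄, u₄} C}
  {𝒳' : BasedCategory.{v₅, u₅} C} {𝒴' : BasedCategory.{v₆, u₆} C}

/-- The map of presheaves `a : V ⟶ Z` is the base change of `f : 𝒳 ⥤ᵇ 𝒴` along `z : ofPsh Z ⥤ᵇ 𝒴`. -/
def IsBC {V Z : Cᵒᵖ ⥤ Type w} (z : Stk.ofPsh Z ⥤ᵇ 𝒴) (f : 𝒳 ⥤ᵇ 𝒴) (a : V ⟶ Z) : Prop :=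
  ∃ (v : Stk.ofPsh V ⥤ᵇ 𝒳) (α : BasedFunctor.comp (Stk.ofPshMap a) z ≅ BasedFunctor.comp v f),
    FibCat.IsTwoCartOver (Stk.ofPshMap a) v α

variable {V Z V' Z' : Cᵒᵖ ⥤ Type w} {z z' : Stk.ofPsh Z ⥤ᵇ 𝒴} {f f' : 𝒳 ⥤ᵇ 𝒴} {a a' : V ⟶ Z}

theorem isBC_of_isTwoCartOver {𝒲 : BasedCategory.{v₇, u₇} C} {p : 𝒲 ⥤ᵇ Stk.ofPsh Z} {q : 𝒲 ⥤ᵇ 𝒳}
    {e : BasedFunctor.comp p z ≅ BasedFunctor.comp q f} (h : FibCat.IsTwoCartOver p q e)
    {E : Stk.ofPsh V ⥤ᵇ 𝒲} (hE : FibCat.IsEquivOver E) (ha : Nonempty (BasedFunctor.comp E p ≅ Stk.ofPshMap a)) :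
    IsBC z f a := by
  obtain ⟨β⟩ := ha
  have h1 := isTwoCartOver_precomp hE h
  refine ⟨BasedFunctor.comp E q, (isoWhiskerRight β z).symm.trans (isoWhiskerLeft E e), ?_⟩
  refine isTwoCartOver_of_iso (G := f) (b₂ := BasedFunctor.comp E q) (e₂ := (isoWhiskerRight β z).symm.trans (isoWhiskerLeft E e)) β (Iso.refl (BasedFunctor.comp E q)) ?_ h1
  intro w
  have h2 := map_iso_hom_inv z (appIso β w)
  change z.map (β.hom.toNatTrans.app w) ≫ z.map (β.inv.toNatTrans.app w) ≫ e.hom.toNatTrans.app (E.obj w) =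
    e.hom.toNatTrans.app (E.obj w) ≫ f.map (𝟙 _)
  change z.map (β.hom.toNatTrans.app w) ≫ z.map (β.inv.toNatTrans.app w) = 𝟙 _ at h2
  have h3 : f.map (𝟙 (q.obj (E.obj w))) = 𝟙 _ := f.toFunctor.map_id _
  rw [reassoc_of% h2]
  erw [h3]
  exact (Category.comp_id _).symm

theorem isBC_iff : IsBC z f a ↔ ∃ e : Stk.ofPsh V ⥤ᵇ FibCat.fp z f, FibCat.IsEquivOver e ∧
    Nonempty (BasedFunctor.comp e (FibCat.fpFst z f) ≅ Stk.ofPshMap a) := by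
  constructor
  · rintro ⟨v, α, h⟩
    exact ⟨FibCat.fpLift (Stk.ofPshMap a) v α, h, ⟨Iso.refl _⟩⟩
  · rintro ⟨e, he, ha⟩
    exact isBC_of_isTwoCartOver (isTwoCartOver_fp z f) he ha

/-- Two base changes of `f` along `z` are isomorphic. -/
theorem IsBC.exists_iso {b : V' ⟶ Z} (h : IsBC z f a) (h' : IsBC z f b) : ∃ i : V ≅ V', i.hom ≫ b = a := by
  rw [isBC_iff] at h h'
  obtain ⟨E, hE, ⟨α⟩⟩ := h
  obtain ⟨E', hE', ⟨β⟩⟩ := h'
  obtain ⟨G, hG, ⟨γ⟩, ⟨δ⟩⟩ := IsEquivOver.exists_inverse hE'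
  have h3 : FibCat.IsEquivOver (BasedFunctor.comp E G) := isEquivOver_comp hE hG
  have h4 := isIso_secMap h3
  refine ⟨asIso (secMap (BasedFunctor.comp E G)), ?_⟩
  change secMap (BasedFunctor.comp E G) ≫ b = a
  apply ofPshMap_injective
  rw [← ofPshMap_comp]
  exact ((isoWhiskerRight (isoSecMap (BasedFunctor.comp E G)).symm (Stk.ofPshMap b)).trans
    ((isoWhiskerLeft (BasedFunctor.comp E G) β.symm).trans
      ((isoWhiskerRight (isoWhiskerLeft E δ) (FibCat.fpFst z f)).trans α))).hom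

theorem IsBC.of_iso (h : IsBC z f a) (i : V' ≅ V) : IsBC z f (i.hom ≫ a) := by
  rw [isBC_iff] at h ⊢
  obtain ⟨E, hE, ⟨α⟩⟩ := h
  exact ⟨BasedFunctor.comp (Stk.ofPshMap i.hom) E, isEquivOver_comp (isEquivOver_ofPshMap i.hom) hE,
    ⟨isoWhiskerLeft (Stk.ofPshMap i.hom) α⟩⟩

theorem IsBC.of_iso' (h : IsBC z f a) (i : V' ≅ V) {b : V' ⟶ Z} (hb : b = i.hom ≫ a) : IsBC z f b :=
  hb ▸ h.of_iso i

theorem IsBC.congr_iso (h : IsBC z f a) (α : z ≅ z') (β : f ≅ f') : IsBC z' f' a := by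
  obtain ⟨v, e, he⟩ := h
  exact ⟨v, _, isTwoCartOver_of_iso_cospan α β he⟩

theorem IsBC.congr_left (h : IsBC z f a) (α : z ≅ z') : IsBC z' f a := h.congr_iso α (Iso.refl _)

theorem IsBC.congr_right (h : IsBC z f a) (β : f ≅ f') : IsBC z f' a := h.congr_iso (Iso.refl _) β

/-- Base change of a base change. -/
theorem IsBC.of_isPullback {b : Z' ⟶ Z} {p : V' ⟶ V} {q : V' ⟶ Z'} (h : IsBC z f a) (sq : IsPullback p q a b) :
    IsBC (BasedFunctor.comp (Stk.ofPshMap b) z) f q := by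
  obtain ⟨v, e, he⟩ := h
  let e' : BasedFunctor.comp (Stk.ofPshMap q) (Stk.ofPshMap b) ≅ BasedFunctor.comp (Stk.ofPshMap p) (Stk.ofPshMap a) :=
    sqIso sq.w.symm
  have h1 : FibCat.IsTwoCartOver (Stk.ofPshMap q) (Stk.ofPshMap p) e' := (isTwoCartOver_ofPsh_iff e').2 sq.flip
  exact ⟨_, _, (isTwoCartOver_paste_iff he e').2 h1⟩

/-- Two base changes along `z` and `b ≫ z` sit in a pullback square. -/
theorem IsBC.exists_isPullback {b : Z' ⟶ Z} {q : V' ⟶ Z'} (h : IsBC z f a)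
    (h' : IsBC (BasedFunctor.comp (Stk.ofPshMap b) z) f q) : ∃ p : V' ⟶ V, IsPullback p q a b := by
  have h1 := h.of_isPullback (IsPullback.of_hasPullback a b)
  obtain ⟨i, hi⟩ := h'.exists_iso h1
  refine ⟨i.hom ≫ pullback.fst a b, IsPullback.of_iso (IsPullback.of_hasPullback a b) i.symm (Iso.refl _) (Iso.refl _)
    (Iso.refl _) ?_ ?_ ?_ ?_⟩
  · simp
  · rw [← hi]; simp
  · simp
  · simp

/-- Composition of base changes. -/
theorem IsBC.comp {g : 𝒴 ⥤ᵇ 𝒵} {f : 𝒳 ⥤ᵇ 𝒴} {z : Stk.ofPsh Z ⥤ᵇ 𝒵} {v : Stk.ofPsh V ⥤ᵇ 𝒴}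
    {α : BasedFunctor.comp (Stk.ofPshMap a) z ≅ BasedFunctor.comp v g}
    (h : FibCat.IsTwoCartOver (Stk.ofPshMap a) v α) {b : V' ⟶ V} (h' : IsBC v f b) :
    IsBC z (BasedFunctor.comp f g) (b ≫ a) := by
  obtain ⟨w, β, h'⟩ := h'
  exact ⟨w, _, isTwoCartOver_symm ((isTwoCartOver_paste_iff (isTwoCartOver_symm h) β.symm).2 (isTwoCartOver_symm h'))⟩

/-- Base change of `f` to `ofPsh Z` and then along `b` . -/
theorem isBC_fpFst_iff {y : 𝒴' ⥤ᵇ 𝒴} {z : Stk.ofPsh Z ⥤ᵇ 𝒴'} :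
    IsBC z (FibCat.fpFst y f) a ↔ IsBC (BasedFunctor.comp z y) f a := by
  constructor
  · rintro ⟨v, e, he⟩
    exact ⟨_, _, (isTwoCartOver_paste_iff (isTwoCartOver_fp y f) e).2 he⟩
  · rintro ⟨w, β, h⟩
    let v : Stk.ofPsh V ⥤ᵇ FibCat.fp y f := FibCat.fpLift (BasedFunctor.comp (Stk.ofPshMap a) z) w β
    refine ⟨v, Iso.refl _, (isTwoCartOver_paste_iff (isTwoCartOver_fp y f) _).1 (isTwoCartOver_congr (e := β) ?_ h)⟩
    intro x
    rw [pasteIso_hom_app]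
    change _ = y.map (𝟙 _) ≫ β.hom.toNatTrans.app x
    have h3 : y.map (𝟙 (z.obj ((Stk.ofPshMap a).obj x))) = 𝟙 _ := y.toFunctor.map_id _
    erw [h3]
    exact (Category.id_comp _).symm

/-- Composition of `f` with an equivalence on the source. -/
theorem isBC_comp_equiv_iff {K : 𝒳' ⥤ᵇ 𝒳} (hK : FibCat.IsEquivOver K) :
    IsBC z (BasedFunctor.comp K f) a ↔ IsBC z f a := by
  constructor
  · rintro ⟨v, e, he⟩
    refine ⟨BasedFunctor.comp v K, e, ?_⟩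
    exact isTwoCartOver_symm ((isTwoCartOver_comp_equiv_iff hK e.symm).2 (isTwoCartOver_symm he))
  · rintro ⟨v, e, he⟩
    obtain ⟨L, hL, ⟨γ⟩, ⟨δ⟩⟩ := IsEquivOver.exists_inverse hK
    have h1 : FibCat.IsTwoCartOver (Stk.ofPshMap a) (BasedFunctor.comp (BasedFunctor.comp v L) K)
        (e.trans (isoWhiskerRight (isoWhiskerLeft v δ.symm) f)) := by
      refine isTwoCartOver_of_iso (a := Stk.ofPshMap a) (b := v) (e := e) (Iso.refl _) (isoWhiskerLeft v δ.symm) ?_ he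
      intro w
      change z.map (𝟙 _) ≫ e.hom.toNatTrans.app w ≫ f.map (δ.inv.toNatTrans.app (v.obj w)) =
        e.hom.toNatTrans.app w ≫ f.map (δ.inv.toNatTrans.app (v.obj w))
      have h3 : z.map (𝟙 ((Stk.ofPshMap a).obj w)) = 𝟙 _ := z.toFunctor.map_id _
      erw [h3]
      exact Category.id_comp _
    exact ⟨BasedFunctor.comp v L, _, isTwoCartOver_symm ((isTwoCartOver_comp_equiv_iff hK _).1 (isTwoCartOver_symm h1))⟩

/-- In a cartesian square with sides `f' : 𝒳' ⥤ᵇ 𝒴'` and `y : 𝒴' ⥤ᵇ 𝒴`, base changes of `f'` are base changes of `f`. -/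
theorem isBC_iff_of_isTwoCartOver {y : 𝒴' ⥤ᵇ 𝒴} {f' : 𝒳' ⥤ᵇ 𝒴'} {g' : 𝒳' ⥤ᵇ 𝒳}
    {e : BasedFunctor.comp f' y ≅ BasedFunctor.comp g' f} (h : FibCat.IsTwoCartOver f' g' e)
    {z : Stk.ofPsh Z ⥤ᵇ 𝒴'} : IsBC z f' a ↔ IsBC (BasedFunctor.comp z y) f a := by
  rw [← isBC_fpFst_iff]
  exact isBC_comp_equiv_iff (K := FibCat.fpLift f' g' e) (f := FibCat.fpFst y f) h

end BC

end K736.Fib
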