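import Groth.Agent.AlgSt.K740.Inertia
import Groth.Agent.AlgSt.K738.RespIso
import Groth.Agent.AlgSt.K735.Top
import Groth.Agent.S10649

/-!
# The inertia of a stack over a coarse space
-/

set_option autoImplicit false
set_option linter.unusedVariables false
set_option backward.isDefEq.respectTransparency false
set_option backward.isDefEq.respectTransparency.types false

universe v₂ u₂ v u

open CategoryTheory CategoryTheory.Limits AlgebraicGeometry

namespace K736.CoarseIn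

open K735.Fib

variable {S : Scheme.{u}} {𝒳 : BasedCategory.{v₂, u₂} (Over S)} {F : AlgSp.Sp S} (π : 𝒳 ⥤ᵇ AlgSt.ofSp F)

theorem map_eq_id {x : 𝒳.obj} (φ : x ⟶ x) (h : 𝒳.p.map φ = 𝟙 _) : π.map φ = 𝟙 _ := by
  apply Stk.EltObj.hom_ext
  have h1 : (AlgSt.ofSp F).p.map (π.map φ) = eqToHom (π.w_obj x) ≫ 𝒳.p.map φ ≫ eqToHom (π.w_obj x).symm :=
    Functor.congr_hom π.w φ
  rw [h, Category.id_comp, eqToHom_trans, eqToHom_refl] at h1
  exact h1

theorem proj_eq_id {x : 𝒳.obj} (φ : x ⟶ x) (h : π.map φ = 𝟙 _) : 𝒳.p.map φ = 𝟙 _ := by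
  have h1 : (AlgSt.ofSp F).p.map (π.map φ) = eqToHom (π.w_obj x) ≫ 𝒳.p.map φ ≫ eqToHom (π.w_obj x).symm :=
    Functor.congr_hom π.w φ
  rw [h] at h1
  replace h1 := ((AlgSt.ofSp F).p.map_id _).symm.trans h1
  have h2 : 𝒳.p.map φ = eqToHom (π.w_obj x).symm ≫ (eqToHom (π.w_obj x) ≫ 𝒳.p.map φ ≫ eqToHom (π.w_obj x).symm) ≫
      eqToHom (π.w_obj x) := by simp
  rw [h2, ← h1]
  simp

/-- Automorphisms over the base are automorphisms over a sheaf. -/
def toRel : FibCat.inertia (FibCat.toSelf 𝒳) ⥤ᵇ FibCat.inertia π where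
  toFunctor :=
    { obj := fun x => ⟨x.pt, x.aut, map_eq_id π x.aut.hom x.map_aut⟩
      map := fun f => ⟨f.hom, f.comm⟩
      map_id := fun x => FibCat.InertiaObj.hom_ext rfl
      map_comp := fun f g => FibCat.InertiaObj.hom_ext rfl }
  w := rfl

def ofRel : FibCat.inertia π ⥤ᵇ FibCat.inertia (FibCat.toSelf 𝒳) where
  toFunctor :=
    { obj := fun x => ⟨x.pt, x.aut, proj_eq_id π x.aut.hom x.map_aut⟩
      map := fun f => ⟨f.hom, f.comm⟩
      map_id := fun x => FibCat.InertiaObj.hom_ext rfl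
      map_comp := fun f g => FibCat.InertiaObj.hom_ext rfl }
  w := rfl

theorem isEquivOver_toRel : FibCat.IsEquivOver (toRel π) := ⟨ofRel π, ⟨Iso.refl _⟩, ⟨Iso.refl _⟩⟩

/-- The inertia over the base is the inertia over a sheaf. -/
theorem repByAlgSpWith_inertia_iff {P : MorphismProperty (AlgSp.Sp S)} :
    AlgSt.RepByAlgSpWith P (FibCat.inertiaToBase (FibCat.toSelf 𝒳)) ↔
      AlgSt.RepByAlgSpWith P (FibCat.inertiaToBase π) :=
  K740.Inertia.repByAlgSpWith_iff_of_equiv (a := toRel π) (b := BasedFunctor.id _) (isEquivOver_toRel π) isEquivOver_id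
    (Iso.refl _)

/-- Proper and locally quasi-finite is finite. -/
theorem isFiniteMor_of_proper_lqf {G H : AlgSp.Sp S} (hG : AlgSp.IsAlgSpace G) (hH : AlgSp.IsAlgSpace H) (f : G ⟶ H)
    (h : AlgSp.IsProperMor f) (h' : AlgSp.LocP (@LocallyQuasiFinite ⊓ @LocallyOfFiniteType) f) : AlgSp.IsFiniteMor f :=
  ((Groth.Agent.S10649.result (X := (⟨G, hG⟩ : AlgSp.Space S)) (Y := (⟨H, hH⟩ : AlgSp.Space S))
    (ObjectProperty.homMk f)).out 1 0 rfl rfl).1 (And.intro h h')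

theorem finite_inertia_of_separated (hqf : AlgSt.IsQuasiDMOver 𝒳) (hsep : AlgSt.IsSeparatedMor π) :
    AlgSt.RepByAlgSpWith AlgSp.IsFiniteMor (FibCat.inertiaToBase (FibCat.toSelf 𝒳)) := by
  have h1 : AlgSt.RepByAlgSpWith AlgSp.IsProperMor (FibCat.inertiaToBase (FibCat.toSelf 𝒳)) :=
    (repByAlgSpWith_inertia_iff π).2 (K740.Inertia.repByAlgSpWith_inertiaToBase π hsep)
  have h2 : AlgSt.RepByAlgSpWith (AlgSp.LocP (@LocallyQuasiFinite ⊓ @LocallyOfFiniteType))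
      (FibCat.inertiaToBase (FibCat.toSelf 𝒳)) := K740.Inertia.repByAlgSpWith_inertiaToBase _ hqf
  intro U y
  obtain ⟨G, e, he, h⟩ := K735.Top.repByAlgSpWith_inf h1 h2 U y
  exact ⟨G, e, he, isFiniteMor_of_proper_lqf G.property (AlgSp.IsAlgSpace.yon_obj U) _ h.1 h.2⟩

end K736.CoarseIn
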