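import Groth.Agent.AlgSt.K736.Rep
import Groth.Agent.AlgSp.K597.EtLoc
import Groth.Agent.AlgSp.K597.LocP
import Groth.Agent.AlgSp.K609.Points
import Groth.Agent.AlgSp.K613.Chart
/-!
# Flat surjective covers of algebraic spaces and stacks (helper736)

* `FFS b`: `b` is flat, locally of finite presentation and surjective; base change, étale charts, locality on the base.
* `exists_ffs`: a flat, lfp, surjective 1-morphism (in the `RepByAlgSpWith` sense) has `FFS` base changes to schemes.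
* `locEssSurj`: such a 1-morphism is fppf-locally essentially surjective.
-/

set_option autoImplicit false
set_option backward.isDefEq.respectTransparency false
set_option backward.isDefEq.respectTransparency.types false

universe v₇ u₇ v₆ u₆ v₅ u₅ v₄ u₄ v₃ u₃ v₂ u₂ v u

open CategoryTheory CategoryTheory.Limits AlgebraicGeometry Opposite K736.Fib K736.Rep AlgSp

namespace K736.Cover

variable {S : Scheme.{u}}

theorem isoInv_locP (P : MorphismProperty Scheme.{u}) : IsoInv (S := S) (LocP P) := fun _ _ _ _ _ i _ ha =>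
  K597.locP_precomp (MorphismProperty.of_isIso (RepWith @Etale) i.hom) ha

theorem isoInv_surj : IsoInv (S := S) IsSurjectiveMor := fun X Y X' _ _ i a ha => by
  intro y
  obtain ⟨x, hx⟩ := ha y
  refine ⟨Points.map i.inv x, ?_⟩
  rw [← Points.map_comp]
  simpa using hx

/-- Flat, locally of finite presentation and surjective. -/
structure FFS {W Z : Sp S} (b : W ⟶ Z) : Prop where
  flat : LocP @Flat b
  lfp : LocP @LocallyOfFinitePresentation b
  surj : IsSurjectiveMor b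

theorem FFS.bc {F G F' G' : Sp S} {f : F ⟶ G} {g : G' ⟶ G} {g' : F' ⟶ F} {f' : F' ⟶ G'} (hf : FFS f)
    (sq : IsPullback g' f' f g) (hF : IsAlgSpace F) (hG : IsAlgSpace G) (hG' : IsAlgSpace G') : FFS f' :=
  ⟨K597.locP_bc K597.etLoc_flat sq hF.hasAtlas hG.hasAtlas hG'.hasAtlas hf.flat,
    K597.locP_bc K597.etLoc_lfp sq hF.hasAtlas hG.hasAtlas hG'.hasAtlas hf.lfp,
    K609.Points.surjective_map_of_isPullback sq.flip hf.surj⟩

theorem ffs_of_ch {U : Over S} {X : Sp S} {p : (yon S).obj U ⟶ X} (h : K613.Chart.Ch p) : FFS p :=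
  ⟨K597.locP_of_repWith K597.etLoc_flat.precomp (K597.repWith_mono (fun _ _ f (hf : Etale f) => by infer_instance) h.et),
    K597.locP_of_repWith K597.etLoc_lfp.precomp (K597.repWith_mono (fun _ _ f (hf : Etale f) => by infer_instance) h.et),
    K609.Points.surjective_map_of_repWith_surjective h.surj⟩

theorem FFS.isFppfCover {W Z : Sp S} {b : W ⟶ Z} (h : FFS b) :
    IsFppfCover (fun _ : PUnit.{u + 1} => W) (fun _ => b) :=
  ⟨fun _ => ⟨h.flat, h.lfp⟩, fun x => ⟨⟨⟩, h.surj x⟩⟩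

/-- Locality on the base for a single flat cover. -/
theorem prop_iff_of_ffs {P : MorphismProperty (Sp S)} (hP : IsLocalOnBase IsFppfCover P) {X Y X' Y' : Sp S}
    {f : X ⟶ Y} {b : Y' ⟶ Y} {f' : X' ⟶ Y'} {q : X' ⟶ X} (sq : IsPullback q f' f b) (hb : FFS b)
    (hX : IsAlgSpace X) (hY : IsAlgSpace Y) (hY' : IsAlgSpace Y') : P f ↔ P f' := by
  have hX' : IsAlgSpace X' := K613.Chart.isAlgSpace_of_isPullback hY.diag hX hY' sq
  have := hP (ι := PUnit.{u + 1}) (fun _ => Y') (fun _ => b) hY (fun _ => hY') hb.isFppfCover f hX (fun _ => X')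
    (fun _ => f') (fun _ => q) (fun _ => hX') (fun _ => sq)
  rw [this]
  exact ⟨fun h => h ⟨⟩, fun h _ => h⟩

/-- A flat surjective lfp map from an algebraic space to a scheme is refined by a scheme cover. -/
theorem FFS.exists_sch {U : Over S} {W : Sp S} (hW : IsAlgSpace W) {b : W ⟶ (yon S).obj U} (h : FFS b) :
    ∃ (U' : Over S) (p : (yon S).obj U' ⟶ W) (g : U' ⟶ U), K613.Chart.Ch p ∧ p ≫ b = (yon S).map g ∧
      Flat g.left ∧ LocallyOfFinitePresentation g.left ∧ Surjective g.left := by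
  obtain ⟨U', p, hp⟩ := K613.Chart.exists_ch hW
  obtain ⟨g, hg⟩ := (yon S).map_surjective (p ≫ b)
  refine ⟨U', p, g, hp, hg.symm, ?_, ?_, ?_⟩
  · exact locP_yon_map (hg ▸ K597.locP_precomp hp.et h.flat)
  · exact locP_yon_map (hg ▸ K597.locP_precomp hp.et h.lfp)
  · refine ⟨(K609.Points.surjective_map_yon_map_iff g).1 ?_⟩
    rw [hg]
    intro y
    obtain ⟨x, rfl⟩ := h.surj y
    obtain ⟨z, rfl⟩ := K609.Points.surjective_map_of_repWith_surjective hp.surj x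
    exact ⟨z, Points.map_comp _ _ _⟩

section Stacks

variable {𝒳 : BasedCategory.{v₂, u₂} (Over S)} {𝒴 : BasedCategory.{v₃, u₃} (Over S)}
  {𝒵 : BasedCategory.{v₄, u₄} (Over S)}

theorem repWith_inf {P Q : MorphismProperty (Sp S)} (hQ : IsoInv Q) {f : 𝒳 ⥤ᵇ 𝒴} (h : AlgSt.RepByAlgSpWith P f)
    (h' : AlgSt.RepByAlgSpWith Q f) : AlgSt.RepByAlgSpWith (P ⊓ Q) f := by
  rw [algRepWith_iff] at h ⊢
  intro U y
  obtain ⟨V, a, ha, hPa⟩ := h U y
  exact ⟨V, a, ha, hPa, (prop_of_isBC hQ h' ha).2⟩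

/-- The base changes of a flat, lfp, surjective 1-morphism. -/
theorem exists_ffs {w : 𝒵 ⥤ᵇ 𝒴} (hw₁ : AlgSt.RepByAlgSpWith (LocP @Flat) w)
    (hw₂ : AlgSt.RepByAlgSpWith (LocP @LocallyOfFinitePresentation) w)
    (hw₃ : AlgSt.RepByAlgSpWith IsSurjectiveMor w) (U : Over S) (y : AlgSt.ofSch U ⥤ᵇ 𝒴) :
    ∃ (V : Space S) (b : V.obj ⟶ (yon S).obj U), IsBC y w b.hom ∧ FFS b := by
  obtain ⟨V, b, hb, h1⟩ := (algRepWith_iff _ _).1 hw₁ U y
  exact ⟨V, b, hb, h1, (prop_of_isBC (isoInv_locP _) hw₂ hb).2, (prop_of_isBC isoInv_surj hw₃ hb).2⟩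

/-- A flat, lfp, surjective 1-morphism is fppf-locally essentially surjective. -/
theorem locEssSurj_ofSch {w : 𝒵 ⥤ᵇ 𝒴} (hw₁ : AlgSt.RepByAlgSpWith (LocP @Flat) w)
    (hw₂ : AlgSt.RepByAlgSpWith (LocP @LocallyOfFinitePresentation) w)
    (hw₃ : AlgSt.RepByAlgSpWith IsSurjectiveMor w) (U : Over S) (y : AlgSt.ofSch U ⥤ᵇ 𝒴) :
    ∃ (U' : Over S) (g : U' ⟶ U), Flat g.left ∧ LocallyOfFinitePresentation g.left ∧ Surjective g.left ∧
      ∃ z : AlgSt.ofSch U' ⥤ᵇ 𝒵, Nonempty (BasedFunctor.comp z w ≅ BasedFunctor.comp (AlgSt.ofSpMap ((yon S).map g)) y) := by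
  obtain ⟨V, b, ⟨v, α, -⟩, hb⟩ := exists_ffs hw₁ hw₂ hw₃ U y
  obtain ⟨U', p, g, -, hpg, h1, h2, h3⟩ := hb.exists_sch V.property
  refine ⟨U', g, h1, h2, h3, BasedFunctor.comp (AlgSt.ofSpMap p) v, ⟨?_⟩⟩
  rw [← hpg]
  exact isoWhiskerLeft (AlgSt.ofSpMap p) α.symm

theorem locEssSurj {w : 𝒵 ⥤ᵇ 𝒴} (hw₁ : AlgSt.RepByAlgSpWith (LocP @Flat) w)
    (hw₂ : AlgSt.RepByAlgSpWith (LocP @LocallyOfFinitePresentation) w)
    (hw₃ : AlgSt.RepByAlgSpWith IsSurjectiveMor w) (U : Over S) (y : FibCat.overCat U ⥤ᵇ 𝒴) :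
    ∃ (U' : Over S) (g : U' ⟶ U), Flat g.left ∧ LocallyOfFinitePresentation g.left ∧ Surjective g.left ∧
      ∃ z : FibCat.overCat U' ⥤ᵇ 𝒵, Nonempty (BasedFunctor.comp z w ≅ BasedFunctor.comp (AlgSt.overMap g) y) := by
  obtain ⟨U', g, h1, h2, h3, z, ⟨α⟩⟩ := locEssSurj_ofSch hw₁ hw₂ hw₃ U (BasedFunctor.comp (AlgSt.toOverCat U) y)
  refine ⟨U', g, h1, h2, h3, BasedFunctor.comp (AlgSt.ofOverCat U') z, ⟨?_⟩⟩
  exact isoWhiskerLeft (AlgSt.ofOverCat U') α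

/-- The sieve form used in S12781. -/
theorem locEssSurj_sieve {w : 𝒵 ⥤ᵇ 𝒴} (hw₁ : AlgSt.RepByAlgSpWith (LocP @Flat) w)
    (hw₂ : AlgSt.RepByAlgSpWith (LocP @LocallyOfFinitePresentation) w)
    (hw₃ : AlgSt.RepByAlgSpWith IsSurjectiveMor w) (U : Over S) (y : FibCat.overCat U ⥤ᵇ 𝒴) :
    ∃ R ∈ (QuotSh.J Scheme.fppfPrecoverage S) U, ∀ ⦃V : Over S⦄ (h : V ⟶ U), R.arrows h →
        ∃ z : FibCat.overCat V ⥤ᵇ 𝒵, Nonempty (BasedFunctor.comp z w ≅ BasedFunctor.comp (AlgSt.overMap h) y) := by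
  obtain ⟨U', g, h1, h2, h3, z, ⟨α⟩⟩ := locEssSurj hw₁ hw₂ hw₃ U y
  refine ⟨Sieve.ofArrows (fun _ : PUnit.{u + 1} => U') (fun _ => g), ?_, ?_⟩
  · exact K613.Basic.mem_J (fun _ : PUnit.{u + 1} => U') (fun _ => g) (fun _ => h1) (fun _ => h2)
      (fun x => ⟨⟨⟩, h3.surj x⟩)
  · rintro V h ⟨V', k, g', ⟨⟨⟩⟩, rfl⟩
    refine ⟨BasedFunctor.comp (AlgSt.overMap k) z, ⟨(isoWhiskerLeft (AlgSt.overMap k) α).trans ?_⟩⟩
    refine isoWhiskerRight (F := BasedFunctor.comp (AlgSt.overMap k) (AlgSt.overMap g)) (isoOfStr fun a => ?_) y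
    change 𝟙 _ ≫ (Comma.hom a ≫ k) ≫ g = 𝟙 _ ≫ Comma.hom a ≫ k ≫ g
    simp

end Stacks

end K736.Cover
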