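import Groth.Agent.AlgSt.K739.RepDiag2
import Groth.Agent.AlgSt.K742.Aff
import Groth.Agent.AlgSt.K740.DiagRep
import Groth.Agent.AlgSt.K740.Inertia
import Groth.Agent.AlgSt.K738.RepDiag
import Groth.Agent.AlgSt.K738.RespIso
import Groth.Agent.AlgSt.K738.LftDiag
import Groth.Agent.S10540

/-!
# Finite diagonal from a finite locally free cover by a separated scheme
-/

set_option autoImplicit false
set_option linter.unusedVariables false
set_option backward.isDefEq.respectTransparency false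
set_option backward.isDefEq.respectTransparency.types false

universe v₂ u₂ v u

open CategoryTheory CategoryTheory.Limits AlgebraicGeometry

namespace K736.FinDiag

open K735.Fib K739.Rep K739.DiagComp K739.Props

variable {S : Scheme.{u}}

/-- The structure functor of a scheme over the base. -/
theorem repByAlgSpWith_toSelf_overCat {Q : MorphismProperty (AlgSp.Sp S)} [Q.RespectsIso] (hQ : BC Q) {U : Over S}
    (h : Q ((AlgSp.yon S).map (Over.mkIdTerminal.from U))) : AlgSt.RepByAlgSpWith Q (FibCat.toSelf (FibCat.overCat U)) := by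
  have h1 : AlgSt.RepByAlgSpWith Q (AlgSt.ofSpMap ((AlgSp.yon S).map (Over.mkIdTerminal.from U))) := by
    rw [K735.SpFp.repByAlgSpWith_ofSpMap_iff]
    intro T P g fst snd sq
    have hP : AlgSp.IsAlgSpace P :=
      (K613.Chart.isAlgSpace_pullback (AlgSp.IsAlgSpace.yon_obj T) (AlgSp.IsAlgSpace.yon_obj U)
        (AlgSp.IsAlgSpace.yon_obj _) g _).of_iso sq.isoPullback.symm
    exact ⟨hP, hQ (AlgSp.IsAlgSpace.yon_obj U) (AlgSp.IsAlgSpace.yon_obj _) hP (AlgSp.IsAlgSpace.yon_obj T) _ g fst snd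
      sq.flip h⟩
  exact (K740.Inertia.repByAlgSpWith_iff_of_equiv (F := AlgSt.ofSpMap ((AlgSp.yon S).map (Over.mkIdTerminal.from U)))
    (G := FibCat.toSelf (FibCat.overCat U)) (a := AlgSt.toOverCat U)
    (b := BasedFunctor.comp (AlgSt.toOverCat (Over.mk (𝟙 S))) (FibCat.toSelf (FibCat.overCat (Over.mk (𝟙 S)))))
    (K738.isEquivOver_toOverCat U) (IsEquivOver.comp (K738.isEquivOver_toOverCat _)
      (K740.DiagRep.isEquivOver_toSelf_overCat Over.mkIdTerminal)) (K739.Alg.selfIso _ _)).1 h1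

theorem bc_fin : BC (AlgSp.IsFiniteMor (S := S)) := by
  intro X₁ Y₁ X₂ Y₂ _ _ _ _ a b a' b' sq h
  rw [K742.Aff.isFiniteMor_eq] at h ⊢
  exact (AlgSp.repWith_isStableUnderBaseChange (S := S) @IsFinite).of_isPullback sq h

theorem comp_fin : Comp (AlgSp.IsFiniteMor (S := S)) := by
  intro X Y Z _ _ _ a b ha hb
  rw [K742.Aff.isFiniteMor_eq] at ha hb ⊢
  exact MorphismProperty.comp_mem _ a b ha hb

theorem loc_fin : AlgSp.IsLocalOnBase AlgSp.IsFppfCover (AlgSp.IsFiniteMor (S := S)) :=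
  isLocalOnBase_fppf_of_fpqc (Groth.Agent.S10540.result S)

/-- The diagonal of a separated scheme over the base is finite. -/
theorem finite_diag_overCat {U : Over S} [IsSeparated U.hom] :
    AlgSt.RepByAlgSpWith AlgSp.IsFiniteMor (FibCat.diag (FibCat.toSelf (FibCat.overCat U))) := by
  have h1 : AlgSt.RepByAlgSpWith AlgSp.IsSeparatedMor (FibCat.toSelf (FibCat.overCat U)) := by
    refine repByAlgSpWith_toSelf_overCat bc_sep ?_
    rw [AlgSp.isSeparatedMor_yon_map_iff]
    have : (Over.mkIdTerminal.from U).left = U.hom := by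
      have := Over.w (Over.mkIdTerminal.from U)
      simp
    rw [this]
    infer_instance
  refine K738.repByAlgSpWith_diag h1 ?_
  intro F T V π i fst g hπ sq hi
  rw [K742.Aff.isFiniteMor_eq]
  have h2 := (AlgSp.repWith_isStableUnderBaseChange (S := S) @IsClosedImmersion).of_isPullback sq hπ
  have h3 : IsClosedImmersion i.left := (AlgSp.repWith_yon_map_iff _ _).1 h2
  exact (AlgSp.repWith_yon_map_iff _ _).2 (inferInstance : IsFinite i.left)

/-- Finite diagonal from a finite locally free cover by a separated scheme. -/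
theorem finite_diag_of_chart (𝒳 : AlgSt.Cat S) (h𝒳 : FibCat.IsFibGrpd 𝒳.p)
    (hd : AlgSt.RepByAlgSp1 (FibCat.diag (FibCat.toSelf 𝒳))) {U : Over S} [IsSeparated U.hom]
    (c : FibCat.overCat U ⥤ᵇ 𝒳)
    (hc₁ : AlgSt.RepByAlgSpWith (AlgSp.LocP @Flat) c)
    (hc₂ : AlgSt.RepByAlgSpWith (AlgSp.LocP @LocallyOfFinitePresentation) c)
    (hc₃ : AlgSt.RepByAlgSpWith AlgSp.IsSurjectiveMor c) (hc₄ : AlgSt.RepByAlgSpWith AlgSp.IsFiniteMor c) :
    AlgSt.RepByAlgSpWith AlgSp.IsFiniteMor (FibCat.diag (FibCat.toSelf 𝒳)) :=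
  K739.ChartDiag.repByAlgSpWith_diag_of_chart bc_fin comp_fin loc_fin (K735.Fp.isFibGrpd_overCat U) h𝒳
    K735.Fp.isFibGrpd_selfOver c (FibCat.toSelf 𝒳) hd hc₁ hc₂ hc₃ hc₄ (by
      rw [K738.Lft.comp_toSelf]
      exact finite_diag_overCat)

end K736.FinDiag
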