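import Groth.Agent.GrpQ.H770.LocQS
import Groth.Agent.Mor.K383.FinAff
import Groth.Agent.S13708
import Groth.Prelude.Def_RedSub
import Groth.Prelude.Def_SymProd

/-!
# Locally quasi-projective schemes: finite sets of points in affine opens
-/

set_option autoImplicit false
set_option linter.unusedVariables false
set_option backward.isDefEq.respectTransparency false
set_option backward.isDefEq.respectTransparency.types false

universe u

open CategoryTheory CategoryTheory.Limits AlgebraicGeometry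

namespace K736.LocQP

variable {S : Scheme.{u}}

/-- Finite sets of points over an affine open of the base, in an open, of a scheme immersed in projective space. -/
theorem exists_affine_of_immersion {X : Scheme.{u}} {n : ℕ} (e : X ⟶ CohB1.ProjSpaceOver n S) [IsImmersion e]
    (V : S.Opens) (hV : IsAffineOpen V) (T : Set X) (hT : T.Finite)
    (hTV : ∀ x ∈ T, (e ≫ CohB1.ProjSpaceOver.toBase n S) x ∈ V) :
    ∃ A : X.Opens, IsAffineOpen A ∧ T ⊆ A := by
  classical
  set W : (CohB1.ProjSpaceOver n S).Opens := CohB1.ProjSpaceOver.toBase n S ⁻¹ᵁ V with hW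
  have hY : ∀ (O : (W : Scheme.{u}).Opens) (T : Finset W), (∀ x ∈ T, x ∈ O) →
      ∃ U : (W : Scheme.{u}).Opens, IsAffineOpen U ∧ (∀ x ∈ T, x ∈ U) ∧ U ≤ O := by
    intro O T hTO
    obtain ⟨A, hA, hTA, hAO⟩ := Groth.Agent.GrpQ.H770.LocQS.exists_affine_of_finite
      (𝟙 (CohB1.ProjSpaceOver n S)) V hV (W.ι '' (T : Set W)) (T.finite_toSet.image _) (by
        rintro _ ⟨x, hx, rfl⟩
        rw [Category.id_comp]
        exact x.2) (W.ι ''ᵁ O) (by
        rintro _ ⟨x, hx, rfl⟩
        exact ⟨x, hTO x hx, rfl⟩)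
    refine ⟨W.ι ⁻¹ᵁ A, hA.preimage_of_isOpenImmersion _ ?_, fun x hx => hTA ⟨x, hx, rfl⟩, ?_⟩
    · refine hAO.trans ?_
      rintro _ ⟨x, hx, rfl⟩
      exact ⟨x, rfl⟩
    · intro x hx
      obtain ⟨y, hy, hyx⟩ := hAO hx
      rwa [← W.ι.isOpenEmbedding.injective hyx]
  set P : X.Opens := e ⁻¹ᵁ W with hP
  obtain ⟨A, hA, hTA⟩ := K383.FinAff.of_isImmersion (e ∣_ W) hY (P.ι ⁻¹' T)
    (hT.preimage P.ι.isOpenEmbedding.injective.injOn)
  refine ⟨P.ι ''ᵁ A, hA.image_of_isOpenImmersion _, ?_⟩
  intro x hx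
  exact ⟨⟨x, hTV x hx⟩, hTA hx, rfl⟩

/-- Finite sets of points over one point of the base lie in affine opens. -/
theorem isAF {U : Over S} (hU : RedSub.IsLocallyQuasiProjective U) : SymProd.IsAF U.hom := by
  classical
  intro s T hT
  obtain ⟨V, hsV, n, e, he, hc⟩ := hU s
  obtain ⟨V', hV', hsV', -⟩ := exists_isAffineOpen_mem_and_subset (X := (V : Scheme.{u})) (x := ⟨s, hsV⟩) (U := ⊤)
    trivial
  set j : (Red.bc V.ι U).left ⟶ U.left := pullback.fst U.hom V.ι with hj
  have hjo : IsOpenImmersion j := by rw [hj]; infer_instance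
  have hjw : j ≫ U.hom = (Red.bc V.ι U).hom ≫ V.ι := pullback.condition
  have hr : ∀ x ∈ T, x ∈ Set.range j := by
    intro x hx
    have h1 : U.hom x ∈ Set.range V.ι := by
      have := hT x hx
      rw [show U.hom x = s from this, Scheme.Opens.range_ι]
      exact hsV
    have h2 : Set.range j = U.hom ⁻¹' Set.range V.ι := by
      rw [hj]
      exact IsOpenImmersion.range_pullbackFst _ _
    rw [h2]
    exact h1
  obtain ⟨A, hA, hTA⟩ := exists_affine_of_immersion e V' hV' (j ⁻¹' (T : Set U.left))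
    (T.finite_toSet.preimage j.isOpenEmbedding.injective.injOn) (by
      intro x hx
      rw [hc]
      have h1 : V.ι ((Red.bc V.ι U).hom x) = s := by
        rw [← Scheme.Hom.comp_apply, ← hjw, Scheme.Hom.comp_apply]
        exact hT _ hx
      have h2 : (Red.bc V.ι U).hom x = ⟨s, hsV⟩ := V.ι.isOpenEmbedding.injective h1
      rw [h2]
      exact hsV')
  refine ⟨j ''ᵁ A, hA.image_of_isOpenImmersion _, fun x hx => ?_⟩
  obtain ⟨y, rfl⟩ := hr x hx
  exact ⟨y, hTA hx, rfl⟩

theorem isSeparated {U : Over S} (hU : RedSub.IsLocallyQuasiProjective U) : IsSeparated U.hom :=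
  Groth.Agent.S13708.result _ (isAF hU)

end K736.LocQP
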