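import Groth.Agent.AlgSt.K736.KMScheme
import Groth.Agent.AlgSt.K736.FinDiag
import Groth.Agent.AlgSt.K736.LocQP
import Groth.Agent.AlgSp.K608.SepAbs
import Groth.Prelude.Def_StCoarse

/-!
# Coarse moduli schemes of stacks with a finite locally free quasi-projective cover
-/

set_option autoImplicit false
set_option linter.unusedVariables false
set_option backward.isDefEq.respectTransparency false
set_option backward.isDefEq.respectTransparency.types false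

universe v u₂ u

open CategoryTheory CategoryTheory.Limits AlgebraicGeometry Opposite

namespace K736.KM

open K736.Fib K736.ModIso

variable {S : Scheme.{u}}

/-- `LocQ` is invariant under postcomposition with an equivalence. -/
theorem locQ_of_comp_equiv {𝒳 𝒴 : AlgSt.Cat S} {𝒴' : BasedCategory.{v, u₂} (Over S)} {P : MorphismProperty (AlgSp.Sp S)}
    {f : 𝒳 ⥤ᵇ 𝒴} {K : 𝒴 ⥤ᵇ 𝒴'} (hK : FibCat.IsEquivOver K) (h : AlgSt.LocQ P (BasedFunctor.comp f K)) :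
    AlgSt.LocQ P f := by
  obtain ⟨L, hL, ⟨a⟩, ⟨b⟩⟩ := IsEquivOver.exists_inverse hK
  obtain ⟨U, V, x, y, h, α, h1, h2, h3, h4⟩ := h
  refine ⟨U, V, x, BasedFunctor.comp y L, h, ?_, h1, h2, K735.Univ.repByAlgSpWith_comp_equiv hL h3, h4⟩
  have e1 : BasedFunctor.comp x f ≅ BasedFunctor.comp (BasedFunctor.comp x f) (BasedFunctor.comp K L) :=
    (isoWhiskerLeft (BasedFunctor.comp x f) a).symm
  exact e1.trans (isoWhiskerRight α L)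

/-- The interfaces: the Keel-Mori theorem. -/
def I16692 (S : Scheme.{u}) : Prop := ∀ (𝒳 : AlgSt.Cat S)
    (h𝒳 : AlgSt.IsAlgStack Scheme.fppfPrecoverage 𝒳)
    (hI : AlgSt.RepByAlgSpWith AlgSp.IsFiniteMor (FibCat.inertiaToBase (FibCat.toSelf 𝒳))),
    ∃ (M : AlgSp.Sp S) (π : 𝒳 ⥤ᵇ AlgSt.ofSp M), AlgSt.IsUnifCatModuli π ∧ AlgSt.IsSeparatedMor π ∧
      AlgSt.IsQuasiCompactMor Scheme.fppfPrecoverage π ∧ AlgSt.IsUnivHomeo Scheme.fppfPrecoverage π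

def I16693 (S : Scheme.{u}) : Prop := ∀ (𝒳 : AlgSt.Cat S)
    (h𝒳 : AlgSt.IsAlgStack Scheme.fppfPrecoverage 𝒳)
    (hI : AlgSt.RepByAlgSpWith AlgSp.IsFiniteMor (FibCat.inertiaToBase (FibCat.toSelf 𝒳)))
    (Y : AlgSp.Sp S) (hY : AlgSp.IsAlgSpace Y) (hYn : AlgSp.IsLocNoethSp Y)
    (p : 𝒳 ⥤ᵇ AlgSt.ofSp Y) (hp : AlgSt.LocQ (AlgSp.LocP @LocallyOfFiniteType) p)
    (M : AlgSp.Sp S) (π : 𝒳 ⥤ᵇ AlgSt.ofSp M) (hπ : AlgSt.IsCatModuli π)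
    (g : M ⟶ Y) (hg : Nonempty (BasedFunctor.comp π (AlgSt.ofSpMap g) ≅ p)),
    AlgSp.LocP @LocallyOfFiniteType g

def I16695 (S : Scheme.{u}) : Prop := ∀ (𝒳 : AlgSt.Cat S)
    (h𝒳 : AlgSt.IsAlgStack Scheme.fppfPrecoverage 𝒳)
    (hI : AlgSt.RepByAlgSpWith AlgSp.IsFiniteMor (FibCat.inertiaToBase (FibCat.toSelf 𝒳)))
    (M : AlgSp.Sp S) (π : 𝒳 ⥤ᵇ AlgSt.ofSp M) (hπ : AlgSt.IsCatModuli π)
    (hs : AlgSt.IsSeparatedOver 𝒳),
    AlgSp.IsSeparatedSp M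

def I16706 (S : Scheme.{u}) : Prop := ∀ (𝒳 : AlgSt.Cat S)
    (h𝒳 : AlgSt.IsAlgStack Scheme.fppfPrecoverage 𝒳)
    (hI : AlgSt.RepByAlgSpWith AlgSp.IsFiniteMor (FibCat.inertiaToBase (FibCat.toSelf 𝒳)))
    (M : AlgSp.Sp S) (π : 𝒳 ⥤ᵇ AlgSt.ofSp M) (hπ : AlgSt.IsCatModuli π),
    AlgSt.GeomPtBij π

theorem main19966 (w : WnaMod S) (i1 : I16692 S) (i2 : I16693 S) (i3 : I16695 S) (i4 : I16706 S)
    (𝒳 : AlgSt.Cat S) (h𝒳 : AlgSt.IsAlgStack Scheme.fppfPrecoverage 𝒳)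
    (U : Over S) (hU : RedSub.IsLocallyQuasiProjective U) (c : FibCat.overCat U ⥤ᵇ 𝒳)
    (hc : AlgSt.RepByAlgSpWith
      (AlgSp.IsFiniteMor ⊓ AlgSp.LocP (@Flat ⊓ @LocallyOfFinitePresentation) ⊓ AlgSp.IsSurjectiveMor) c) :
    ∃ (Y : Over S) (π : 𝒳 ⥤ᵇ AlgSt.ofSch Y),
      AlgSt.IsCoarseModuli π ∧ AlgSt.IsSeparatedMor π ∧ AlgSt.IsUnivHomeo Scheme.fppfPrecoverage π ∧
      (∀ (M' : AlgSp.Sp S), AlgSp.IsAlgSpace M' → ∀ g : M' ⟶ (AlgSp.yon S).obj Y, AlgSp.LocP @Flat g →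
        AlgSt.IsCoarseModuli (FibCat.fpFst (AlgSt.ofSpMap g) π)) ∧
      (AlgSt.IsSeparatedOver 𝒳 → IsSeparated Y.hom) ∧
      (IsLocallyNoetherian S → AlgSt.LocQ (AlgSp.LocP @LocallyOfFiniteType) (FibCat.toSelf 𝒳) →
        LocallyOfFiniteType Y.hom) := by
  have hUs : IsSeparated U.hom := K736.LocQP.isSeparated hU
  have hUa : SymProd.IsAF U.hom := K736.LocQP.isAF hU
  have hd : AlgSt.RepByAlgSpWith AlgSp.IsFiniteMor (FibCat.diag (FibCat.toSelf 𝒳)) := by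
    refine K736.FinDiag.finite_diag_of_chart 𝒳 h𝒳.isStack.1 h𝒳.diag c ?_ ?_ ?_ ?_
    · exact K738.repByAlgSpWith_mono hc fun q hq => (K597.locP_inf_iff.1 hq.1.2).1
    · exact K738.repByAlgSpWith_mono hc fun q hq => (K597.locP_inf_iff.1 hq.1.2).2
    · exact K738.repByAlgSpWith_mono hc fun q hq => hq.2
    · exact K738.repByAlgSpWith_mono hc fun q hq => hq.1.1
  have hI : AlgSt.RepByAlgSpWith AlgSp.IsFiniteMor (FibCat.inertiaToBase (FibCat.toSelf 𝒳)) :=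
    K740.Inertia.repByAlgSpWith_inertiaToBase _ hd
  have hw : AlgSt.RepByAlgSpWith (K746.WnaP S) c := K738.repByAlgSpWith_mono hc fun q hq =>
    ⟨⟨⟨hq.2, (K597.locP_inf_iff.1 hq.1.2).1⟩, hq.1.1⟩, (K597.locP_inf_iff.1 hq.1.2).2⟩
  obtain ⟨M, π, hπ, hsep, -, hh⟩ := i1 𝒳 h𝒳 hI
  obtain ⟨Y, ⟨i⟩⟩ := isRepresentable w h𝒳 π hπ hh c hw hUa
  have hπ' := isUnifCatModuli_post i π hπ
  have hg : AlgSt.GeomPtBij (BasedFunctor.comp π (AlgSt.ofSpMap i.hom)) := i4 𝒳 h𝒳 hI _ _ hπ'.1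
  have hfrom : (Over.mkIdTerminal.from Y).left = Y.hom := by
    have := Over.w (Over.mkIdTerminal.from Y)
    simp
  refine ⟨Y, BasedFunctor.comp π (AlgSt.ofSpMap i.hom), ⟨hπ'.1, hg⟩, isSeparatedMor_post i h𝒳 hπ.1.1 π hsep,
    isUnivHomeo_post i π hh, fun M' hM' g hgf => ⟨hπ'.2 M' hM' g hgf, geomPtBij_fpFst _ h𝒳.isStack.1 g hg⟩, ?_, ?_⟩
  · intro hs
    have h1 := K608.SepAbs.isSeparatedMor_of_isSeparatedSp ((AlgSp.yon S).map (Over.mkIdTerminal.from Y))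
      (i3 𝒳 h𝒳 hI _ _ hπ'.1 hs)
    rw [AlgSp.isSeparatedMor_yon_map_iff, hfrom] at h1
    exact h1
  · intro hS hl
    have hn : AlgSp.IsLocNoethSp ((AlgSp.yon S).obj (Over.mk (𝟙 S))) :=
      ⟨Over.mk (𝟙 S), 𝟙 _, MorphismProperty.of_isIso _ _, MorphismProperty.of_isIso _ _, hS⟩
    have hK : FibCat.IsEquivOver (BasedFunctor.comp (AlgSt.toOverCat (Over.mk (𝟙 S)))
        (FibCat.toSelf (FibCat.overCat (Over.mk (𝟙 S))))) :=
      isEquivOver_comp (K736.Rep.isEquivOver_toOverCat _) (K740.DiagRep.isEquivOver_toSelf_overCat Over.mkIdTerminal)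
    have hp : AlgSt.LocQ (AlgSp.LocP @LocallyOfFiniteType) (BasedFunctor.comp (BasedFunctor.comp π (AlgSt.ofSpMap i.hom))
        (AlgSt.ofSpMap ((AlgSp.yon S).map (Over.mkIdTerminal.from Y)))) := by
      refine locQ_of_comp_equiv hK ?_
      rw [show BasedFunctor.comp (BasedFunctor.comp (BasedFunctor.comp π (AlgSt.ofSpMap i.hom))
        (AlgSt.ofSpMap ((AlgSp.yon S).map (Over.mkIdTerminal.from Y)))) (BasedFunctor.comp (AlgSt.toOverCat (Over.mk (𝟙 S)))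
        (FibCat.toSelf (FibCat.overCat (Over.mk (𝟙 S))))) = FibCat.toSelf 𝒳 from K738.Lft.comp_toSelf _]
      exact hl
    have h1 := i2 𝒳 h𝒳 hI _ (AlgSp.IsAlgSpace.yon_obj _) hn _ hp _ _ hπ'.1
      ((AlgSp.yon S).map (Over.mkIdTerminal.from Y)) ⟨Iso.refl _⟩
    have h2 := AlgSp.locP_yon_map h1
    rwa [hfrom] at h2

end K736.KM
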