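import Groth.Agent.AlgSt.K736.StabOpen
import Groth.Agent.AlgSt.K736.KM19966
import Groth.Agent.AlgSt.K734.Props

/-!
# The induced map on moduli spaces is etale at stabilizer preserving points (helper736)
-/

set_option autoImplicit false
set_option linter.unusedVariables false
set_option backward.isDefEq.respectTransparency false
set_option backward.isDefEq.respectTransparency.types false

universe v u₂ u

open CategoryTheory CategoryTheory.Limits AlgebraicGeometry Opposite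

namespace K736.EtMod

open K736.Fib K736.ModIso K736.KM K739.Props K739.DiagComp

variable {S : Scheme.{u}}

/-- The interface S16696. -/
def I16696 (S : Scheme.{u}) : Prop := ∀ (𝒳 𝒳' : AlgSt.Cat S)
    (h𝒳 : AlgSt.IsAlgStack Scheme.fppfPrecoverage 𝒳)
    (hI : AlgSt.RepByAlgSpWith AlgSp.IsFiniteMor (FibCat.inertiaToBase (FibCat.toSelf 𝒳)))
    (h𝒳' : AlgSt.IsAlgStack Scheme.fppfPrecoverage 𝒳') (h : 𝒳' ⥤ᵇ 𝒳)
    (het : AlgSt.RepByAlgSpWith AlgSp.IsEtaleMor h) (hsep : AlgSt.IsSeparatedMor h)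
    (haut : ∀ x' : 𝒳'.obj, Function.Bijective (Gerb.autMap h x'))
    (M : AlgSp.Sp S) (π : 𝒳 ⥤ᵇ AlgSt.ofSp M) (hπ : AlgSt.IsCatModuli π)
    (M' : AlgSp.Sp S) (π' : 𝒳' ⥤ᵇ AlgSt.ofSp M') (hπ' : AlgSt.IsCatModuli π'),
    ∃ (g : M' ⟶ M) (e : BasedFunctor.comp h π ≅ BasedFunctor.comp π' (AlgSt.ofSpMap g)),
      AlgSp.IsEtaleMor g ∧ AlgSp.IsSeparatedMor g ∧ FibCat.IsTwoCartOver h π' e

/-- The source of a separated representable morphism to a stack with finite diagonal has finite diagonal. -/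
theorem finite_diag_of_separated {𝒰 𝒰' : AlgSt.Cat S} (h𝒰 : FibCat.IsFibGrpd 𝒰.p) (h𝒰' : FibCat.IsFibGrpd 𝒰'.p)
    (h : 𝒰' ⥤ᵇ 𝒰) (hs : AlgSt.RepByAlgSpWith AlgSp.IsSeparatedMor h)
    (hf : AlgSt.RepByAlgSpWith AlgSp.IsFiniteMor (FibCat.diag (FibCat.toSelf 𝒰))) :
    AlgSt.RepByAlgSpWith AlgSp.IsFiniteMor (FibCat.diag (FibCat.toSelf 𝒰')) := by
  have h1 : AlgSt.RepByAlgSpWith AlgSp.IsFiniteMor (FibCat.diag h) := by
    refine K738.repByAlgSpWith_diag hs ?_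
    intro F T V π i fst g hπ sq hi
    rw [K742.Aff.isFiniteMor_eq]
    have h2 := (AlgSp.repWith_isStableUnderBaseChange (S := S) @IsClosedImmersion).of_isPullback sq hπ
    have h3 : IsClosedImmersion i.left := (AlgSp.repWith_yon_map_iff _ _).1 h2
    exact (AlgSp.repWith_yon_map_iff _ _).2 (inferInstance : IsFinite i.left)
  have h2 := repByAlgSpWith_diag_comp h𝒰' h𝒰 K735.Fp.isFibGrpd_selfOver h (FibCat.toSelf 𝒰) K736.FinDiag.bc_fin
    K736.FinDiag.comp_fin (fppfDesc_of_fppf K736.FinDiag.loc_fin).etDesc h1 hf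
  rwa [K738.Lft.comp_toSelf] at h2

/-- Isomorphic functors into the category of a sheaf are equal. -/
theorem eq_of_iso {𝒵 : BasedCategory.{v, u₂} (Over S)} {N : AlgSp.Sp S} {Φ Ψ : 𝒵 ⥤ᵇ AlgSt.ofSp N} (e : Φ ≅ Ψ) :
    Φ = Ψ := by
  obtain ⟨Φ₀, hΦ⟩ := Φ
  obtain ⟨Ψ₀, hΨ⟩ := Ψ
  have h1 : ∀ z, Φ₀.obj z = Ψ₀.obj z := K746.nonempty_iso_ofPsh_iff.1 ⟨e⟩
  have h2 : Φ₀ = Ψ₀ := by
    refine CategoryTheory.Functor.ext h1 fun a b f => ?_
    have hinj : ∀ {a b : (AlgSt.ofSp N).obj} {f g : a ⟶ b}, (AlgSt.ofSp N).p.map f = (AlgSt.ofSp N).p.map g → f = g :=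
      fun h => Stk.EltObj.hom_ext h
    apply hinj
    have h3 := CategoryTheory.Functor.congr_hom hΦ f
    have h4 := CategoryTheory.Functor.congr_hom hΨ f
    simp only [Functor.comp_map] at h3 h4
    rw [h3, Functor.map_comp, Functor.map_comp, h4, eqToHom_map, eqToHom_map]
    simp
  subst h2
  rfl

/-- Categorical moduli spaces are unique, compatibly with the functors. -/
theorem exists_iso_of_isCatModuli' {𝒵 : BasedCategory.{v, u₂} (Over S)} {M M' : AlgSp.Sp S} {π : 𝒵 ⥤ᵇ AlgSt.ofSp M}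
    {π' : 𝒵 ⥤ᵇ AlgSt.ofSp M'} (h : AlgSt.IsCatModuli π) (h' : AlgSt.IsCatModuli π') :
    ∃ i : M ≅ M', BasedFunctor.comp π (AlgSt.ofSpMap i.hom) = π' := by
  obtain ⟨h1, h2⟩ := h
  obtain ⟨h1', h2'⟩ := h'
  obtain ⟨f, ⟨hf⟩, -⟩ := h2 M' h1' π'
  obtain ⟨g, ⟨hg⟩, -⟩ := h2' M h1 π
  have hf' := eq_of_iso hf
  have hg' := eq_of_iso hg
  refine ⟨⟨f, g, (h2 M h1 π).unique ?_ ?_, (h2' M' h1' π').unique ?_ ?_⟩, hf'⟩
  · exact ⟨eqToIso ((congrArg (fun k => BasedFunctor.comp k (AlgSt.ofSpMap g)) hf').trans hg')⟩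
  · exact ⟨Iso.refl _⟩
  · exact ⟨eqToIso ((congrArg (fun k => BasedFunctor.comp k (AlgSt.ofSpMap f)) hg').trans hf')⟩
  · exact ⟨Iso.refl _⟩

section Main

variable {𝒰 𝒰' : AlgSt.Cat S} {Y' : Over S}

open K735.PtsSp

/-- The homeomorphism from the points of the stack to its moduli scheme. -/
noncomputable def toY (π' : 𝒰' ⥤ᵇ AlgSt.ofSch Y') : AlgSt.Points 𝒰' → Y'.left := fun p =>
  (AlgSp.Points.schemeHomeo Y').symm (K735.Top.ptsHomeo (AlgSp.IsAlgSpace.yon_obj Y') (AlgSt.Points.map π' p))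

theorem isHomeomorph_toY (π' : 𝒰' ⥤ᵇ AlgSt.ofSch Y') (hh : AlgSt.IsUnivHomeo Scheme.fppfPrecoverage π') :
    IsHomeomorph (toY π') :=
  ((AlgSp.Points.schemeHomeo Y').symm.isHomeomorph.comp
    (K735.Top.ptsHomeo (AlgSp.IsAlgSpace.yon_obj Y')).isHomeomorph).comp
    (isHomeomorph_of_isUnivHomeo (AlgSp.IsAlgSpace.yon_obj Y') π' hh)

theorem toY_mk (π' : 𝒰' ⥤ᵇ AlgSt.ofSch Y') {Ω : Type u} [Field Ω] (t : Spec (CommRingCat.of Ω) ⟶ S)
    (x' : 𝒰'.p.Fiber (Over.mk t)) :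
    toY π' (AlgSt.Points.mk ⟨Ω, t, x'.1, x'.2⟩) = (AlgSt.fibSec π' x').down.left (IsLocalRing.closedPoint Ω) := by
  rfl

theorem mem_range_incl {W : Y'.left.Opens} (q : AlgSt.Points (AlgSt.ofSch (Over.mk (W.ι ≫ Y'.hom)))) :
    (AlgSp.Points.schemeHomeo Y').symm (K735.Top.ptsHomeo (AlgSp.IsAlgSpace.yon_obj Y') (AlgSt.Points.map
      (AlgSt.ofSpMap ((AlgSp.yon S).map (Over.homMk W.ι rfl : Over.mk (W.ι ≫ Y'.hom) ⟶ Y'))) q)) ∈ W := by
  obtain ⟨p, rfl⟩ := AlgSt.Points.mk_surjective q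
  rw [← SetLike.mem_coe, ← Scheme.Opens.range_ι W]
  exact ⟨p.obj.sec.down.left _, rfl⟩

variable {h : 𝒰' ⥤ᵇ 𝒰}

/-- The open immersion of the category of an open subscheme. -/
theorem openImm_incl (W : Y'.left.Opens) : AlgSt.RepByAlgSpWith (AlgSp.RepWith @IsOpenImmersion)
    (AlgSt.ofSpMap ((AlgSp.yon S).map (Over.homMk W.ι rfl : Over.mk (W.ι ≫ Y'.hom) ⟶ Y'))) := by
  rw [K735.SpFp.repByAlgSpWith_ofSpMap_iff]
  intro U P g fst snd sq
  have h1 : AlgSp.RepWith @IsOpenImmersion ((AlgSp.yon S).map (Over.homMk W.ι rfl : Over.mk (W.ι ≫ Y'.hom) ⟶ Y')) :=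
    (AlgSp.repWith_yon_map_iff _ _).2 (inferInstance : IsOpenImmersion W.ι)
  refine ⟨K613.Chart.isAlgSpace_of_isPullback (AlgSp.IsAlgSpace.yon_obj Y').diag (AlgSp.IsAlgSpace.yon_obj U) (AlgSp.IsAlgSpace.yon_obj _) sq, ?_⟩
  exact (AlgSp.repWith_isStableUnderBaseChange (S := S) @IsOpenImmersion).of_isPullback sq.flip h1

/-- Base change of a functor to the category of a sheaf along a map of sheaves: vertical automorphisms lift. -/
theorem exists_aut_fpSnd {N M : AlgSp.Sp S} (j : N ⟶ M) (π' : 𝒰' ⥤ᵇ AlgSt.ofSp M) (hG' : FibCat.IsFibGrpd 𝒰'.p)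
    (hZ : FibCat.IsFibGrpd (FibCat.fp (AlgSt.ofSpMap j) π').p)
    (z : (FibCat.fp (AlgSt.ofSpMap j) π').obj) :
    Function.Surjective (Gerb.autMap (FibCat.fpSnd (AlgSt.ofSpMap j) π') z) := by
  rw [K736.StabOpen.autMap_surjective_iff _ z hZ hG']
  intro α hα
  have hu : ∀ {a b : (AlgSt.ofSp M).obj} {f g : a ⟶ b}, (AlgSt.ofSp M).p.map f = (AlgSt.ofSp M).p.map g → f = g :=
    fun h => Stk.EltObj.hom_ext h
  obtain ⟨⟨a, b, γ⟩, hγ⟩ := z
  refine ⟨K734.Fib.mkHomFp (𝟙 a) α ?_, ?_, rfl⟩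
  · refine Eq.trans (congrArg (· ≫ γ.hom) ((AlgSt.ofSpMap j).map_id a)) ((Category.id_comp _).trans ?_)
    refine ((congrArg (γ.hom ≫ ·) (hu ?_)).trans (Category.comp_id _)).symm
    have h1 : K734.Fib.IsVert _ (π'.map α) := K734.Fib.IsVert.map π' hα
    rw [h1.map_eq]
    simp
    rfl
  · exact K734.Fib.vert_fp_iff_fst.2 (K734.Fib.IsVert.id _)

theorem main18339 (i1 : I16692 S) (i2 : I16696 S) [IsLocallyNoetherian S]
    (𝒰 𝒰' : AlgSt.Cat S) (h𝒰 : AlgSt.IsAlgStack Scheme.fppfPrecoverage 𝒰)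
    (h𝒰' : AlgSt.IsAlgStack Scheme.fppfPrecoverage 𝒰')
    (h : 𝒰' ⥤ᵇ 𝒰)
    (het : AlgSt.RepByAlgSpWith (AlgSp.IsEtaleMor ⊓ AlgSp.IsSeparatedMor ⊓ AlgSp.IsQuasiCompactMor) h)
    (U : Over S) (hU : RedSub.IsLocallyQuasiProjective U) (c : FibCat.overCat U ⥤ᵇ 𝒰)
    (hc : AlgSt.RepByAlgSpWith
      (AlgSp.IsFiniteMor ⊓ AlgSp.LocP (@Flat ⊓ @LocallyOfFinitePresentation) ⊓ AlgSp.IsSurjectiveMor) c)
    (Y Y' : Over S) (π : 𝒰 ⥤ᵇ AlgSt.ofSch Y) (hπ : AlgSt.IsCoarseModuli π)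
    (π' : 𝒰' ⥤ᵇ AlgSt.ofSch Y') (hπ' : AlgSt.IsCoarseModuli π') (g : Y' ⟶ Y)
    (hg : Nonempty (BasedFunctor.comp π' (AlgSt.ofSpMap ((AlgSp.yon S).map g)) ≅ BasedFunctor.comp h π))
    (Ω : Type u) [Field Ω] [IsAlgClosed Ω] (t : Spec (CommRingCat.of Ω) ⟶ S)
    (x' : 𝒰'.p.Fiber (Over.mk t)) (hx : Function.Surjective (Gerb.autMap h x'.1)) :
    ∃ W : Y'.left.Opens, (AlgSt.fibSec π' x').down.left (IsLocalRing.closedPoint Ω) ∈ W ∧
      Etale (W.ι ≫ g.left) := by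
  have hUs : IsSeparated U.hom := K736.LocQP.isSeparated hU
  have hG := h𝒰.isStack.1
  have hG' := h𝒰'.isStack.1
  have hd : AlgSt.RepByAlgSpWith AlgSp.IsFiniteMor (FibCat.diag (FibCat.toSelf 𝒰)) := by
    refine K736.FinDiag.finite_diag_of_chart 𝒰 h𝒰.isStack.1 h𝒰.diag c ?_ ?_ ?_ ?_
    · exact K738.repByAlgSpWith_mono hc fun q hq => (K597.locP_inf_iff.1 hq.1.2).1
    · exact K738.repByAlgSpWith_mono hc fun q hq => (K597.locP_inf_iff.1 hq.1.2).2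
    · exact K738.repByAlgSpWith_mono hc fun q hq => hq.2
    · exact K738.repByAlgSpWith_mono hc fun q hq => hq.1.1
  have hs : AlgSt.RepByAlgSpWith AlgSp.IsSeparatedMor h := K738.repByAlgSpWith_mono het fun q hq => hq.1.2
  have hE : AlgSt.RepByAlgSpWith AlgSp.IsEtaleMor h := K738.repByAlgSpWith_mono het fun q hq => hq.1.1
  have hE' : AlgSt.RepByAlgSpWith (AlgSp.LocP @Etale) h :=
    K738.repByAlgSpWith_mono hE fun q hq => K597.locP_etale_of_isEtaleMor hq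
  have hd' := finite_diag_of_separated hG hG' h hs hd
  have hI : AlgSt.RepByAlgSpWith AlgSp.IsFiniteMor (FibCat.inertiaToBase (FibCat.toSelf 𝒰)) :=
    K740.Inertia.repByAlgSpWith_inertiaToBase _ hd
  have hI' : AlgSt.RepByAlgSpWith AlgSp.IsFiniteMor (FibCat.inertiaToBase (FibCat.toSelf 𝒰')) :=
    K740.Inertia.repByAlgSpWith_inertiaToBase _ hd'
  -- the given moduli space of `𝒰'` is uniform and a universal homeomorphism
  obtain ⟨M, ρ, hρ, hρs, -, hρh⟩ := i1 𝒰' h𝒰' hI'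
  obtain ⟨i, rfl⟩ := exists_iso_of_isCatModuli' hρ.1 hπ'.1
  set π' := BasedFunctor.comp ρ (AlgSt.ofSpMap i.hom) with hπ'def
  have hunif : AlgSt.IsUnifCatModuli π' := isUnifCatModuli_post i ρ hρ
  have hhomeo : AlgSt.IsUnivHomeo Scheme.fppfPrecoverage π' := isUnivHomeo_post i ρ hρh
  -- the open subset
  have hh := isHomeomorph_toY π' hhomeo
  have hopen : IsOpen (toY π' '' K736.StabOpen.good h) :=
    hh.isOpenMap _ (K736.StabOpen.isOpen_good hG' hG h (K739.StabEt.openImm_diag hE') hI)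
  let W : Y'.left.Opens := ⟨toY π' '' K736.StabOpen.good h, hopen⟩
  refine ⟨W, ⟨_, (K736.StabOpen.mem_good_iff hG' hG h (K739.StabEt.openImm_diag hE') hI ⟨Ω, t, x'.1, x'.2⟩
    inferInstance).2 hx, toY_mk π' t x'⟩, ?_⟩
  let w : Over.mk (W.ι ≫ Y'.hom) ⟶ Y' := Over.homMk W.ι rfl
  let j : (AlgSp.yon S).obj (Over.mk (W.ι ≫ Y'.hom)) ⟶ (AlgSp.yon S).obj Y' := (AlgSp.yon S).map w
  have hj : AlgSp.RepWith @IsOpenImmersion j := (AlgSp.repWith_yon_map_iff _ _).2 (inferInstance : IsOpenImmersion W.ι)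
  have hY' : AlgSp.IsAlgSpace ((AlgSp.yon S).obj Y') := AlgSp.IsAlgSpace.yon_obj Y'
  have hW : AlgSp.IsAlgSpace ((AlgSp.yon S).obj (Over.mk (W.ι ≫ Y'.hom))) := AlgSp.IsAlgSpace.yon_obj _
  have h𝒵 : AlgSt.IsAlgStack Scheme.fppfPrecoverage (FibCat.fp (AlgSt.ofSpMap j) π') :=
    Groth.Agent.S12763.result (K740.SpDM.isAlgStack_ofSp hY').isStack (K740.SpDM.isAlgStack_ofSp hY').diag
      (K740.SpDM.isAlgStack_ofSp hW) h𝒰' _ _
  have hflat : AlgSp.LocP @Flat j := K746.ModLoc.locP_flat_of_etale (K610.OpenImm.repWith_etale_of_open hj)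
  have hcat : AlgSt.IsCatModuli (FibCat.fpFst (AlgSt.ofSpMap j) π') := hunif.2 _ hW j hflat
  -- the restricted morphism
  have h1 := openImm_incl W
  have h2 : AlgSt.RepByAlgSpWith (AlgSp.RepWith @IsOpenImmersion) (FibCat.fpSnd (AlgSt.ofSpMap j) π') :=
    K734.Rep.repByAlgSpWith_fpSnd _ _ _ h1
  have hGZ := h𝒵.isStack.1
  let hZ : FibCat.fp (AlgSt.ofSpMap j) π' ⥤ᵇ 𝒰 := BasedFunctor.comp (FibCat.fpSnd (AlgSt.ofSpMap j) π') h
  have hZE : AlgSt.RepByAlgSpWith AlgSp.IsEtaleMor hZ :=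
    K734.Rep.nice_isEtaleMor.repByAlgSpWith_comp hGZ hG' (K740.SpIso.repByAlgSpWith_imp h2 fun F U q hq =>
      K734.Rep.isEtaleMor_of_repWith (AlgSp.IsAlgSpace.yon_obj U) (K610.OpenImm.repWith_etale_of_open hq)) hE
  have hsnd : AlgSt.RepByAlgSpWith AlgSp.IsSeparatedMor (FibCat.fpSnd (AlgSt.ofSpMap j) π') := by
    refine K734.Rep.repByAlgSpWith_fpSnd _ _ _ ?_
    rw [K735.SpFp.repByAlgSpWith_ofSpMap_iff]
    intro U P g fst snd sq
    refine ⟨K613.Chart.isAlgSpace_of_isPullback (AlgSp.IsAlgSpace.yon_obj Y').diag (AlgSp.IsAlgSpace.yon_obj U)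
      (AlgSp.IsAlgSpace.yon_obj _) sq, ?_⟩
    exact bc_sep hW hY' (K613.Chart.isAlgSpace_of_isPullback (AlgSp.IsAlgSpace.yon_obj Y').diag (AlgSp.IsAlgSpace.yon_obj U)
      (AlgSp.IsAlgSpace.yon_obj _) sq) (AlgSp.IsAlgSpace.yon_obj U) _ _ _ _ sq.flip
      ((AlgSp.isSeparatedMor_yon_map_iff w).2 (inferInstance : IsSeparated W.ι))
  have hZs : AlgSt.IsSeparatedMor hZ := by
    refine Groth.Agent.S12953.result S _ _ _ h𝒵 h𝒰' h𝒰 _ _ ?_ ?_
    · exact ((K738.tfae_separated (K735.Rep.repByAlgSp1_of_with hsnd)).out 0 2).1 hsnd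
    · exact ((K738.tfae_separated (K735.Rep.repByAlgSp1_of_with hs)).out 0 2).1 hs
  have hZE' : AlgSt.RepByAlgSpWith (AlgSp.LocP @Etale) hZ :=
    K738.repByAlgSpWith_mono hZE fun q hq => K597.locP_etale_of_isEtaleMor hq
  have haut : ∀ (Ω : Type u) [Field Ω] [IsAlgClosed Ω] (t : Spec (CommRingCat.of Ω) ⟶ S)
      (z : (FibCat.fp (AlgSt.ofSpMap j) π').p.Fiber (Over.mk t)), Function.Surjective (Gerb.autMap hZ z.1) := by
    intro Ω _ _ t z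
    have h3 : Function.Surjective (Gerb.autMap h ((FibCat.fpSnd (AlgSt.ofSpMap j) π').obj z.1)) := by
      let p : AlgSt.FPt (FibCat.fp (AlgSt.ofSpMap j) π') := ⟨Ω, t, z.1, z.2⟩
      refine (K736.StabOpen.mem_good_iff hG' hG h (K739.StabEt.openImm_diag hE') hI
        (p.map (FibCat.fpSnd (AlgSt.ofSpMap j) π')) (inferInstanceAs (IsAlgClosed Ω))).1 ?_
      have h4 : toY π' (AlgSt.Points.mk (p.map (FibCat.fpSnd (AlgSt.ofSpMap j) π'))) ∈ W := by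
        have h5 : AlgSt.Points.map π' (AlgSt.Points.mk (p.map (FibCat.fpSnd (AlgSt.ofSpMap j) π'))) =
            AlgSt.Points.map (AlgSt.ofSpMap j) (AlgSt.Points.mk (p.map (FibCat.fpFst (AlgSt.ofSpMap j) π'))) :=
          (K735.Pts.map_congr (FibCat.fpIso (AlgSt.ofSpMap j) π') (AlgSt.Points.mk p)).symm
        rw [toY, h5]
        exact mem_range_incl _
      obtain ⟨q, hq, hq'⟩ := h4
      rwa [← hh.injective hq']
    have h4 := h3.comp (exists_aut_fpSnd j π' hG' hGZ z.1)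
    exact h4
  have hbij : ∀ z : (FibCat.fp (AlgSt.ofSpMap j) π').obj, Function.Bijective (Gerb.autMap hZ z) := by
    intro z
    constructor
    · intro A B hAB
      apply Aut.ext
      apply Functor.Fiber.hom_ext
      have := Groth.Agent.S12776.result hGZ hG hZ (K735.Rep.repByAlgSp1_of_with hZE)
      exact this.map_injective (congrArg (fun k => k.hom.1) hAB)
    · rw [K736.StabOpen.autMap_surjective_iff hZ z hGZ hG]
      intro α hα
      have := K734.Fib.isIso_of_vert hG hα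
      obtain ⟨β, hβ, hβ'⟩ := K739.StabEt.exists_aut hGZ hG hZ (K739.StabEt.openImm_diag hZE') haut z (asIso α) hα
      exact ⟨β.hom, hβ, hβ'⟩
  obtain ⟨g₁, e, hg₁, -, -⟩ := i2 𝒰 _ h𝒰 hI h𝒵 hZ hZE hZs hbij _ π hπ.1 _ _ hcat
  obtain ⟨hg⟩ := hg
  have huniq : g₁ = j ≫ (AlgSp.yon S).map g := by
    refine (hcat.2 _ (AlgSp.IsAlgSpace.yon_obj Y) (BasedFunctor.comp hZ π)).unique ⟨e.symm⟩ ⟨?_⟩
    exact (isoWhiskerRight (FibCat.fpIso (AlgSt.ofSpMap j) π') (AlgSt.ofSpMap ((AlgSp.yon S).map g))).trans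
      (isoWhiskerLeft (FibCat.fpSnd (AlgSt.ofSpMap j) π') hg)
  rw [huniq, ← Functor.map_comp, AlgSp.isEtaleMor_yon_map_iff] at hg₁
  exact hg₁

end Main

end K736.EtMod
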