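import Groth.Agent.AlgSt.K736.Props
import Groth.Agent.S12762
import Groth.Agent.Stk.K751.Test
import Groth.Agent.AlgSt.K735.Setoid
/-!
# Faithfulness and representability are fppf local on the base (helper736)
-/

set_option autoImplicit false
set_option backward.isDefEq.respectTransparency false
set_option backward.isDefEq.respectTransparency.types false

universe v₄ u₄ v₃ u₃ v₂ u₂ v u

open CategoryTheory CategoryTheory.Limits AlgebraicGeometry Opposite K736.Fib K736.Rep K736.Cover AlgSp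

namespace K736.Faithful

section General

variable {C : Type u} [Category.{v} C]
variable {𝒳 : BasedCategory.{v₂, u₂} C} {𝒴 : BasedCategory.{v₃, u₃} C} {𝒵 : BasedCategory.{v₄, u₄} C}

/-- Elementwise form of local essential surjectivity. -/
theorem elt_of_loc (h𝒴 : FibCat.IsFibGrpd 𝒴.p) {w : 𝒵 ⥤ᵇ 𝒴} {y₀ : 𝒴.obj} {V : C} {h : V ⟶ 𝒴.p.obj y₀}
    {z : FibCat.overCat V ⥤ᵇ 𝒵}
    (hz : Nonempty (BasedFunctor.comp z w ≅ BasedFunctor.comp (overMap' h) (ofObj h𝒴 y₀ (𝟙 _)))) :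
    ∃ (ζ : 𝒵.obj) (e : 𝒵.p.obj ζ = V) (φ : w.obj ζ ⟶ y₀), 𝒴.p.map φ = eqToHom ((w.w_obj ζ).trans e) ≫ h := by
  obtain ⟨α⟩ := hz
  refine ⟨z.obj (Over.mk (𝟙 V)), z.w_obj _, α.hom.toNatTrans.app (Over.mk (𝟙 V)) ≫
    ofObjHom h𝒴 y₀ (𝟙 _) (Over.mk (𝟙 V ≫ h)), ?_⟩
  rw [Functor.map_comp, p_map_app, map_ofObjHom]
  change _ ≫ _ ≫ (𝟙 V ≫ h) ≫ 𝟙 _ = _
  rw [Category.comp_id]
  exact (eqToHom_trans_assoc _ _ _).trans (congrArg (_ ≫ ·) (Category.id_comp h))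

/-- Faithfulness of `f` can be checked after a locally essentially surjective base change. -/
theorem faithful_of_loc {J : GrothendieckTopology C} (h𝒳 : Stk.IsPrestack J 𝒳) (h𝒴 : FibCat.IsFibGrpd 𝒴.p)
    {f : 𝒳 ⥤ᵇ 𝒴} {w : 𝒵 ⥤ᵇ 𝒴}
    (hloc : ∀ y₀ : 𝒴.obj, ∃ R ∈ J (𝒴.p.obj y₀), ∀ ⦃V : C⦄ (h : V ⟶ 𝒴.p.obj y₀), R.arrows h →
      ∃ (ζ : 𝒵.obj) (e : 𝒵.p.obj ζ = V) (φ : w.obj ζ ⟶ y₀), 𝒴.p.map φ = eqToHom ((w.w_obj ζ).trans e) ≫ h)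
    (hext : ∀ (o : (FibCat.fp w f).obj) (α : o ⟶ o), (FibCat.fp w f).p.map α = 𝟙 _ → α = 𝟙 o) :
    f.toFunctor.Faithful := by
  refine ⟨fun {x x'} φ ψ hφψ => ?_⟩
  have hφψ' : f.map φ = f.map ψ := hφψ
  have hp : 𝒳.p.map φ = 𝒳.p.map ψ := by
    have h1 := p_map f φ
    rw [hφψ', p_map, cancel_epi, cancel_mono] at h1
    exact h1.symm
  obtain ⟨R, hR, hR'⟩ := hloc (f.obj x)
  have hw := f.w_obj x
  let R' : Sieve (𝒳.p.obj x) := R.pullback (eqToHom hw.symm)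
  have hR'mem : R' ∈ J (𝒳.p.obj x) := J.pullback_stable _ hR
  refine (K751.Test.glueFrom_of_isPrestack h𝒳 x R' hR'mem).ext hp fun z a ha => ?_
  -- the unique automorphism `σ` of `z` with `σ ≫ (a ≫ ψ) = a ≫ φ`
  have h1 : 𝟙 (𝒳.p.obj z) ≫ 𝒳.p.map (a ≫ ψ) = 𝒳.p.map (a ≫ φ) := by
    rw [Functor.map_comp, Functor.map_comp, hp, Category.id_comp]
  obtain ⟨σ, ⟨hσ1, hσ2⟩, -⟩ := existsUnique_lift h𝒳.1 (a ≫ ψ) (a ≫ φ) (𝟙 _) h1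
  suffices hσ : σ = 𝟙 z by rw [← hσ2, hσ, Category.id_comp]
  -- `f σ = 𝟙`
  have hfσ : f.map σ = 𝟙 (f.obj z) := by
    refine hom_ext h𝒴 (f.map (a ≫ ψ)) ?_ ?_
    · rw [p_map, hσ1]; simp
    · rw [← f.map_comp, hσ2, f.map_comp, hφψ', f.map_comp, Category.id_comp]
  -- a lift of `f z` to `𝒵`
  obtain ⟨ζ, e, χ, hχ⟩ := hR' (𝒳.p.map a ≫ eqToHom hw.symm) ha
  have h2 : eqToHom ((w.w_obj ζ).trans (e.trans (f.w_obj z).symm)) ≫ 𝒴.p.map (f.map a) = 𝒴.p.map χ := by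
    rw [p_map, hχ]; simp
  let i₀ : w.obj ζ ⟶ f.obj z := lift h𝒴 (f.map a) χ _ h2
  have hi₀ : 𝒴.p.map i₀ = eqToHom ((w.w_obj ζ).trans (e.trans (f.w_obj z).symm)) := map_lift h𝒴 _ _ _ h2
  have : IsIso (𝒴.p.map i₀) := by rw [hi₀]; infer_instance
  have : IsIso i₀ := isIso_of_isIso_map h𝒴 i₀
  let o : (FibCat.fp w f).obj := fpMk ζ z (asIso i₀) ⟨_, hi₀⟩
  let α : o ⟶ o := fpHom (𝟙 ζ) σ (by
    change w.map (𝟙 ζ) ≫ i₀ = i₀ ≫ f.map σ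
    rw [hfσ, w.map_id, Category.comp_id]; exact Category.id_comp i₀)
  have hα := hext o α (𝒵.p.map_id ζ)
  exact congrArg (fun t => t.hom.snd) hα

end General

section Rep

variable {S : Scheme.{u}} {𝒳 𝒴 : AlgSt.Cat S}

/-- A category representable by an algebraic space has no automorphisms over the base. -/
theorem hom_ext_of_rep {𝒲 : BasedCategory.{v₂, u₂} (Over S)} (h : AlgSt.RepByAlgSp 𝒲) {o o' : 𝒲.obj} (α β : o ⟶ o')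
    (hαβ : 𝒲.p.map α = 𝒲.p.map β) : α = β := by
  obtain ⟨F, e, he⟩ := h
  obtain ⟨G, hG, -, -⟩ := IsEquivOver.exists_inverse he
  have := IsEquivOver.faithful hG
  apply G.toFunctor.map_injective
  apply Stk.EltObj.hom_ext
  have h1 := p_map G α
  have h2 := p_map G β
  rw [hαβ] at h1
  exact h1.trans h2.symm

/-- Local essential surjectivity of a flat, lfp, surjective 1-morphism, elementwise. -/
theorem loc_elt {𝒵 : BasedCategory.{v₂, u₂} (Over S)} (h𝒴 : FibCat.IsFibGrpd 𝒴.p) {w : 𝒵 ⥤ᵇ 𝒴} (hw₁ : AlgSt.RepByAlgSpWith (LocP @Flat) w)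
    (hw₂ : AlgSt.RepByAlgSpWith (LocP @LocallyOfFinitePresentation) w)
    (hw₃ : AlgSt.RepByAlgSpWith IsSurjectiveMor w) (y₀ : 𝒴.obj) :
    ∃ R ∈ (QuotSh.J Scheme.fppfPrecoverage S) (𝒴.p.obj y₀), ∀ ⦃V : Over S⦄ (h : V ⟶ 𝒴.p.obj y₀), R.arrows h →
      ∃ (ζ : 𝒵.obj) (e : 𝒵.p.obj ζ = V) (φ : w.obj ζ ⟶ y₀), 𝒴.p.map φ = eqToHom ((w.w_obj ζ).trans e) ≫ h := by
  obtain ⟨R, hR, hR'⟩ := locEssSurj_sieve hw₁ hw₂ hw₃ _ (ofObj h𝒴 y₀ (𝟙 _))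
  refine ⟨R, hR, fun V h hh => ?_⟩
  obtain ⟨z, hz⟩ := hR' h hh
  exact elt_of_loc h𝒴 hz

/-- S12842. -/
theorem s12842 (h𝒳 : AlgSt.IsAlgStack Scheme.fppfPrecoverage 𝒳) (h𝒴 : AlgSt.IsAlgStack Scheme.fppfPrecoverage 𝒴)
    (f : 𝒳 ⥤ᵇ 𝒴) {𝒵 : BasedCategory.{v₂, u₂} (Over S)} (w : 𝒵 ⥤ᵇ 𝒴)
    (hw₁ : AlgSt.RepByAlgSpWith (AlgSp.LocP @Flat) w)
    (hw₂ : AlgSt.RepByAlgSpWith (AlgSp.LocP @LocallyOfFinitePresentation) w)
    (hw₃ : AlgSt.RepByAlgSpWith AlgSp.IsSurjectiveMor w)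
    (h : AlgSt.RepByAlgSp (FibCat.fp w f)) : AlgSt.RepByAlgSp1 f := by
  refine (Groth.Agent.S12762.result h𝒳 h𝒴 f).1 (faithful_of_loc (J := QuotSh.J Scheme.fppfPrecoverage S)
    ⟨h𝒳.isStack.1, fun U R hR => ?_⟩ h𝒴.isStack.1 (loc_elt h𝒴.isStack.1 hw₁ hw₂ hw₃) fun o α hα => ?_)
  · have : (Stk.resSieve R 𝒳).IsEquivalence := h𝒳.isStack.2 R hR
    exact ⟨inferInstance, inferInstance⟩
  · exact hom_ext_of_rep h _ _ (hα.trans ((FibCat.fp w f).p.map_id o).symm)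

end Rep

end K736.Faithful
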