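import Groth.Agent.AlgSt.K736.Cover
/-!
# Refining fppf coverings of algebraic spaces by schemes; monomorphisms are fppf local on the base (helper736)
-/

set_option autoImplicit false
set_option backward.isDefEq.respectTransparency false
set_option backward.isDefEq.respectTransparency.types false

universe u

open CategoryTheory CategoryTheory.Limits AlgebraicGeometry Opposite K736.Fib K736.Rep AlgSp

namespace K736.Cover

variable {S : Scheme.{u}}

/-- An fppf covering of an algebraic space by algebraic spaces, pulled back to a scheme `T` and refined by schemes. -/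
theorem exists_refinement {ι : Type u} {Y : Sp S} {Yi : ι → Sp S} {g : ∀ i, Yi i ⟶ Y} (hY : IsAlgSpace Y)
    (hYi : ∀ i, IsAlgSpace (Yi i)) (hc : IsFppfCover Yi g) {T : Over S} (y : (yon S).obj T ⟶ Y) :
    ∃ (T' : ι → Over S) (c : ∀ i, T' i ⟶ T) (l : ∀ i, (yon S).obj (T' i) ⟶ Yi i),
      (∀ i, l i ≫ g i = (yon S).map (c i) ≫ y) ∧ (∀ i, Flat (c i).left) ∧
      (∀ i, LocallyOfFinitePresentation (c i).left) ∧
      ∀ t : T.left, ∃ (i : ι) (t' : (T' i).left), (c i).left t' = t := by
  have hT := IsAlgSpace.yon_obj T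
  have hp : ∀ i, IsAlgSpace (pullback (g i) y) := fun i => K613.Chart.isAlgSpace_pullback (hYi i) hT hY _ _
  choose T' p hp' using fun i => K613.Chart.exists_ch (hp i)
  choose c hc' using fun i => (yon S).map_surjective (p i ≫ pullback.snd (g i) y)
  refine ⟨T', c, fun i => p i ≫ pullback.fst (g i) y, fun i => ?_, fun i => ?_, fun i => ?_, fun t => ?_⟩
  · rw [hc', Category.assoc, Category.assoc, pullback.condition]
  · refine locP_yon_map (?_ : LocP @Flat ((yon S).map (c i)))
    rw [hc']
    exact K597.locP_precomp (hp' i).et (K597.locP_bc K597.etLoc_flat (IsPullback.of_hasPullback (g i) y)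
      (hYi i).hasAtlas hY.hasAtlas hT.hasAtlas (hc.1 i).1)
  · refine locP_yon_map (?_ : LocP @LocallyOfFinitePresentation ((yon S).map (c i)))
    rw [hc']
    exact K597.locP_precomp (hp' i).et (K597.locP_bc K597.etLoc_lfp (IsPullback.of_hasPullback (g i) y)
      (hYi i).hasAtlas hY.hasAtlas hT.hasAtlas (hc.1 i).2)
  · obtain ⟨i, z, hz⟩ := hc.2 (Points.map y (Points.ofScheme T t))
    obtain ⟨q, -, hq⟩ := K609.Points.exists_of_isPullback (IsPullback.of_hasPullback (g i) y) z (Points.ofScheme T t) hz
    obtain ⟨r, rfl⟩ := K609.Points.surjective_map_of_repWith_surjective (hp' i).surj q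
    obtain ⟨t', rfl⟩ := K609.Points.ofScheme_surjective _ r
    refine ⟨i, t', K609.Points.ofScheme_injective _ ?_⟩
    rw [← hq, ← Points.map_comp, ← K609.Points.map_yon_map_ofScheme, hc']

/-- Two maps from a scheme which agree on an fppf covering are equal. -/
theorem eq_of_cover {F : Sp S} {T : Over S} {ι : Type u} (T' : ι → Over S) (c : ∀ i, T' i ⟶ T) (hf : ∀ i, Flat (c i).left)
    (hp : ∀ i, LocallyOfFinitePresentation (c i).left)
    (hs : ∀ t : T.left, ∃ (i : ι) (t' : (T' i).left), (c i).left t' = t) {x y : (yon S).obj T ⟶ F}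
    (h : ∀ i, (yon S).map (c i) ≫ x = (yon S).map (c i) ≫ y) : x = y := by
  obtain ⟨z, -, hz⟩ := K613.Basic.glueFam T' c hf hp hs (fun i => (yon S).map (c i) ≫ x) (fun i j R a b hab => by
    rw [← Category.assoc, ← Category.assoc, ← Functor.map_comp, ← Functor.map_comp, hab])
  rw [hz x fun _ => rfl, hz y fun i => (h i).symm]

theorem isLocalOnBase_mono : IsLocalOnBase (S := S) IsFppfCover (MorphismProperty.monomorphisms (Sp S)) := by
  intro ι Y Yi g hY hYi hc X f hX Xi p q hXi sq
  constructor
  · intro hf i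
    have : Mono f := hf
    exact MorphismProperty.of_isPullback (sq i) hf
  · intro h
    refine K613.Basic.mono_of_injective fun T x x' hxx => ?_
    obtain ⟨T', c, l, h1, h2, h3, h4⟩ := exists_refinement hY hYi hc (x ≫ f)
    refine eq_of_cover T' c h2 h3 h4 fun i => ?_
    have hm : Mono (p i) := h i
    have e1 : ((yon S).map (c i) ≫ x) ≫ f = l i ≫ g i := by rw [h1, Category.assoc]
    have e2 : ((yon S).map (c i) ≫ x') ≫ f = l i ≫ g i := by rw [h1, Category.assoc, hxx]
    have e3 : (sq i).lift _ _ e1 = (sq i).lift _ _ e2 := by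
      rw [← cancel_mono (p i), (sq i).lift_snd, (sq i).lift_snd]
    rw [← (sq i).lift_fst _ _ e1, ← (sq i).lift_fst _ _ e2, e3]

theorem stabBC_mono : StabBC (S := S) (MorphismProperty.monomorphisms (Sp S)) := by
  intro X₁ Y₁ X₂ Y₂ _ _ _ _ a b a' b' sq h
  exact MorphismProperty.of_isPullback sq h

end K736.Cover
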