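import Groth.Prelude.Def_FibCat2
/-!
# Categories fibred in groupoids: basic calculus (helper736)

For `p : 𝒳 ⥤ C` fibred in groupoids (`FibCat.IsFibGrpd p`): unique lifts (`lift`), chosen pullbacks (`pull`), the 2-Yoneda functor
`ofObj 𝒳 x i : overCat U ⥤ᵇ 𝒳` of an object `x` and a map `i : U ⟶ 𝒳.p.obj x`, natural transformations out of `overCat U` from their
value at the identity, `IsFibGrpd` for slices and 2-fibre products, the full-faithful-essentially-surjective criterion for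
`FibCat.IsEquivOver`, and its closure properties.
-/

set_option autoImplicit false
set_option backward.isDefEq.respectTransparency false
set_option backward.isDefEq.respectTransparency.types false

universe v₅ u₅ v₄ u₄ v₃ u₃ v₂ u₂ v u

open CategoryTheory CategoryTheory.Limits

namespace K736.Fib

variable {C : Type u} [Category.{v} C]

section Lift

variable {𝒳 : Type u₂} [Category.{v₂} 𝒳] {p : 𝒳 ⥤ C}

theorem map_eq_of_isHomLift {a b : 𝒳} (f : p.obj a ⟶ p.obj b) (φ : a ⟶ b) [h : p.IsHomLift f φ] : p.map φ = f :=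
  (IsHomLift.eq_of_isHomLift p f φ).symm

theorem isHomLift_of_map_eq {a b : 𝒳} (f : p.obj a ⟶ p.obj b) (φ : a ⟶ b) (h : p.map φ = f) : p.IsHomLift f φ := by
  subst h; infer_instance

/-- `φ` lies over an identity, in terms of `eqToHom`. -/
theorem isHomLift_id_iff {a b : 𝒳} (φ : a ⟶ b) :
    p.IsHomLift (𝟙 (p.obj a)) φ ↔ ∃ h : p.obj a = p.obj b, p.map φ = eqToHom h := by
  constructor
  · intro h
    have h1 := IsHomLift.codomain_eq p (𝟙 (p.obj a)) φ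
    refine ⟨h1.symm, ?_⟩
    have := IsHomLift.fac' p (𝟙 (p.obj a)) φ
    rw [this]; simp
  · rintro ⟨h, e⟩
    exact IsHomLift.of_fac' p _ φ rfl h.symm (by rw [e]; simp)

theorem isHomLift_id_iff' {a b : 𝒳} (φ : a ⟶ b) :
    p.IsHomLift (𝟙 (p.obj b)) φ ↔ ∃ h : p.obj a = p.obj b, p.map φ = eqToHom h := by
  constructor
  · intro h
    have h1 := IsHomLift.domain_eq p (𝟙 (p.obj b)) φ
    refine ⟨h1, ?_⟩
    have := IsHomLift.fac' p (𝟙 (p.obj b)) φ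
    rw [this]; simp
  · rintro ⟨h, e⟩
    exact IsHomLift.of_fac' p _ φ h rfl (by rw [e]; simp)

theorem isHomLift_id_of {a b : 𝒳} (φ : a ⟶ b) {T : C} (ha : p.obj a = T) (h : p.obj a = p.obj b)
    (e : p.map φ = eqToHom h) : p.IsHomLift (𝟙 T) φ := by
  subst ha
  exact (isHomLift_id_iff φ).2 ⟨h, e⟩

theorem map_eq_eqToHom {a b : 𝒳} (φ : a ⟶ b) {T : C} [h : p.IsHomLift (𝟙 T) φ] :
    p.map φ = eqToHom ((IsHomLift.domain_eq p (𝟙 T) φ).trans (IsHomLift.codomain_eq p (𝟙 T) φ).symm) := by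
  rw [IsHomLift.fac' p (𝟙 T) φ]; simp

section

variable (hp : FibCat.IsFibGrpd p)
include hp

theorem existsUnique_lift {x y z : 𝒳} (φ : y ⟶ x) (ψ : z ⟶ x) (g : p.obj z ⟶ p.obj y)
    (h : g ≫ p.map φ = p.map ψ) : ∃! χ : z ⟶ y, p.map χ = g ∧ χ ≫ φ = ψ := by
  have := hp.isStronglyCartesian φ
  have hψ : p.IsHomLift (g ≫ p.map φ) ψ := by rw [h]; infer_instance
  obtain ⟨χ, ⟨h1, h2⟩, h3⟩ := this.universal_property' g ψ
  refine ⟨χ, ⟨map_eq_of_isHomLift _ _, h2⟩, ?_⟩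
  rintro χ' ⟨h4, h5⟩
  exact h3 χ' ⟨isHomLift_of_map_eq _ _ h4, h5⟩

/-- The unique lift. -/
noncomputable def lift {x y z : 𝒳} (φ : y ⟶ x) (ψ : z ⟶ x) (g : p.obj z ⟶ p.obj y)
    (h : g ≫ p.map φ = p.map ψ) : z ⟶ y := (existsUnique_lift hp φ ψ g h).choose

theorem map_lift {x y z : 𝒳} (φ : y ⟶ x) (ψ : z ⟶ x) (g : p.obj z ⟶ p.obj y)
    (h : g ≫ p.map φ = p.map ψ) : p.map (lift hp φ ψ g h) = g :=
  (existsUnique_lift hp φ ψ g h).choose_spec.1.1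

theorem lift_comp {x y z : 𝒳} (φ : y ⟶ x) (ψ : z ⟶ x) (g : p.obj z ⟶ p.obj y)
    (h : g ≫ p.map φ = p.map ψ) : lift hp φ ψ g h ≫ φ = ψ :=
  (existsUnique_lift hp φ ψ g h).choose_spec.1.2

theorem hom_ext {x y z : 𝒳} (φ : y ⟶ x) {χ χ' : z ⟶ y} (h1 : p.map χ = p.map χ') (h2 : χ ≫ φ = χ' ≫ φ) :
    χ = χ' := by
  obtain ⟨_, _, h⟩ := existsUnique_lift hp φ (χ' ≫ φ) (p.map χ') (by simp)
  rw [h χ ⟨h1, h2⟩, h χ' ⟨rfl, rfl⟩]

theorem isIso_of_isIso_map {x y : 𝒳} (φ : y ⟶ x) [IsIso (p.map φ)] : IsIso φ := by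
  refine ⟨lift hp φ (𝟙 x) (inv (p.map φ)) (by simp), ?_, lift_comp _ _ _ _ _⟩
  refine hom_ext hp φ ?_ ?_
  · simp [map_lift]
  · rw [Category.assoc, lift_comp]; simp

theorem isIso_of_isHomLift_id {x y : 𝒳} (φ : y ⟶ x) {T : C} [h : p.IsHomLift (𝟙 T) φ] : IsIso φ := by
  have : IsIso (p.map φ) := by rw [map_eq_eqToHom φ (T := T)]; infer_instance
  exact isIso_of_isIso_map hp φ

theorem exists_pull {x : 𝒳} {V : C} (f : V ⟶ p.obj x) :
    ∃ (y : 𝒳) (φ : y ⟶ x) (h : p.obj y = V), p.map φ = eqToHom h ≫ f := by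
  obtain ⟨y, φ, h⟩ := hp.exists_lift f
  exact ⟨y, φ, IsHomLift.domain_eq p f φ, by simpa using IsHomLift.fac' p f φ⟩

/-- A chosen pullback of `x` along `f`. -/
noncomputable def pull {x : 𝒳} {V : C} (f : V ⟶ p.obj x) : 𝒳 := (exists_pull hp f).choose

noncomputable def pullHom {x : 𝒳} {V : C} (f : V ⟶ p.obj x) : pull hp f ⟶ x :=
  (exists_pull hp f).choose_spec.choose

theorem pull_obj {x : 𝒳} {V : C} (f : V ⟶ p.obj x) : p.obj (pull hp f) = V :=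
  (exists_pull hp f).choose_spec.choose_spec.choose

theorem map_pullHom {x : 𝒳} {V : C} (f : V ⟶ p.obj x) :
    p.map (pullHom hp f) = eqToHom (pull_obj hp f) ≫ f :=
  (exists_pull hp f).choose_spec.choose_spec.choose_spec

end

end Lift

/-! ### Based functors and natural transformations -/

section Based

variable {𝒳 : BasedCategory.{v₂, u₂} C} {𝒴 : BasedCategory.{v₃, u₃} C} {𝒵 : BasedCategory.{v₄, u₄} C}

/-- For a based functor `F`, `𝒴.p.map (F.map φ)` is `𝒳.p.map φ` up to `eqToHom`. -/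
theorem p_map (F : 𝒳 ⥤ᵇ 𝒴) {a b : 𝒳.obj} (φ : a ⟶ b) :
    𝒴.p.map (F.map φ) = eqToHom (F.w_obj a) ≫ 𝒳.p.map φ ≫ eqToHom (F.w_obj b).symm := by
  have := Functor.congr_hom F.w φ
  simpa using this

theorem natTrans_ext {F G : 𝒳 ⥤ᵇ 𝒴} (α β : F ⟶ G) (h : ∀ a, α.toNatTrans.app a = β.toNatTrans.app a) : α = β := by
  apply BasedNatTrans.homCategory.ext
  ext a
  exact h a

theorem p_map_app {F G : 𝒳 ⥤ᵇ 𝒴} (α : F ⟶ G) (a : 𝒳.obj) :
    𝒴.p.map (α.toNatTrans.app a) = eqToHom ((F.w_obj a).trans (G.w_obj a).symm) := by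
  have := α.isHomLift' a
  exact map_eq_eqToHom (T := 𝒳.p.obj a) _

@[simp] theorem comp_app {F G H : 𝒳 ⥤ᵇ 𝒴} (α : F ⟶ G) (β : G ⟶ H) (a : 𝒳.obj) :
    (α ≫ β).toNatTrans.app a = α.toNatTrans.app a ≫ β.toNatTrans.app a := rfl

@[simp] theorem id_app (F : 𝒳 ⥤ᵇ 𝒴) (a : 𝒳.obj) : (𝟙 F : F ⟶ F).toNatTrans.app a = 𝟙 (F.obj a) := rfl

@[reassoc (attr := simp)]
theorem hom_inv_app {F G : 𝒳 ⥤ᵇ 𝒴} (α : F ≅ G) (a : 𝒳.obj) :
    α.hom.toNatTrans.app a ≫ α.inv.toNatTrans.app a = 𝟙 (F.obj a) := by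
  rw [← comp_app, α.hom_inv_id]; rfl

@[reassoc (attr := simp)]
theorem inv_hom_app {F G : 𝒳 ⥤ᵇ 𝒴} (α : F ≅ G) (a : 𝒳.obj) :
    α.inv.toNatTrans.app a ≫ α.hom.toNatTrans.app a = 𝟙 (G.obj a) := by
  rw [← comp_app, α.inv_hom_id]; rfl

/-- The component of a 2-isomorphism, as an isomorphism. -/
@[simps] def appIso {F G : 𝒳 ⥤ᵇ 𝒴} (α : F ≅ G) (a : 𝒳.obj) : F.obj a ≅ G.obj a where
  hom := α.hom.toNatTrans.app a
  inv := α.inv.toNatTrans.app a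
  hom_inv_id := hom_inv_app α a
  inv_hom_id := inv_hom_app α a

/-- Constructor of 2-isomorphisms from componentwise data over identities. -/
def mkIso {F G : 𝒳 ⥤ᵇ 𝒴} (app : ∀ a, F.obj a ≅ G.obj a)
    (nat : ∀ {a b : 𝒳.obj} (f : a ⟶ b), F.map f ≫ (app b).hom = (app a).hom ≫ G.map f)
    (h : ∀ a, ∃ e : 𝒴.p.obj (F.obj a) = 𝒴.p.obj (G.obj a), 𝒴.p.map (app a).hom = eqToHom e) : F ≅ G :=
  BasedNatIso.mkNatIso (NatIso.ofComponents app nat) (fun a => by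
    obtain ⟨e, he⟩ := h a
    exact isHomLift_id_of _ (F.w_obj a) e he)

@[simp] theorem mkIso_hom_app {F G : 𝒳 ⥤ᵇ 𝒴} (app : ∀ a, F.obj a ≅ G.obj a)
    (nat : ∀ {a b : 𝒳.obj} (f : a ⟶ b), F.map f ≫ (app b).hom = (app a).hom ≫ G.map f)
    (h : ∀ a, ∃ e : 𝒴.p.obj (F.obj a) = 𝒴.p.obj (G.obj a), 𝒴.p.map (app a).hom = eqToHom e) (a : 𝒳.obj) :
    (mkIso app nat h).hom.toNatTrans.app a = (app a).hom := rfl

@[simp] theorem mkIso_inv_app {F G : 𝒳 ⥤ᵇ 𝒴} (app : ∀ a, F.obj a ≅ G.obj a)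
    (nat : ∀ {a b : 𝒳.obj} (f : a ⟶ b), F.map f ≫ (app b).hom = (app a).hom ≫ G.map f)
    (h : ∀ a, ∃ e : 𝒴.p.obj (F.obj a) = 𝒴.p.obj (G.obj a), 𝒴.p.map (app a).hom = eqToHom e) (a : 𝒳.obj) :
    (mkIso app nat h).inv.toNatTrans.app a = (app a).inv := rfl

/-- When the target is fibred in groupoids, a 2-morphism is invertible. -/
theorem isIso_of_isFibGrpd (h𝒴 : FibCat.IsFibGrpd 𝒴.p) {F G : 𝒳 ⥤ᵇ 𝒴} (α : F ⟶ G) : IsIso α := by
  have : ∀ a, IsIso (α.toNatTrans.app a) := fun a => by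
    have := α.isHomLift' a
    exact isIso_of_isHomLift_id h𝒴 _ (T := 𝒳.p.obj a)
  have : IsIso (X := F.toFunctor) α.toNatTrans := NatIso.isIso_of_isIso_app α.toNatTrans
  exact BasedNatIso.isIso_of_toNatTrans_isIso α

/-! ### Equivalences over the base -/

theorem isEquivOver_iff (F : 𝒳 ⥤ᵇ 𝒴) :
    FibCat.IsEquivOver F ↔
      (F.toFunctor.Full ∧ F.toFunctor.Faithful) ∧
        ∀ η : 𝒴.obj, ∃ (ξ : 𝒳.obj) (e : F.toFunctor.obj ξ ≅ η), 𝒴.p.IsHomLift (𝟙 (𝒴.p.obj η)) e.hom := by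
  constructor
  · rintro ⟨G, ⟨α⟩, ⟨β⟩⟩
    let e : 𝒳.obj ≌ 𝒴.obj :=
      CategoryTheory.Equivalence.mk F.toFunctor G.toFunctor
        ((BasedNatTrans.forgetful _ _).mapIso α.symm) ((BasedNatTrans.forgetful _ _).mapIso β)
    have hF : F.toFunctor.IsEquivalence := e.isEquivalence_functor
    refine ⟨⟨inferInstance, inferInstance⟩, fun η => ⟨G.obj η, appIso β η, ?_⟩⟩
    exact β.hom.isHomLift' η
  · rintro ⟨⟨h1, h2⟩, h3⟩
    choose ξ e he using h3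
    have hξ : ∀ η, 𝒳.p.obj (ξ η) = 𝒴.p.obj η := fun η => by
      rw [← F.w_obj]; exact IsHomLift.domain_eq 𝒴.p (𝟙 (𝒴.p.obj η)) (e η).hom
    let G₀ : 𝒴.obj ⥤ 𝒳.obj :=
      { obj := ξ
        map := fun {a b} f => F.toFunctor.preimage ((e a).hom ≫ f ≫ (e b).inv)
        map_id := fun a => F.toFunctor.map_injective (by simp)
        map_comp := fun f g => F.toFunctor.map_injective (by simp) }
    have hG : ∀ {a b : 𝒴.obj} (f : a ⟶ b), F.map (G₀.map f) = (e a).hom ≫ f ≫ (e b).inv := fun f =>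
      F.toFunctor.map_preimage _
    let G : 𝒴 ⥤ᵇ 𝒳 :=
      { toFunctor := G₀
        w := by
          refine Functor.ext hξ fun a b f => ?_
          have hlift : 𝒳.p.IsHomLift (𝒴.p.map f) (G₀.map f) := by
            rw [← BasedFunctor.isHomLift_iff F, hG]
            have := he a
            have := he b
            infer_instance
          simpa using IsHomLift.fac' 𝒳.p (𝒴.p.map f) (G₀.map f) }
    refine ⟨G, ⟨?_⟩, ⟨?_⟩⟩
    · refine BasedNatIso.mkNatIso (NatIso.ofComponents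
        (fun a => F.toFunctor.preimageIso (e (F.obj a))) ?_) ?_
      · intro a b f
        apply F.toFunctor.map_injective
        have := hG (F.map f)
        simp only [Functor.map_comp, Functor.preimageIso_hom, Functor.map_preimage]
        erw [this]; simp only [Category.assoc, Iso.inv_hom_id, Category.comp_id]; rfl
      · intro a
        rw [← BasedFunctor.isHomLift_iff F]
        have h4 := he (F.obj a)
        have h5 : F.map (F.toFunctor.preimageIso (e (F.obj a))).hom = (e (F.obj a)).hom :=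
          F.toFunctor.map_preimage _
        have h6 : 𝒴.p.IsHomLift (𝟙 (𝒳.p.obj a)) (e (F.obj a)).hom := by
          rw [← F.w_obj a]; exact h4
        change 𝒴.p.IsHomLift _ (F.map (F.toFunctor.preimageIso (e (F.obj a))).hom)
        rw [h5]
        exact h6
    · refine BasedNatIso.mkNatIso (NatIso.ofComponents (fun a => e a) ?_) ?_
      · intro a b f
        have := hG f
        change F.map (G₀.map f) ≫ _ = _
        rw [this]; simp only [Category.assoc, Iso.inv_hom_id, Category.comp_id]; rfl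
      · intro a
        exact he a

theorem isEquivOver_iff' (F : 𝒳 ⥤ᵇ 𝒴) :
    FibCat.IsEquivOver F ↔
      (F.toFunctor.Full ∧ F.toFunctor.Faithful) ∧
        ∀ η : 𝒴.obj, ∃ (ξ : 𝒳.obj) (e : F.toFunctor.obj ξ ≅ η) (h : 𝒴.p.obj (F.toFunctor.obj ξ) = 𝒴.p.obj η),
          𝒴.p.map e.hom = eqToHom h := by
  rw [isEquivOver_iff]
  refine and_congr Iff.rfl (forall_congr' fun η => exists_congr fun ξ => exists_congr fun e => ?_)
  exact isHomLift_id_iff' _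

/-- When the target is fibred in groupoids, essential surjectivity may be tested by morphisms over identities. -/
theorem isEquivOver_of_isFibGrpd (h𝒴 : FibCat.IsFibGrpd 𝒴.p) (F : 𝒳 ⥤ᵇ 𝒴) (h1 : F.toFunctor.Full)
    (h2 : F.toFunctor.Faithful)
    (h3 : ∀ η : 𝒴.obj, ∃ (ξ : 𝒳.obj) (e : F.toFunctor.obj ξ ⟶ η) (h : 𝒴.p.obj (F.toFunctor.obj ξ) = 𝒴.p.obj η),
          𝒴.p.map e = eqToHom h) : FibCat.IsEquivOver F := by
  rw [isEquivOver_iff']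
  refine ⟨⟨h1, h2⟩, fun η => ?_⟩
  obtain ⟨ξ, e, h, he⟩ := h3 η
  have : IsIso (𝒴.p.map e) := by rw [he]; infer_instance
  have := isIso_of_isIso_map h𝒴 e
  exact ⟨ξ, asIso e, h, he⟩

theorem IsEquivOver.full {F : 𝒳 ⥤ᵇ 𝒴} (h : FibCat.IsEquivOver F) : F.toFunctor.Full :=
  ((isEquivOver_iff F).1 h).1.1

theorem IsEquivOver.faithful {F : 𝒳 ⥤ᵇ 𝒴} (h : FibCat.IsEquivOver F) : F.toFunctor.Faithful :=
  ((isEquivOver_iff F).1 h).1.2

theorem IsEquivOver.exists_iso {F : 𝒳 ⥤ᵇ 𝒴} (h : FibCat.IsEquivOver F) (η : 𝒴.obj) :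
    ∃ (ξ : 𝒳.obj) (e : F.toFunctor.obj ξ ≅ η) (h : 𝒴.p.obj (F.toFunctor.obj ξ) = 𝒴.p.obj η),
          𝒴.p.map e.hom = eqToHom h :=
  ((isEquivOver_iff' F).1 h).2 η

/-- Whiskering of 2-isomorphisms. -/
def isoWhiskerLeft (F : 𝒳 ⥤ᵇ 𝒴) {G H : 𝒴 ⥤ᵇ 𝒵} (α : G ≅ H) :
    BasedFunctor.comp F G ≅ BasedFunctor.comp F H where
  hom := BasedCategory.whiskerLeft F α.hom
  inv := BasedCategory.whiskerLeft F α.inv
  hom_inv_id := natTrans_ext _ _ fun a => hom_inv_app α (F.obj a)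
  inv_hom_id := natTrans_ext _ _ fun a => inv_hom_app α (F.obj a)

@[simp] theorem isoWhiskerLeft_hom_app (F : 𝒳 ⥤ᵇ 𝒴) {G H : 𝒴 ⥤ᵇ 𝒵} (α : G ≅ H) (a : 𝒳.obj) :
    (isoWhiskerLeft F α).hom.toNatTrans.app a = α.hom.toNatTrans.app (F.obj a) := rfl

@[simp] theorem isoWhiskerLeft_inv_app (F : 𝒳 ⥤ᵇ 𝒴) {G H : 𝒴 ⥤ᵇ 𝒵} (α : G ≅ H) (a : 𝒳.obj) :
    (isoWhiskerLeft F α).inv.toNatTrans.app a = α.inv.toNatTrans.app (F.obj a) := rfl

def isoWhiskerRight {F G : 𝒳 ⥤ᵇ 𝒴} (α : F ≅ G) (H : 𝒴 ⥤ᵇ 𝒵) :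
    BasedFunctor.comp F H ≅ BasedFunctor.comp G H where
  hom := BasedCategory.whiskerRight α.hom H
  inv := BasedCategory.whiskerRight α.inv H
  hom_inv_id := natTrans_ext _ _ fun a => by
    change H.map (α.hom.toNatTrans.app a) ≫ H.map (α.inv.toNatTrans.app a) = 𝟙 _
    rw [← H.toFunctor.map_comp, hom_inv_app]; exact H.toFunctor.map_id _
  inv_hom_id := natTrans_ext _ _ fun a => by
    change H.map (α.inv.toNatTrans.app a) ≫ H.map (α.hom.toNatTrans.app a) = 𝟙 _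
    rw [← H.toFunctor.map_comp, inv_hom_app]; exact H.toFunctor.map_id _

@[simp] theorem isoWhiskerRight_hom_app {F G : 𝒳 ⥤ᵇ 𝒴} (α : F ≅ G) (H : 𝒴 ⥤ᵇ 𝒵) (a : 𝒳.obj) :
    (isoWhiskerRight α H).hom.toNatTrans.app a = H.map (α.hom.toNatTrans.app a) := rfl

@[simp] theorem isoWhiskerRight_inv_app {F G : 𝒳 ⥤ᵇ 𝒴} (α : F ≅ G) (H : 𝒴 ⥤ᵇ 𝒵) (a : 𝒳.obj) :
    (isoWhiskerRight α H).inv.toNatTrans.app a = H.map (α.inv.toNatTrans.app a) := rfl

theorem isEquivOver_id (𝒳 : BasedCategory.{v₂, u₂} C) : FibCat.IsEquivOver (BasedFunctor.id 𝒳) :=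
  ⟨BasedFunctor.id 𝒳, ⟨Iso.refl _⟩, ⟨Iso.refl _⟩⟩

theorem isEquivOver_comp {F : 𝒳 ⥤ᵇ 𝒴} {G : 𝒴 ⥤ᵇ 𝒵} (hF : FibCat.IsEquivOver F) (hG : FibCat.IsEquivOver G) :
    FibCat.IsEquivOver (BasedFunctor.comp F G) := by
  obtain ⟨F', ⟨a⟩, ⟨b⟩⟩ := hF
  obtain ⟨G', ⟨c⟩, ⟨d⟩⟩ := hG
  refine ⟨BasedFunctor.comp G' F', ⟨?_⟩, ⟨?_⟩⟩
  · exact (isoWhiskerLeft F (isoWhiskerRight c F')).trans a
  · exact (isoWhiskerLeft G' (isoWhiskerRight b G)).trans d

theorem isEquivOver_of_iso {F G : 𝒳 ⥤ᵇ 𝒴} (α : F ≅ G) (hF : FibCat.IsEquivOver F) : FibCat.IsEquivOver G := by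
  obtain ⟨F', ⟨a⟩, ⟨b⟩⟩ := hF
  exact ⟨F', ⟨(isoWhiskerRight α.symm F').trans a⟩, ⟨(isoWhiskerLeft F' α.symm).trans b⟩⟩

theorem isEquivOver_iff_of_iso {F G : 𝒳 ⥤ᵇ 𝒴} (α : F ≅ G) : FibCat.IsEquivOver F ↔ FibCat.IsEquivOver G :=
  ⟨isEquivOver_of_iso α, isEquivOver_of_iso α.symm⟩

/-- An inverse of an equivalence is an equivalence, in the form used in proofs. -/
theorem IsEquivOver.exists_inverse {F : 𝒳 ⥤ᵇ 𝒴} (hF : FibCat.IsEquivOver F) :
    ∃ G : 𝒴 ⥤ᵇ 𝒳, FibCat.IsEquivOver G ∧ Nonempty (BasedFunctor.comp F G ≅ BasedFunctor.id 𝒳) ∧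
      Nonempty (BasedFunctor.comp G F ≅ BasedFunctor.id 𝒴) := by
  obtain ⟨G, a, b⟩ := hF
  exact ⟨G, ⟨F, b, a⟩, a, b⟩

theorem isEquivOver_of_comp_left {F : 𝒳 ⥤ᵇ 𝒴} {G : 𝒴 ⥤ᵇ 𝒵} (hF : FibCat.IsEquivOver F)
    (h : FibCat.IsEquivOver (BasedFunctor.comp F G)) : FibCat.IsEquivOver G := by
  obtain ⟨F', hF', ⟨a⟩, ⟨b⟩⟩ := IsEquivOver.exists_inverse hF
  have h' : FibCat.IsEquivOver (BasedFunctor.comp F' (BasedFunctor.comp F G)) := isEquivOver_comp hF' h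
  exact isEquivOver_of_iso (F := BasedFunctor.comp (BasedFunctor.comp F' F) G) (isoWhiskerRight b G) h'

theorem isEquivOver_of_comp_right {F : 𝒳 ⥤ᵇ 𝒴} {G : 𝒴 ⥤ᵇ 𝒵} (hG : FibCat.IsEquivOver G)
    (h : FibCat.IsEquivOver (BasedFunctor.comp F G)) : FibCat.IsEquivOver F := by
  obtain ⟨G', hG', ⟨a⟩, ⟨b⟩⟩ := IsEquivOver.exists_inverse hG
  have h' : FibCat.IsEquivOver (BasedFunctor.comp (BasedFunctor.comp F G) G') := isEquivOver_comp h hG'
  exact isEquivOver_of_iso (F := BasedFunctor.comp F (BasedFunctor.comp G G')) (isoWhiskerLeft F a) h'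

end Based

/-! ### The 2-Yoneda lemma -/

section Yoneda

variable {𝒳 : BasedCategory.{v₂, u₂} C} (h𝒳 : FibCat.IsFibGrpd 𝒳.p)

theorem overCat_id_left {U : C} (g : (FibCat.overCat U).obj) : Over.Hom.left (𝟙 g) = 𝟙 (Comma.left g) := rfl

theorem overCat_comp_left {U : C} {g h k : (FibCat.overCat U).obj} (φ : g ⟶ h) (ψ : h ⟶ k) :
    Over.Hom.left (φ ≫ ψ) = Over.Hom.left φ ≫ Over.Hom.left ψ := rfl

theorem ofObj_aux (x : 𝒳.obj) {U : C} (i : U ⟶ 𝒳.p.obj x) {g h : (FibCat.overCat U).obj} (φ : g ⟶ h) :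
    (eqToHom (pull_obj h𝒳 (Over.hom g ≫ i)) ≫ Over.Hom.left φ ≫ eqToHom (pull_obj h𝒳 (Over.hom h ≫ i)).symm) ≫
      𝒳.p.map (pullHom h𝒳 (Over.hom h ≫ i)) = 𝒳.p.map (pullHom h𝒳 (Over.hom g ≫ i)) := by
  have := Over.w φ
  simp only [map_pullHom, Category.assoc, eqToHom_trans_assoc, eqToHom_refl, Category.id_comp]
  rw [← this]; simp

/-- The functor `C/U ⟶ 𝒳` over `C` given by pulling back the object `x` along a map `i : U ⟶ 𝒳.p.obj x`. -/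
noncomputable def ofObj (x : 𝒳.obj) {U : C} (i : U ⟶ 𝒳.p.obj x) : FibCat.overCat U ⥤ᵇ 𝒳 where
  toFunctor :=
    { obj := fun g => pull h𝒳 (g.hom ≫ i)
      map := fun {g h} φ => lift h𝒳 (pullHom h𝒳 (h.hom ≫ i)) (pullHom h𝒳 (g.hom ≫ i))
        (eqToHom (pull_obj h𝒳 _) ≫ Over.Hom.left φ ≫ eqToHom (pull_obj h𝒳 _).symm) (ofObj_aux h𝒳 x i φ)
      map_id := fun g => by
        refine hom_ext h𝒳 (pullHom h𝒳 (g.hom ≫ i)) ?_ ?_
        · rw [map_lift, overCat_id_left, Category.id_comp]; simp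
        · rw [lift_comp]; simp
      map_comp := fun {g h k} φ ψ => by
        refine hom_ext h𝒳 (pullHom h𝒳 (k.hom ≫ i)) ?_ ?_
        · rw [Functor.map_comp, map_lift, map_lift, map_lift]
          change _ ≫ (Over.Hom.left φ ≫ Over.Hom.left ψ) ≫ _ = _
          simp
        · simp [lift_comp] }
  w := Functor.ext (fun g => pull_obj h𝒳 _) (fun g h φ => map_lift h𝒳 _ _ _ (ofObj_aux h𝒳 x i φ))

/-- The canonical morphism from the value of `ofObj x i` at `g` to `x`, lying over `g.hom ≫ i`. -/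
noncomputable def ofObjHom (x : 𝒳.obj) {U : C} (i : U ⟶ 𝒳.p.obj x) (g : Over U) :
    (ofObj h𝒳 x i).obj g ⟶ x := pullHom h𝒳 (g.hom ≫ i)

theorem map_ofObjHom (x : 𝒳.obj) {U : C} (i : U ⟶ 𝒳.p.obj x) (g : Over U) :
    𝒳.p.map (ofObjHom h𝒳 x i g) = eqToHom ((ofObj h𝒳 x i).w_obj g) ≫ g.hom ≫ i := map_pullHom h𝒳 _

@[reassoc]
theorem ofObj_map_ofObjHom (x : 𝒳.obj) {U : C} (i : U ⟶ 𝒳.p.obj x) {g h : Over U} (φ : g ⟶ h) :
    (ofObj h𝒳 x i).map φ ≫ ofObjHom h𝒳 x i h = ofObjHom h𝒳 x i g :=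
  lift_comp h𝒳 _ _ _ (ofObj_aux h𝒳 x i φ)

theorem overCat_p_map {U : C} {g h : (FibCat.overCat U).obj} (φ : g ⟶ h) :
    (FibCat.overCat U).p.map φ = φ.left := rfl

/-- The structure morphism of `g` as a morphism to the terminal object of the slice. -/
def toId {U : C} (g : Over U) : g ⟶ Over.mk (𝟙 U) := Over.homMk g.hom (by simp)

@[simp] theorem toId_left {U : C} (g : Over U) : (toId g).left = g.hom := rfl

@[reassoc (attr := simp)]
theorem comp_toId {U : C} {g h : Over U} (φ : g ⟶ h) : φ ≫ toId h = toId g := by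
  ext; simp [toId]

theorem toId_id (U : C) : toId (Over.mk (𝟙 U)) = 𝟙 _ := by ext; simp [toId]

theorem homOfId_aux {U : C} (F G : FibCat.overCat U ⥤ᵇ 𝒳)
    (t : F.obj (Over.mk (𝟙 U)) ⟶ G.obj (Over.mk (𝟙 U)))
    (ht : 𝒳.p.map t = eqToHom ((F.w_obj _).trans (G.w_obj _).symm)) (g : Over U) :
    eqToHom ((F.w_obj g).trans (G.w_obj g).symm) ≫ 𝒳.p.map (G.map (toId g)) = 𝒳.p.map (F.map (toId g) ≫ t) := by
  rw [Functor.map_comp, ht, p_map, p_map]; simp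

/-- The 2-morphism determined by its value at the identity. -/
noncomputable def homOfId {U : C} (F G : FibCat.overCat U ⥤ᵇ 𝒳)
    (t : F.obj (Over.mk (𝟙 U)) ⟶ G.obj (Over.mk (𝟙 U)))
    (ht : 𝒳.p.map t = eqToHom ((F.w_obj _).trans (G.w_obj _).symm)) : F ⟶ G :=
  { app := fun g => lift h𝒳 (G.map (toId g)) (F.map (toId g) ≫ t)
      (eqToHom ((F.w_obj g).trans (G.w_obj g).symm)) (homOfId_aux F G t ht g)
    naturality := fun g h φ => by
      refine hom_ext h𝒳 (G.map (toId h)) ?_ ?_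
      · have h1 : 𝒳.p.map (F.map φ) = _ := p_map F φ
        have h2 : 𝒳.p.map (G.map φ) = _ := p_map G φ
        simp only [Functor.map_comp, map_lift]
        erw [h1, h2]
        simp
      · simp only [Category.assoc, lift_comp]
        rw [← G.toFunctor.map_comp, comp_toId, lift_comp]
        erw [← F.toFunctor.map_comp_assoc, comp_toId]
    isHomLift' := fun g => isHomLift_id_of _ (F.w_obj g) ((F.w_obj g).trans (G.w_obj g).symm) (map_lift _ _ _ _ _) }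

@[reassoc]
theorem homOfId_app_comp {U : C} (F G : FibCat.overCat U ⥤ᵇ 𝒳)
    (t : F.obj (Over.mk (𝟙 U)) ⟶ G.obj (Over.mk (𝟙 U)))
    (ht : 𝒳.p.map t = eqToHom ((F.w_obj _).trans (G.w_obj _).symm)) (g : Over U) :
    (homOfId h𝒳 F G t ht).toNatTrans.app g ≫ G.map (toId g) = F.map (toId g) ≫ t :=
  lift_comp h𝒳 _ _ _ (homOfId_aux F G t ht g)

theorem homOfId_app_id {U : C} (F G : FibCat.overCat U ⥤ᵇ 𝒳)
    (t : F.obj (Over.mk (𝟙 U)) ⟶ G.obj (Over.mk (𝟙 U)))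
    (ht : 𝒳.p.map t = eqToHom ((F.w_obj _).trans (G.w_obj _).symm)) :
    (homOfId h𝒳 F G t ht).toNatTrans.app (Over.mk (𝟙 U)) = t := by
  have := homOfId_app_comp h𝒳 F G t ht (Over.mk (𝟙 U))
  rw [toId_id] at this
  erw [F.toFunctor.map_id, G.toFunctor.map_id] at this
  simpa using this

include h𝒳 in
/-- A 2-morphism between functors out of a slice is determined by its value at the identity. -/
theorem natTrans_ext_id {U : C} {F G : FibCat.overCat U ⥤ᵇ 𝒳} (α β : F ⟶ G)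
    (h : α.toNatTrans.app (Over.mk (𝟙 U)) = β.toNatTrans.app (Over.mk (𝟙 U))) : α = β := by
  refine natTrans_ext _ _ fun g => ?_
  refine hom_ext h𝒳 (G.map (toId g)) ?_ ?_
  · rw [p_map_app, p_map_app]
  · rw [← α.toNatTrans.naturality, ← β.toNatTrans.naturality, h]

/-- The 2-isomorphism determined by its value at the identity. -/
noncomputable def isoOfId {U : C} (F G : FibCat.overCat U ⥤ᵇ 𝒳)
    (t : F.obj (Over.mk (𝟙 U)) ⟶ G.obj (Over.mk (𝟙 U)))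
    (ht : 𝒳.p.map t = eqToHom ((F.w_obj _).trans (G.w_obj _).symm)) : F ≅ G :=
  have := isIso_of_isFibGrpd h𝒳 (homOfId h𝒳 F G t ht)
  asIso (homOfId h𝒳 F G t ht)

@[simp]
theorem isoOfId_hom {U : C} (F G : FibCat.overCat U ⥤ᵇ 𝒳)
    (t : F.obj (Over.mk (𝟙 U)) ⟶ G.obj (Over.mk (𝟙 U)))
    (ht : 𝒳.p.map t = eqToHom ((F.w_obj _).trans (G.w_obj _).symm)) :
    (isoOfId h𝒳 F G t ht).hom = homOfId h𝒳 F G t ht := rfl

/-- A morphism of `𝒳` from the value at the identity of `F` to `x` over `i` exhibits `F` as `ofObj x i`. -/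
noncomputable def isoOfObj {U : C} (F : FibCat.overCat U ⥤ᵇ 𝒳) (x : 𝒳.obj) (i : U ⟶ 𝒳.p.obj x)
    (t : F.obj (Over.mk (𝟙 U)) ⟶ x) (ht : 𝒳.p.map t = eqToHom (F.w_obj _) ≫ i) : F ≅ ofObj h𝒳 x i :=
  isoOfId h𝒳 F (ofObj h𝒳 x i)
    (lift h𝒳 (ofObjHom h𝒳 x i (Over.mk (𝟙 U))) t
      (eqToHom ((F.w_obj _).trans ((ofObj h𝒳 x i).w_obj _).symm)) (by
        rw [map_ofObjHom, ht, eqToHom_trans_assoc]; exact congrArg (_ ≫ ·) (Category.id_comp i))) (map_lift _ _ _ _ _)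

@[reassoc]
theorem isoOfObj_hom_app_comp {U : C} (F : FibCat.overCat U ⥤ᵇ 𝒳) (x : 𝒳.obj) (i : U ⟶ 𝒳.p.obj x)
    (t : F.obj (Over.mk (𝟙 U)) ⟶ x) (ht : 𝒳.p.map t = eqToHom (F.w_obj _) ≫ i) (g : Over U) :
    (isoOfObj h𝒳 F x i t ht).hom.toNatTrans.app g ≫ ofObjHom h𝒳 x i g = F.map (toId g) ≫ t := by
  rw [← ofObj_map_ofObjHom h𝒳 x i (toId g)]
  have := homOfId_app_comp_assoc h𝒳 F (ofObj h𝒳 x i) (lift h𝒳 (ofObjHom h𝒳 x i (Over.mk (𝟙 U))) t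
      (eqToHom ((F.w_obj _).trans ((ofObj h𝒳 x i).w_obj _).symm)) (by
        rw [map_ofObjHom, ht, eqToHom_trans_assoc]; exact congrArg (_ ≫ ·) (Category.id_comp i)))
      (map_lift _ _ _ _ _) g (ofObjHom h𝒳 x i (Over.mk (𝟙 U)))
  rw [lift_comp] at this
  exact this

end Yoneda

end K736.Fib
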