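import Groth.Agent.AlgSt.K736.Fib
/-!
# 2-fibre products over the base: calculus (helper736)

Objects and morphisms of `FibCat.fp F G`; `IsFibGrpd` for slices and 2-fibre products; functors and 2-morphisms into `fp`;
pasting `fp (g ⋙ z) f ≃ fp g (fpFst z f)`, symmetry, invariance under 2-isomorphisms and equivalences.
-/

set_option autoImplicit false
set_option backward.isDefEq.respectTransparency false
set_option backward.isDefEq.respectTransparency.types false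

universe v₇ u₇ v₆ u₆ v₅ u₅ v₄ u₄ v₃ u₃ v₂ u₂ v u

open CategoryTheory CategoryTheory.Limits

namespace K736.Fib

variable {C : Type u} [Category.{v} C]

theorem isFibGrpd_overForget (U : C) : FibCat.IsFibGrpd (Over.forget U) where
  exists_lift := fun {x} {V} f => ⟨Over.mk (f ≫ x.hom), Over.homMk f rfl, IsHomLift.map (Over.forget U) (Over.homMk f rfl : Over.mk (f ≫ x.hom) ⟶ x)⟩
  isStronglyCartesian := fun {y x} φ =>
    { universal_property' := fun {a'} g φ' hφ' => by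
        have hg : g ≫ φ.left = φ'.left :=
          IsHomLift.eq_of_isHomLift (Over.forget U) (g ≫ (Over.forget U).map φ) φ'
        have hw : g ≫ y.hom = a'.hom := by
          rw [← Over.w φ, reassoc_of% hg, Over.w φ']
        let χ : a' ⟶ y := Over.homMk g hw
        refine ⟨χ, ⟨IsHomLift.map (Over.forget U) χ, by ext; exact hg⟩, ?_⟩
        rintro χ' ⟨hχ, -⟩
        ext
        exact (IsHomLift.eq_of_isHomLift (Over.forget U) g χ').symm }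

theorem isFibGrpd_overCat (U : C) : FibCat.IsFibGrpd (FibCat.overCat U).p := isFibGrpd_overForget U

theorem isFibGrpd_idFunctor : FibCat.IsFibGrpd (Functor.id C) where
  exists_lift := fun {x} {V} f => ⟨V, f, IsHomLift.map (Functor.id C) f⟩
  isStronglyCartesian := fun {y x} φ =>
    { universal_property' := fun {a'} g φ' hφ' => by
        have hg : g ≫ φ = φ' := IsHomLift.eq_of_isHomLift (Functor.id C) (g ≫ (Functor.id C).map φ) φ'
        refine ⟨g, ⟨IsHomLift.map (Functor.id C) g, hg⟩, ?_⟩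
        rintro χ' ⟨hχ, -⟩
        exact (IsHomLift.eq_of_isHomLift (Functor.id C) g χ').symm }

theorem isFibGrpd_selfOver : FibCat.IsFibGrpd (FibCat.selfOver C).p := isFibGrpd_idFunctor

section fp

variable {𝒳 : BasedCategory.{v₂, u₂} C} {𝒴 : BasedCategory.{v₃, u₃} C} {𝒮 : BasedCategory.{v₄, u₄} C}
variable {F : 𝒳 ⥤ᵇ 𝒮} {G : 𝒴 ⥤ᵇ 𝒮}

/-- Constructor of objects of the 2-fibre product. -/
def fpMk (x : 𝒳.obj) (y : 𝒴.obj) (i : F.obj x ≅ G.obj y)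
    (h : ∃ e : 𝒮.p.obj (F.obj x) = 𝒮.p.obj (G.obj y), 𝒮.p.map i.hom = eqToHom e) : (FibCat.fp F G).obj :=
  ⟨{ fst := x, snd := y, iso := i }, by
    obtain ⟨e, he⟩ := h
    exact isHomLift_id_of _ (F.w_obj x) e he⟩

@[simp] theorem fpMk_fst (x : 𝒳.obj) (y : 𝒴.obj) (i : F.obj x ≅ G.obj y)
    (h : ∃ e : 𝒮.p.obj (F.obj x) = 𝒮.p.obj (G.obj y), 𝒮.p.map i.hom = eqToHom e) : (fpMk x y i h).obj.fst = x := rfl

@[simp] theorem fpMk_snd (x : 𝒳.obj) (y : 𝒴.obj) (i : F.obj x ≅ G.obj y)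
    (h : ∃ e : 𝒮.p.obj (F.obj x) = 𝒮.p.obj (G.obj y), 𝒮.p.map i.hom = eqToHom e) : (fpMk x y i h).obj.snd = y := rfl

@[simp] theorem fpMk_iso (x : 𝒳.obj) (y : 𝒴.obj) (i : F.obj x ≅ G.obj y)
    (h : ∃ e : 𝒮.p.obj (F.obj x) = 𝒮.p.obj (G.obj y), 𝒮.p.map i.hom = eqToHom e) : (fpMk x y i h).obj.iso = i := rfl

/-- Constructor of morphisms of the 2-fibre product. -/
def fpHom {a b : (FibCat.fp F G).obj} (f : a.obj.fst ⟶ b.obj.fst) (g : a.obj.snd ⟶ b.obj.snd)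
    (w : F.map f ≫ b.obj.iso.hom = a.obj.iso.hom ≫ G.map g) : a ⟶ b :=
  ObjectProperty.homMk { fst := f, snd := g, w := w }

@[simp] theorem fpHom_fst {a b : (FibCat.fp F G).obj} (f : a.obj.fst ⟶ b.obj.fst) (g : a.obj.snd ⟶ b.obj.snd)
    (w : F.map f ≫ b.obj.iso.hom = a.obj.iso.hom ≫ G.map g) : (fpHom f g w).hom.fst = f := rfl

@[simp] theorem fpHom_snd {a b : (FibCat.fp F G).obj} (f : a.obj.fst ⟶ b.obj.fst) (g : a.obj.snd ⟶ b.obj.snd)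
    (w : F.map f ≫ b.obj.iso.hom = a.obj.iso.hom ≫ G.map g) : (fpHom f g w).hom.snd = g := rfl

theorem fp_hom_ext {a b : (FibCat.fp F G).obj} {f g : a ⟶ b} (h₁ : f.hom.fst = g.hom.fst)
    (h₂ : f.hom.snd = g.hom.snd) : f = g := by
  apply ObjectProperty.hom_ext
  exact CategoricalPullback.hom_ext h₁ h₂

@[simp] theorem fp_comp_fst {a b c : (FibCat.fp F G).obj} (f : a ⟶ b) (g : b ⟶ c) :
    (f ≫ g).hom.fst = f.hom.fst ≫ g.hom.fst := rfl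

@[simp] theorem fp_comp_snd {a b c : (FibCat.fp F G).obj} (f : a ⟶ b) (g : b ⟶ c) :
    (f ≫ g).hom.snd = f.hom.snd ≫ g.hom.snd := rfl

@[simp] theorem fp_id_fst (a : (FibCat.fp F G).obj) : (𝟙 a : a ⟶ a).hom.fst = 𝟙 a.obj.fst := rfl

@[simp] theorem fp_id_snd (a : (FibCat.fp F G).obj) : (𝟙 a : a ⟶ a).hom.snd = 𝟙 a.obj.snd := rfl

@[reassoc] theorem fp_w {a b : (FibCat.fp F G).obj} (f : a ⟶ b) :
    F.map f.hom.fst ≫ b.obj.iso.hom = a.obj.iso.hom ≫ G.map f.hom.snd := f.hom.w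

/-- Constructor of isomorphisms of the 2-fibre product. -/
def fpMkIso {a b : (FibCat.fp F G).obj} (f : a.obj.fst ≅ b.obj.fst) (g : a.obj.snd ≅ b.obj.snd)
    (w : F.map f.hom ≫ b.obj.iso.hom = a.obj.iso.hom ≫ G.map g.hom) : a ≅ b where
  hom := fpHom f.hom g.hom w
  inv := fpHom f.inv g.inv (by
    rw [← cancel_epi (F.map f.hom)]
    have h1 : F.map f.hom ≫ F.map f.inv = 𝟙 _ := by
      rw [← F.toFunctor.map_comp, f.hom_inv_id]; exact F.toFunctor.map_id _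
    have h2 : G.map g.hom ≫ G.map g.inv = 𝟙 _ := by
      rw [← G.toFunctor.map_comp, g.hom_inv_id]; exact G.toFunctor.map_id _
    rw [reassoc_of% h1, reassoc_of% w, h2, Category.comp_id])
  hom_inv_id := fp_hom_ext (by simp) (by simp)
  inv_hom_id := fp_hom_ext (by simp) (by simp)

@[simp] theorem fpMkIso_hom_fst {a b : (FibCat.fp F G).obj} (f : a.obj.fst ≅ b.obj.fst) (g : a.obj.snd ≅ b.obj.snd)
    (w : F.map f.hom ≫ b.obj.iso.hom = a.obj.iso.hom ≫ G.map g.hom) : (fpMkIso f g w).hom.hom.fst = f.hom := rfl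

@[simp] theorem fpMkIso_hom_snd {a b : (FibCat.fp F G).obj} (f : a.obj.fst ≅ b.obj.fst) (g : a.obj.snd ≅ b.obj.snd)
    (w : F.map f.hom ≫ b.obj.iso.hom = a.obj.iso.hom ≫ G.map g.hom) : (fpMkIso f g w).hom.hom.snd = g.hom := rfl

/-- The components of an isomorphism of the 2-fibre product. -/
@[simps] def fpIsoFst {a b : (FibCat.fp F G).obj} (f : a ≅ b) : a.obj.fst ≅ b.obj.fst where
  hom := f.hom.hom.fst
  inv := f.inv.hom.fst
  hom_inv_id := by rw [← fp_comp_fst, f.hom_inv_id]; rfl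
  inv_hom_id := by rw [← fp_comp_fst, f.inv_hom_id]; rfl

@[simps] def fpIsoSnd {a b : (FibCat.fp F G).obj} (f : a ≅ b) : a.obj.snd ≅ b.obj.snd where
  hom := f.hom.hom.snd
  inv := f.inv.hom.snd
  hom_inv_id := by rw [← fp_comp_snd, f.hom_inv_id]; rfl
  inv_hom_id := by rw [← fp_comp_snd, f.inv_hom_id]; rfl

theorem fp_p_obj (a : (FibCat.fp F G).obj) : (FibCat.fp F G).p.obj a = 𝒳.p.obj a.obj.fst := rfl

theorem fp_p_map {a b : (FibCat.fp F G).obj} (f : a ⟶ b) : (FibCat.fp F G).p.map f = 𝒳.p.map f.hom.fst := rfl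

theorem fp_snd_obj (a : (FibCat.fp F G).obj) : 𝒴.p.obj a.obj.snd = 𝒳.p.obj a.obj.fst :=
  (FibCat.fpSnd F G).w_obj a

/-- The second component of a morphism lies over the same morphism as the first. -/
theorem fp_p_map_snd {a b : (FibCat.fp F G).obj} (f : a ⟶ b) :
    𝒴.p.map f.hom.snd = eqToHom (fp_snd_obj a) ≫ 𝒳.p.map f.hom.fst ≫ eqToHom (fp_snd_obj b).symm :=
  p_map (FibCat.fpSnd F G) f

theorem fp_p_iso_obj (a : (FibCat.fp F G).obj) : 𝒮.p.obj (F.obj a.obj.fst) = 𝒮.p.obj (G.obj a.obj.snd) := by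
  rw [F.w_obj, G.w_obj, fp_snd_obj]

theorem fp_p_map_iso (a : (FibCat.fp F G).obj) : 𝒮.p.map a.obj.iso.hom = eqToHom (fp_p_iso_obj a) := by
  have := a.property
  exact @map_eq_eqToHom _ _ _ _ 𝒮.p _ _ a.obj.iso.hom _ this

theorem isFibGrpd_fp (h𝒳 : FibCat.IsFibGrpd 𝒳.p) (h𝒴 : FibCat.IsFibGrpd 𝒴.p) (h𝒮 : FibCat.IsFibGrpd 𝒮.p) :
    FibCat.IsFibGrpd (FibCat.fp F G).p where
  exists_lift := fun {a} {V} f => by
    obtain ⟨x', φ, hx', hφ⟩ := exists_pull h𝒳 f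
    obtain ⟨y', ψ, hy', hψ⟩ := exists_pull h𝒴 (f ≫ eqToHom (fp_snd_obj a).symm)
    have hFG : 𝒮.p.obj (F.obj x') = 𝒮.p.obj (G.obj y') := by rw [F.w_obj, G.w_obj, hx', hy']
    have h1 : eqToHom hFG ≫ 𝒮.p.map (G.map ψ) = 𝒮.p.map (F.map φ ≫ a.obj.iso.hom) := by
      rw [Functor.map_comp, p_map, p_map, hφ, hψ, fp_p_map_iso]; simp
    let i₀ : F.obj x' ⟶ G.obj y' := lift h𝒮 (G.map ψ) (F.map φ ≫ a.obj.iso.hom) (eqToHom hFG) h1
    have hi₀ : 𝒮.p.map i₀ = eqToHom hFG := map_lift h𝒮 _ _ _ h1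
    have hi₁ : i₀ ≫ G.map ψ = F.map φ ≫ a.obj.iso.hom := lift_comp h𝒮 _ _ _ h1
    have : IsIso (𝒮.p.map i₀) := by rw [hi₀]; infer_instance
    have : IsIso i₀ := isIso_of_isIso_map h𝒮 i₀
    let b : (FibCat.fp F G).obj := fpMk x' y' (asIso i₀) ⟨hFG, hi₀⟩
    let χ : b ⟶ a := fpHom φ ψ hi₁.symm
    refine ⟨b, χ, ?_⟩
    exact IsHomLift.of_fac' _ _ _ hx' rfl (by rw [fp_p_map]; change 𝒳.p.map φ = _; rw [hφ]; simp)
  isStronglyCartesian := fun {b a} χ =>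
    { universal_property' := fun {c} g ψ hψ => by
        have hg : g ≫ 𝒳.p.map χ.hom.fst = 𝒳.p.map ψ.hom.fst :=
          IsHomLift.eq_of_isHomLift (FibCat.fp F G).p (g ≫ (FibCat.fp F G).p.map χ) ψ
        have h2 : (eqToHom (fp_snd_obj c) ≫ g ≫ eqToHom (fp_snd_obj b).symm) ≫ 𝒴.p.map χ.hom.snd =
            𝒴.p.map ψ.hom.snd := by
          rw [fp_p_map_snd, fp_p_map_snd, ← hg]; simp
        let f₁ := lift h𝒳 χ.hom.fst ψ.hom.fst g hg
        let f₂ := lift h𝒴 χ.hom.snd ψ.hom.snd _ h2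
        have hf₁ : 𝒳.p.map f₁ = g := map_lift h𝒳 _ _ _ hg
        have hf₂ : 𝒴.p.map f₂ = _ := map_lift h𝒴 _ _ _ h2
        have hf₁' : f₁ ≫ χ.hom.fst = ψ.hom.fst := lift_comp h𝒳 _ _ _ hg
        have hf₂' : f₂ ≫ χ.hom.snd = ψ.hom.snd := lift_comp h𝒴 _ _ _ h2
        have hw : F.map f₁ ≫ b.obj.iso.hom = c.obj.iso.hom ≫ G.map f₂ := by
          refine hom_ext h𝒮 (G.map χ.hom.snd) ?_ ?_
          · rw [Functor.map_comp, Functor.map_comp, p_map, p_map, fp_p_map_iso, fp_p_map_iso, hf₁, hf₂]; simp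
          · rw [Category.assoc, Category.assoc, ← fp_w, ← G.toFunctor.map_comp, hf₂', ← fp_w ψ, ← hf₁']
            erw [F.toFunctor.map_comp]
            simp
        refine ⟨fpHom f₁ f₂ hw, ⟨isHomLift_of_map_eq _ _ hf₁, fp_hom_ext hf₁' hf₂'⟩, ?_⟩
        rintro χ' ⟨h3, h4⟩
        have h5 : 𝒳.p.map χ'.hom.fst = g := (IsHomLift.eq_of_isHomLift (FibCat.fp F G).p g χ').symm
        refine fp_hom_ext ?_ ?_
        · refine hom_ext h𝒳 χ.hom.fst ?_ ?_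
          · rw [h5]; exact hf₁.symm
          · rw [← fp_comp_fst, h4]; exact hf₁'.symm
        · refine hom_ext h𝒴 χ.hom.snd ?_ ?_
          · rw [fp_p_map_snd, h5]; exact hf₂.symm
          · rw [← fp_comp_snd, h4]; exact hf₂'.symm }

/-! ### Functors and 2-morphisms into `fp` -/

section into

variable {𝒲 : BasedCategory.{v₅, u₅} C}

theorem fpLift_obj_fst (a : 𝒲 ⥤ᵇ 𝒳) (b : 𝒲 ⥤ᵇ 𝒴) (e : BasedFunctor.comp a F ≅ BasedFunctor.comp b G) (w : 𝒲.obj) :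
    ((FibCat.fpLift a b e).obj w).obj.fst = a.obj w := rfl

theorem fpLift_obj_snd (a : 𝒲 ⥤ᵇ 𝒳) (b : 𝒲 ⥤ᵇ 𝒴) (e : BasedFunctor.comp a F ≅ BasedFunctor.comp b G) (w : 𝒲.obj) :
    ((FibCat.fpLift a b e).obj w).obj.snd = b.obj w := rfl

theorem fpLift_obj_iso_hom (a : 𝒲 ⥤ᵇ 𝒳) (b : 𝒲 ⥤ᵇ 𝒴) (e : BasedFunctor.comp a F ≅ BasedFunctor.comp b G) (w : 𝒲.obj) :
    ((FibCat.fpLift a b e).obj w).obj.iso.hom = e.hom.toNatTrans.app w := rfl

theorem fpLift_obj_iso_inv (a : 𝒲 ⥤ᵇ 𝒳) (b : 𝒲 ⥤ᵇ 𝒴) (e : BasedFunctor.comp a F ≅ BasedFunctor.comp b G) (w : 𝒲.obj) :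
    ((FibCat.fpLift a b e).obj w).obj.iso.inv = e.inv.toNatTrans.app w := rfl

theorem fpLift_map_fst (a : 𝒲 ⥤ᵇ 𝒳) (b : 𝒲 ⥤ᵇ 𝒴) (e : BasedFunctor.comp a F ≅ BasedFunctor.comp b G) {w w' : 𝒲.obj}
    (f : w ⟶ w') : ((FibCat.fpLift a b e).map f).hom.fst = a.map f := rfl

theorem fpLift_map_snd (a : 𝒲 ⥤ᵇ 𝒳) (b : 𝒲 ⥤ᵇ 𝒴) (e : BasedFunctor.comp a F ≅ BasedFunctor.comp b G) {w w' : 𝒲.obj}
    (f : w ⟶ w') : ((FibCat.fpLift a b e).map f).hom.snd = b.map f := rfl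

theorem fpLift_comp_fpFst (a : 𝒲 ⥤ᵇ 𝒳) (b : 𝒲 ⥤ᵇ 𝒴) (e : BasedFunctor.comp a F ≅ BasedFunctor.comp b G) :
    BasedFunctor.comp (FibCat.fpLift a b e) (FibCat.fpFst F G) = a := rfl

theorem fpLift_comp_fpSnd (a : 𝒲 ⥤ᵇ 𝒳) (b : 𝒲 ⥤ᵇ 𝒴) (e : BasedFunctor.comp a F ≅ BasedFunctor.comp b G) :
    BasedFunctor.comp (FibCat.fpLift a b e) (FibCat.fpSnd F G) = b := rfl

/-- 2-isomorphisms of functors into `fp F G`. -/
def fpNatIso {P Q : 𝒲 ⥤ᵇ FibCat.fp F G}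
    (α : BasedFunctor.comp P (FibCat.fpFst F G) ≅ BasedFunctor.comp Q (FibCat.fpFst F G))
    (β : BasedFunctor.comp P (FibCat.fpSnd F G) ≅ BasedFunctor.comp Q (FibCat.fpSnd F G))
    (w : ∀ a, F.map (α.hom.toNatTrans.app a) ≫ (Q.obj a).obj.iso.hom =
      (P.obj a).obj.iso.hom ≫ G.map (β.hom.toNatTrans.app a)) : P ≅ Q :=
  mkIso (fun a => fpMkIso (appIso α a) (appIso β a) (w a))
    (fun {a b} f => fp_hom_ext (α.hom.toNatTrans.naturality f) (β.hom.toNatTrans.naturality f))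
    (fun a => ⟨(P.w_obj a).trans (Q.w_obj a).symm, p_map_app α.hom a⟩)

@[simp] theorem fpNatIso_hom_app_fst {P Q : 𝒲 ⥤ᵇ FibCat.fp F G}
    (α : BasedFunctor.comp P (FibCat.fpFst F G) ≅ BasedFunctor.comp Q (FibCat.fpFst F G))
    (β : BasedFunctor.comp P (FibCat.fpSnd F G) ≅ BasedFunctor.comp Q (FibCat.fpSnd F G))
    (w : ∀ a, F.map (α.hom.toNatTrans.app a) ≫ (Q.obj a).obj.iso.hom =
      (P.obj a).obj.iso.hom ≫ G.map (β.hom.toNatTrans.app a)) (a : 𝒲.obj) :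
    ((fpNatIso α β w).hom.toNatTrans.app a).hom.fst = α.hom.toNatTrans.app a := rfl

@[simp] theorem fpNatIso_hom_app_snd {P Q : 𝒲 ⥤ᵇ FibCat.fp F G}
    (α : BasedFunctor.comp P (FibCat.fpFst F G) ≅ BasedFunctor.comp Q (FibCat.fpFst F G))
    (β : BasedFunctor.comp P (FibCat.fpSnd F G) ≅ BasedFunctor.comp Q (FibCat.fpSnd F G))
    (w : ∀ a, F.map (α.hom.toNatTrans.app a) ≫ (Q.obj a).obj.iso.hom =
      (P.obj a).obj.iso.hom ≫ G.map (β.hom.toNatTrans.app a)) (a : 𝒲.obj) :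
    ((fpNatIso α β w).hom.toNatTrans.app a).hom.snd = β.hom.toNatTrans.app a := rfl

/-- Every functor into `fp F G` is `fpLift` of its projections. -/
theorem eq_fpLift (P : 𝒲 ⥤ᵇ FibCat.fp F G) :
    P = FibCat.fpLift (BasedFunctor.comp P (FibCat.fpFst F G)) (BasedFunctor.comp P (FibCat.fpSnd F G))
      (isoWhiskerLeft P (FibCat.fpIso F G)) := rfl

end into

/-- `IsEquivOver` for a functor into `fp F G`, elementwise. -/
theorem isTwoCartOver_iff {𝒲 : BasedCategory.{v₅, u₅} C} {a : 𝒲 ⥤ᵇ 𝒳} {b : 𝒲 ⥤ᵇ 𝒴}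
    {e : BasedFunctor.comp a F ≅ BasedFunctor.comp b G} :
    FibCat.IsTwoCartOver a b e ↔
      (∀ (w w' : 𝒲.obj) (f : a.obj w ⟶ a.obj w') (g : b.obj w ⟶ b.obj w'),
        F.map f ≫ e.hom.toNatTrans.app w' = e.hom.toNatTrans.app w ≫ G.map g →
          ∃! h : w ⟶ w', a.map h = f ∧ b.map h = g) ∧
      (∀ (x : 𝒳.obj) (y : 𝒴.obj) (i : F.obj x ≅ G.obj y) (h : 𝒮.p.obj (F.obj x) = 𝒮.p.obj (G.obj y)),
        𝒮.p.map i.hom = eqToHom h →
          ∃ (w : 𝒲.obj) (f : a.obj w ≅ x) (g : b.obj w ≅ y) (h' : 𝒳.p.obj (a.obj w) = 𝒳.p.obj x),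
            𝒳.p.map f.hom = eqToHom h' ∧ F.map f.hom ≫ i.hom = e.hom.toNatTrans.app w ≫ G.map g.hom) := by
  rw [FibCat.IsTwoCartOver, isEquivOver_iff']
  refine and_congr ?_ ?_
  · constructor
    · rintro ⟨h1, h2⟩ w w' f g hfg
      let φ : (FibCat.fpLift a b e).obj w ⟶ (FibCat.fpLift a b e).obj w' := fpHom f g hfg
      obtain ⟨h, hh⟩ := h1.map_surjective φ
      refine ⟨h, ⟨congrArg (fun t => t.hom.fst) hh, congrArg (fun t => t.hom.snd) hh⟩, ?_⟩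
      rintro h' ⟨h3, h4⟩
      apply h2.map_injective
      rw [hh]
      exact fp_hom_ext h3 h4
    · intro H
      refine ⟨⟨fun {w w'} φ => ?_⟩, ⟨fun {w w'} φ ψ hφψ => ?_⟩⟩
      · obtain ⟨h, ⟨h1, h2⟩, -⟩ := H w w' φ.hom.fst φ.hom.snd φ.hom.w
        exact ⟨h, fp_hom_ext h1 h2⟩
      · obtain ⟨h, -, h3⟩ := H w w' (a.map φ) (b.map φ) (e.hom.toNatTrans.naturality φ)
        rw [h3 φ ⟨rfl, rfl⟩, h3 ψ ⟨(congrArg (fun t => t.hom.fst) hφψ).symm, (congrArg (fun t => t.hom.snd) hφψ).symm⟩]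
  · constructor
    · intro H x y i h hi
      obtain ⟨w, φ, h1, h2⟩ := H (fpMk x y i ⟨h, hi⟩)
      refine ⟨w, fpIsoFst φ, fpIsoSnd φ, h1, h2, ?_⟩
      exact φ.hom.hom.w
    · intro H η
      obtain ⟨w, f, g, h1, h2, h3⟩ := H η.obj.fst η.obj.snd η.obj.iso (fp_p_iso_obj η) (fp_p_map_iso η)
      exact ⟨w, fpMkIso f g h3, h1, h2⟩

end fp

end K736.Fib
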