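import Groth.Agent.AlgSt.K736.InertiaSub
import Groth.Agent.AlgSt.K745.Refine
import Groth.Agent.AlgSt.K745.Affine
import Groth.Agent.AlgSt.K740.Inertia
import Groth.Agent.AlgSt.K742.Aff
import Groth.Agent.Desc.LQF
import Groth.Agent.S0409
import Groth.Agent.S0414
import Groth.Agent.S10540
import Groth.Agent.S10544

/-!
# Generic finiteness and etaleness of an affine unramified morphism to a reduced algebraic stack
-/

set_option autoImplicit false
set_option backward.isDefEq.respectTransparency false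
set_option backward.isDefEq.respectTransparency.types false

universe v₄ u₄ v₃ u₃ v₂ u₂ v u

open CategoryTheory CategoryTheory.Limits AlgebraicGeometry Opposite

namespace K736.GenInertia

open AlgSt K735.Fib K735.Fp K735.Rep K735.Pts K735.PtsSp K735.SpFp K737.Open K737.Pts K737.SubRep K743.Locus K745.Lift

section Sch

/-- Restriction of a morphism to a smaller open is a base change of the restriction to a bigger one. -/
theorem isPullback_restrict_le {X Y : Scheme.{u}} (f : Y ⟶ X) {V V₁ : X.Opens} (h : V ≤ V₁) :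
    IsPullback (Y.homOfLE (f.preimage_mono h)) (f ∣_ V) (f ∣_ V₁) (X.homOfLE h) := by
  refine IsPullback.of_right ?_ ?_ (isPullback_morphismRestrict f V₁).flip
  · simpa using (isPullback_morphismRestrict f V).flip
  · rw [← cancel_mono V₁.ι]
    simp

theorem exists_open_finite_etale {X Y : Scheme.{u}} (f : Y ⟶ X) [IsReduced X] [Nonempty X] [QuasiCompact f]
    [LocallyOfFiniteType f] [FormallyUnramified f] :
    ∃ V : X.Opens, (V : Set X).Nonempty ∧ IsFinite (f ∣_ V) ∧ Etale (f ∣_ V) := by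
  have : LocallyQuasiFinite f := Groth.Agent.Desc.LQF.of_unramified f
  obtain ⟨V₁, hV₁, hf₁⟩ := Groth.Agent.S0409.result f
  obtain ⟨V₂, hV₂, hf₂, hf₃⟩ := Groth.Agent.S0414.result f
  refine ⟨V₁ ⊓ V₂, ?_, ?_, ?_⟩
  · have := hV₁.inter_of_isOpen_left hV₂ V₁.isOpen
    exact this.nonempty
  · exact MorphismProperty.of_isPullback (P := @IsFinite) (isPullback_restrict_le f inf_le_left) hf₁
  · have h1 : Flat (f ∣_ (V₁ ⊓ V₂)) :=
      MorphismProperty.of_isPullback (P := @Flat) (isPullback_restrict_le f inf_le_right) hf₂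
    have h2 : LocallyOfFinitePresentation (f ∣_ (V₁ ⊓ V₂)) :=
      MorphismProperty.of_isPullback (P := @LocallyOfFinitePresentation) (isPullback_restrict_le f inf_le_right) hf₃
    have h3 : FormallyUnramified (f ∣_ (V₁ ⊓ V₂)) :=
      MorphismProperty.of_isPullback (P := @FormallyUnramified) (isPullback_morphismRestrict f _).flip inferInstance
    exact Etale.of_formallyUnramified_of_flat _

end Sch

section Main

variable {S : Scheme.{u}} {𝒳 : BasedCategory.{v₂, u₂} (Over S)} {𝒵 : BasedCategory.{v₃, u₃} (Over S)}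

theorem isPullback_of_left {A B C D : Over S} {a : A ⟶ B} {b : A ⟶ C} {c : B ⟶ D} {d : C ⟶ D}
    (h : IsPullback a.left b.left c.left d.left) : IsPullback a b c d :=
  IsPullback.of_map (Over.forget S) (Over.OverMorphism.ext h.w) h

theorem respectsIso_etale : (AlgSp.IsEtaleMor (S := S)).RespectsIso := by
  apply MorphismProperty.RespectsIso.mk
  · intro X Y Z e f hf U φ hφ
    rw [← Category.assoc]
    exact hf _ ((MorphismProperty.cancel_right_of_respectsIso _ φ e.hom).2 hφ)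
  · intro X Y Z e f hf U φ hφ
    rw [← Category.assoc]
    exact (MorphismProperty.cancel_right_of_respectsIso _ (φ ≫ f) e.hom).2 (hf _ hφ)

theorem finEt_bc {F F' G G' : AlgSp.Sp S} {p₁ : F' ⟶ F} {p₂ : F' ⟶ G'} {a : F ⟶ G} {g : G' ⟶ G}
    (hF : AlgSp.IsAlgSpace F) (hG : AlgSp.IsAlgSpace G) (hG' : AlgSp.IsAlgSpace G')
    (sq : IsPullback p₁ p₂ a g) (h : (AlgSp.IsFiniteMor ⊓ AlgSp.IsEtaleMor : MorphismProperty (AlgSp.Sp S)) a) :
    (AlgSp.IsFiniteMor ⊓ AlgSp.IsEtaleMor : MorphismProperty (AlgSp.Sp S)) p₂ := by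
  refine ⟨?_, ?_⟩
  · have h1 := h.1
    rw [K742.Aff.isFiniteMor_eq] at h1 ⊢
    exact (AlgSp.repWith_isStableUnderBaseChange (S := S) @IsFinite).of_isPullback sq h1
  · exact K597.isEtaleMor_of_locP_etale K597.etLoc_etale hG'
      (K597.locP_bc K597.etLoc_etale sq hF.hasAtlas hG.hasAtlas hG'.hasAtlas (K597.locP_etale_of_isEtaleMor h.2))

instance : (AlgSp.IsFiniteMor ⊓ AlgSp.IsEtaleMor : MorphismProperty (AlgSp.Sp S)).RespectsIso := by
  have h1 : (AlgSp.IsFiniteMor (S := S)).RespectsIso := by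
    rw [K742.Aff.isFiniteMor_eq]
    infer_instance
  have h2 : (AlgSp.IsEtaleMor (S := S)).RespectsIso := respectsIso_etale
  infer_instance

/-- Representing a base change along an open subscheme of the chart. -/
theorem exists_rep_open {U : Over S} (x : FibCat.overCat U ⥤ᵇ 𝒳) (f : 𝒵 ⥤ᵇ 𝒳) {G : Over S} (g : G ⟶ U)
    (e : AlgSt.ofSp ((AlgSp.yon S).obj G) ⥤ᵇ FibCat.fp x f) (he : FibCat.IsEquivOver e)
    (hg : q e = (AlgSp.yon S).map g) (V : U.left.Opens) :
    ∃ k : AlgSt.ofSp ((AlgSp.yon S).obj (Over.mk ((g.left ∣_ V) ≫ V.ι ≫ U.hom))) ⥤ᵇ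
        FibCat.fp (BasedFunctor.comp (AlgSt.overMap (opensι U V)) x) f, FibCat.IsEquivOver k ∧
      q k = (AlgSp.yon S).map (Over.homMk (g.left ∣_ V) :
        Over.mk ((g.left ∣_ V) ≫ V.ι ≫ U.hom) ⟶ opensOver U V) := by
  let a : Over.mk ((g.left ∣_ V) ≫ V.ι ≫ U.hom) ⟶ G := Over.homMk (g.left ⁻¹ᵁ V).ι (by
    change (g.left ⁻¹ᵁ V).ι ≫ G.hom = (g.left ∣_ V) ≫ V.ι ≫ U.hom
    rw [← Over.w g, ← Category.assoc, ← morphismRestrict_ι, Category.assoc])
  let b : Over.mk ((g.left ∣_ V) ≫ V.ι ≫ U.hom) ⟶ opensOver U V := Over.homMk (g.left ∣_ V)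
  have sq : IsPullback a b g (opensι U V) :=
    isPullback_of_left (isPullback_morphismRestrict g.left V).flip
  have sq' := sq.map (AlgSp.yon S)
  rw [← hg] at sq'
  obtain ⟨k, hk, hq, -⟩ := exists_rep_overMap e he (opensι U V) sq'
  exact ⟨k, hk, hq⟩

/-- An affine, locally of finite type, unramified morphism to a nonempty reduced algebraic stack is finite etale over a
nonempty open substack. -/
theorem exists_open {K : Precoverage Scheme.{u}} (h𝒳 : AlgSt.IsAlgStack K 𝒳) (hred : AlgSt.SmoothLocally (fun T => IsReduced T) 𝒳)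
    (hne : Nonempty (AlgSt.Points 𝒳)) (f : 𝒵 ⥤ᵇ 𝒳) (hf : AlgSt.RepByAlgSpWith AlgSp.IsAffineMor f)
    (hf' : AlgSt.RepByAlgSpWith (AlgSp.LocP (@LocallyOfFiniteType ⊓ @FormallyUnramified)) f) :
    ∃ T : Set (AlgSt.Points 𝒳), IsOpen T ∧ T.Nonempty ∧
      AlgSt.RepByAlgSpWith (AlgSp.IsFiniteMor ⊓ AlgSp.IsEtaleMor) (FibCat.fpFst (AlgSt.subIncl 𝒳 (predOf T)) f) := by
  obtain ⟨U, x, hx, hxs⟩ := h𝒳.atlas
  have hUr : IsReduced U.left := hred U x hx
  have hxs' := K735.Top.surjective_of_repByAlgSpWith h𝒳.isStack.1 (isFibGrpd_overCat U) hxs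
  have hU : Nonempty U.left := by
    obtain ⟨p⟩ := hne
    obtain ⟨t, -⟩ := hxs' p
    exact ⟨K743.Pt.toPt t⟩
  -- the representing scheme
  obtain ⟨F, e, he, hq⟩ := hf U x
  have hq' : AlgSp.RepWith @IsAffineHom (q e) := K597.Affine.isAffineMor_iff.1 hq
  obtain ⟨G, g, a', sq⟩ := hq'.1 (𝟙 _)
  have hg : IsAffineHom g.left := hq'.2 _ _ _ sq
  have : IsIso a' := sq.isIso_fst_of_isIso inferInstance
  let e' : AlgSt.ofSp ((AlgSp.yon S).obj G) ⥤ᵇ FibCat.fp x f := BasedFunctor.comp (AlgSt.ofSpMap a') e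
  have he' : FibCat.IsEquivOver e' := IsEquivOver.comp (K735.Rep.isEquivOver_ofSpMap_of_isIso a') he
  have hge : q e' = (AlgSp.yon S).map g := by
    have h1 : a' ≫ q e = (AlgSp.yon S).map g := by simpa using sq.w
    rw [← h1]
    exact K735.Rep.spMapOfOver_comp_ofSpMap a' (BasedFunctor.comp e (FibCat.fpFst x f))
  have := K735.Top.locP_respectsIso (S := S) (@LocallyOfFiniteType ⊓ @FormallyUnramified)
  have hloc : AlgSp.LocP (@LocallyOfFiniteType ⊓ @FormallyUnramified) (q e') := (RepOver.of_rep (hf' U x) e' he').2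
  rw [hge] at hloc
  obtain ⟨h1, h2⟩ : (@LocallyOfFiniteType ⊓ @FormallyUnramified : MorphismProperty Scheme.{u}) g.left := AlgSp.locP_yon_map hloc
  have : QuasiCompact g.left := inferInstance
  obtain ⟨V, hV, hVf, hVe⟩ := exists_open_finite_etale g.left
  obtain ⟨k, hk, hqk⟩ := exists_rep_open x f g e' he' hge V
  -- the open substack
  let w : FibCat.overCat (opensOver U V) ⥤ᵇ 𝒳 := BasedFunctor.comp (AlgSt.overMap (opensι U V)) x
  have hw : AlgSt.RepByAlgSpWith (AlgSp.LocP @Smooth) w :=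
    K743.Comp.locP_overMap_comp K597.etLoc_smooth (opensι U V) (inferInstanceAs (Smooth V.ι)) x hx
  have hcc := K735.Top.chartCont_of_isAlgStack h𝒳
  have hxo : IsOpenMap (Points.ofChart x) := K735.Top.isOpenMap_ofChart x
    (K735.Top.isOpenMap_map K735.Top.isOpenMap_of_smooth h𝒳.isStack.1 (isFibGrpd_overCat U)
      (K735.Top.chartCont_overCat U) hx)
  let T : Set (Points 𝒳) := Points.ofChart x '' V
  have hT : IsOpen T := hxo _ V.isOpen
  have hT' : ∀ (U : Over S) (y : FibCat.overCat U ⥤ᵇ 𝒳), IsOpen (AlgSt.Points.ofChart y ⁻¹' T) :=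
    fun U y => hT.preimage (hcc U y)
  have hQ := predOf_iso T
  have hrange := range_predOf h𝒳.isStack.1 hT'
  have hhom : ∀ ⦃x z : 𝒳.obj⦄, (z ⟶ x) → predOf T x → predOf T z := fun x z φ h => predOf_of_hom φ h
  have hwT : ∀ a, predOf T (w.obj a) := by
    intro g
    rw [predOf_obj_iff h𝒳.isStack.1]
    rintro _ ⟨t, rfl⟩
    change Points.ofChart w _ ∈ T
    rw [ofChart_overMap]
    exact ⟨_, (g.hom.left t).2, rfl⟩
  let y := subLift w hwT
  have hy : AlgSt.RepByAlgSpWith (AlgSp.LocP @Smooth) y := repByAlgSpWith_of_comp_incl _ y hw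
  have hys : AlgSt.RepByAlgSpWith AlgSp.IsSurjectiveMor y := by
    rw [← K735.Top.repByAlgSpWith_surjective_iff (isFibGrpd_fullSub h𝒳.isStack.1 hhom) (isFibGrpd_overCat _)
        (repByAlgSp1_of_with hy)]
    intro q
    have hq : Points.map (AlgSt.subIncl 𝒳 (predOf T)) q ∈ T := hrange.subset ⟨q, rfl⟩
    obtain ⟨t, ht, htq⟩ := hq
    let t' : ↥(opensOver U V).left := ⟨t, ht⟩
    refine ⟨K743.Pt.pt t', ?_⟩
    apply injective_map_subIncl h𝒳.isStack.1 hhom
    rw [← map_comp, ← htq]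
    exact (ofChart_overMap (opensι U V) x t' : Points.ofChart w t' = _)
  refine ⟨T, hT, hV.image _, ?_⟩
  have hfib := isFibGrpd_fullSub h𝒳.isStack.1 hhom
  -- the representing scheme of the restriction
  let k' : AlgSt.ofSp ((AlgSp.yon S).obj (Over.mk ((g.left ∣_ V) ≫ V.ι ≫ U.hom))) ⥤ᵇ
      FibCat.fp y (FibCat.fpFst (AlgSt.subIncl 𝒳 (predOf T)) f) :=
    BasedFunctor.comp k (K734.Fib.fpPaste y (AlgSt.subIncl 𝒳 (predOf T)) f)
  have hk' : FibCat.IsEquivOver k' := IsEquivOver.comp hk (K734.Fib.isEquivOver_fpPaste _ _ _)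
  have hqk' : q k' = (AlgSp.yon S).map (Over.homMk (g.left ∣_ V) :
        Over.mk ((g.left ∣_ V) ≫ V.ι ≫ U.hom) ⟶ opensOver U V) := hqk
  refine K745.Refine.repByAlgSpWith_of_atlas hy hys ?_ _ ?_ ?_ (AlgSp.IsAlgSpace.yon_obj _) k' hk' ?_
  · exact repByAlgSp1_of_with (K742.RepComp.repByAlgSpWith_fpFst (AlgSt.subIncl 𝒳 (predOf T)) f hf)
  · intro F F' U U' a g p₁ p₂ hF hF' sq h
    exact finEt_bc hF (AlgSp.IsAlgSpace.yon_obj _) (AlgSp.IsAlgSpace.yon_obj _) sq h
  · intro F F' U U' a g p₁ p₂ hF hF' hg hg' sq hp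
    have hfl : Flat g.left := inferInstance
    have hfp : LocallyOfFinitePresentation g.left := inferInstance
    have hcov := K745.Refine.isFpqcCover_yon (fun _ : PUnit.{u + 1} => U') (fun _ => g) (fun _ => hfl) (fun _ => hfp)
      (fun w => ⟨⟨⟩, hg'.surj w⟩)
    refine ⟨?_, ?_⟩
    · exact (Groth.Agent.S10540.result S (fun _ : PUnit.{u + 1} => (AlgSp.yon S).obj U') (fun _ => (AlgSp.yon S).map g)
        (AlgSp.IsAlgSpace.yon_obj U) (fun _ => AlgSp.IsAlgSpace.yon_obj U') hcov a hF (fun _ => F') (fun _ => p₂)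
        (fun _ => p₁) (fun _ => hF') (fun _ => sq)).2 (fun _ => hp.1)
    · exact (Groth.Agent.S10544.result S (fun _ : PUnit.{u + 1} => (AlgSp.yon S).obj U') (fun _ => (AlgSp.yon S).map g)
        (AlgSp.IsAlgSpace.yon_obj U) (fun _ => AlgSp.IsAlgSpace.yon_obj U') hcov a hF (fun _ => F') (fun _ => p₂)
        (fun _ => p₁) (fun _ => hF') (fun _ => sq)).2 (fun _ => hp.2)
  · rw [hqk']
    refine ⟨?_, (AlgSp.isEtaleMor_yon_map_iff _).2 hVe⟩
    rw [K742.Aff.isFiniteMor_eq]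
    exact (AlgSp.repWith_yon_map_iff _ _).2 hVf

/-- Generic finiteness and etaleness of the inertia. -/
theorem exists_open_inertia {K : Precoverage Scheme.{u}} (h𝒳 : AlgSt.IsAlgStack K 𝒳)
    (hred : AlgSt.SmoothLocally (fun T => IsReduced T) 𝒳) (hne : Nonempty (AlgSt.Points 𝒳))
    (hΔ : AlgSt.RepByAlgSpWith AlgSp.IsAffineMor (FibCat.diag (FibCat.toSelf 𝒳))) (hΔ' : AlgSt.IsDMOver 𝒳) :
    ∃ T : Set (AlgSt.Points 𝒳), IsOpen T ∧ T.Nonempty ∧ AlgSt.IsOpenImm (AlgSt.subIncl 𝒳 (predOf T)) ∧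
      Nonempty (AlgSt.Points (AlgSt.fullSub 𝒳 (predOf T))) ∧
      AlgSt.RepByAlgSpWith (AlgSp.IsFiniteMor ⊓ AlgSp.IsEtaleMor)
        (FibCat.inertiaToBase (FibCat.toSelf (AlgSt.fullSub 𝒳 (predOf T)))) := by
  obtain ⟨T, hT, hTn, h⟩ := exists_open h𝒳 hred hne _ (K740.Inertia.repByAlgSpWith_inertiaToBase _ hΔ)
    (K740.Inertia.repByAlgSpWith_inertiaToBase _ hΔ')
  have hcc := K735.Top.chartCont_of_isAlgStack h𝒳
  have hT' : ∀ (U : Over S) (y : FibCat.overCat U ⥤ᵇ 𝒳), IsOpen (AlgSt.Points.ofChart y ⁻¹' T) :=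
    fun U y => hT.preimage (hcc U y)
  refine ⟨T, hT, hTn, ?_, ?_, ?_⟩
  · exact (repByAlgSpWith_subIncl_iff @IsOpenImmersion openImm_le_mono (predOf_iso T)).2
      (hasLoci_predOf h𝒳.isStack.1 hT')
  · obtain ⟨t, ht⟩ := hTn
    rw [← range_predOf h𝒳.isStack.1 hT'] at ht
    obtain ⟨s, -⟩ := ht
    exact ⟨s⟩
  · exact (K740.Inertia.repByAlgSpWith_iff_of_equiv (a := FibCat.fpLift _ _ (InertiaSub.sq (predOf T)))
      (F := FibCat.inertiaToBase (FibCat.toSelf (AlgSt.fullSub 𝒳 (predOf T))))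
      (G := FibCat.fpFst (AlgSt.subIncl 𝒳 (predOf T)) (FibCat.inertiaToBase (FibCat.toSelf 𝒳)))
      (b := BasedFunctor.id _) (K740.Inertia.isCart_iff_isEquivOver.1 (InertiaSub.isCart (predOf T)))
      isEquivOver_id (Iso.refl _)).2 h

end Main

end K736.GenInertia
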