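import Groth.Agent.AlgSt.K743.BC
import Groth.Agent.AlgSt.K743.Locus
import Groth.Agent.AlgSt.K735.Fib

/-!
# The inertia of a full subcategory is the restriction of the inertia
-/

set_option autoImplicit false
set_option linter.unusedVariables false
set_option backward.isDefEq.respectTransparency false
set_option backward.isDefEq.respectTransparency.types false

universe v₂ u₂ v u

open CategoryTheory CategoryTheory.Limits

namespace K736.InertiaSub

open K735.Fib K743.BC

variable {S : AlgebraicGeometry.Scheme.{u}} {𝒳 : BasedCategory.{v₂, u₂} (Over S)} (Q : 𝒳.obj → Prop)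

/-- The inclusion of the inertia of a full subcategory in the inertia. -/
def incl : FibCat.inertia (FibCat.toSelf (AlgSt.fullSub 𝒳 Q)) ⥤ᵇ FibCat.inertia (FibCat.toSelf 𝒳) where
  toFunctor :=
    { obj := fun x => ⟨x.pt.obj, (AlgSt.subIncl 𝒳 Q).toFunctor.mapIso x.aut, x.map_aut⟩
      map := fun f => ⟨(AlgSt.subIncl 𝒳 Q).map f.hom, congrArg (fun t => t.hom) f.comm⟩
      map_id := fun x => FibCat.InertiaObj.hom_ext rfl
      map_comp := fun f g => FibCat.InertiaObj.hom_ext rfl }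
  w := rfl

/-- The square of the inertia of a full subcategory, commutative on the nose. -/
def sq : BasedFunctor.comp (FibCat.inertiaToBase (FibCat.toSelf (AlgSt.fullSub 𝒳 Q))) (AlgSt.subIncl 𝒳 Q) ≅
    BasedFunctor.comp (incl Q) (FibCat.inertiaToBase (FibCat.toSelf 𝒳)) := Iso.refl _

theorem isCart : IsCart (FibCat.inertiaToBase (FibCat.toSelf (AlgSt.fullSub 𝒳 Q)))
    (FibCat.inertiaToBase (FibCat.toSelf 𝒳)) (incl Q) (AlgSt.subIncl 𝒳 Q) (sq Q) where
  full := ⟨fun {x y} φ => by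
    have h1 : (AlgSt.subIncl 𝒳 Q).map φ.hom.fst = φ.hom.snd.hom := by
      have := φ.hom.w
      change (AlgSt.subIncl 𝒳 Q).map φ.hom.fst ≫ 𝟙 _ = 𝟙 _ ≫ φ.hom.snd.hom at this
      rw [Category.comp_id, Category.id_comp] at this
      exact this
    refine ⟨⟨φ.hom.fst, ?_⟩, ?_⟩
    · apply ObjectProperty.hom_ext
      have h2 := φ.hom.snd.comm
      rw [← h1] at h2
      exact h2
    · apply ObjectProperty.hom_ext
      apply CategoricalPullback.hom_ext
      · rfl
      · apply FibCat.InertiaObj.hom_ext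
        exact h1⟩
  faithful := ⟨fun {x y} φ ψ h => by
    apply FibCat.InertiaObj.hom_ext
    exact congrArg (fun t => t.hom.fst) h⟩
  surj := by
    intro η
    have hη : 𝒳.p.IsHomLift (𝟙 (𝒳.p.obj η.obj.fst.obj)) η.obj.iso.hom := η.property
    let u := η.obj.fst
    let i : u.obj ≅ η.obj.snd.pt := η.obj.iso
    let α : u.obj ≅ u.obj := i ≪≫ η.obj.snd.aut ≪≫ i.symm
    have hα : 𝒳.p.map α.hom = 𝟙 _ := by
      change 𝒳.p.map (i.hom ≫ η.obj.snd.aut.hom ≫ i.inv) = _
      have h1 : 𝒳.p.map η.obj.snd.aut.hom = 𝟙 _ := η.obj.snd.map_aut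
      rw [Functor.map_comp, Functor.map_comp, h1, Category.id_comp, ← Functor.map_comp, i.hom_inv_id]
      exact 𝒳.p.map_id _
    let α' : u ≅ u := ObjectProperty.isoMk Q α
    let ξ : (FibCat.inertia (FibCat.toSelf (AlgSt.fullSub 𝒳 Q))).obj := ⟨u, α', hα⟩
    have hc : α.hom ≫ i.hom = i.hom ≫ η.obj.snd.aut.hom := by
      change (i.hom ≫ η.obj.snd.aut.hom ≫ i.inv) ≫ i.hom = _
      simp
    have hc' : η.obj.snd.aut.hom ≫ i.inv = i.inv ≫ α.hom := by
      change _ = i.inv ≫ (i.hom ≫ η.obj.snd.aut.hom ≫ i.inv)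
      simp
    let j : (incl Q).obj ξ ≅ η.obj.snd :=
      { hom := ⟨i.hom, hc⟩
        inv := ⟨i.inv, hc'⟩
        hom_inv_id := FibCat.InertiaObj.hom_ext i.hom_inv_id
        inv_hom_id := FibCat.InertiaObj.hom_ext i.inv_hom_id }
    refine ⟨ξ, ObjectProperty.isoMk _ (CategoricalPullback.mkIso (Iso.refl _) j ?_), ?_⟩
    · rfl
    · rw [← BasedFunctor.isHomLift_iff (FibCat.fpFst (AlgSt.subIncl 𝒳 Q) (FibCat.inertiaToBase (FibCat.toSelf 𝒳)))]
      change (AlgSt.fullSub 𝒳 Q).p.IsHomLift (𝟙 ((AlgSt.fullSub 𝒳 Q).p.obj u)) (𝟙 u)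
      exact IsHomLift.id rfl

end K736.InertiaSub
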