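import Groth.Agent.AlgSt.K736.Props
/-!
# Properties local on the source (helper736): S12849, S12850, S12851
-/

set_option autoImplicit false
set_option backward.isDefEq.respectTransparency false
set_option backward.isDefEq.respectTransparency.types false

universe u

open CategoryTheory CategoryTheory.Limits AlgebraicGeometry Opposite K736.Fib K736.Rep K736.Cover K736.Props AlgSp

namespace K736.LocSrc

variable {S : Scheme.{u}} {𝒳 𝒴 𝒵 : AlgSt.Cat S}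

/-- If the composite `x ⋙ y` has `P`, and every base change `a` of `x` to an algebraic space satisfies
"`P (a ≫ b)` implies `P b`", then `y` has `P`. -/
theorem repWith_of_comp (h𝒳 : FibCat.IsFibGrpd 𝒳.p) (h𝒴 : FibCat.IsFibGrpd 𝒴.p) {P : MorphismProperty (Sp S)} (hP : IsoInv P)
    {x : 𝒳 ⥤ᵇ 𝒴} {y : 𝒴 ⥤ᵇ 𝒵} (hx : AlgSt.RepByAlgSp1 x) (hy : AlgSt.RepByAlgSp1 y)
    (h : AlgSt.RepByAlgSpWith P (BasedFunctor.comp x y))
    (hloc : ∀ ⦃V W : Sp S⦄ ⦃U : Over S⦄, IsAlgSpace V → IsAlgSpace W → ∀ (v : AlgSt.ofSp V ⥤ᵇ 𝒴) (a : W ⟶ V)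
      (b : V ⟶ (yon S).obj U), IsBC v x a.hom → P (a ≫ b) → P b) :
    AlgSt.RepByAlgSpWith P y := by
  refine algRepWith_of_forall hy fun U z V b hb => ?_
  obtain ⟨v, α, hv⟩ := hb
  obtain ⟨W, a, ha⟩ := exists_space h𝒳 h𝒴 hx V.property v
  refine hloc V.property W.property v a b ha ?_
  have h1 : IsBC z (BasedFunctor.comp x y) (a ≫ b).hom := IsBC.comp hv ha
  exact (prop_of_isBC hP h h1).2

theorem isCover_single {Q : MorphismProperty (Sp S)} {W Z : Sp S} {b : W ⟶ Z} (h : Q b) (hs : IsSurjectiveMor b) :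
    IsCover Q (fun _ : PUnit.{u + 1} => W) (fun _ => b) := ⟨fun _ => h, fun x => ⟨⟨⟩, hs x⟩⟩

/-- S12849. -/
theorem s12849 (h𝒳 : FibCat.IsFibGrpd 𝒳.p) (h𝒴 : FibCat.IsFibGrpd 𝒴.p) {P : MorphismProperty (Sp S)} (hPb : StabBC P)
    (hP' : AlgSp.IsLocalOnSource AlgSp.IsSmCover P)
    (x : 𝒳 ⥤ᵇ 𝒴) (y : 𝒴 ⥤ᵇ 𝒵) (hy : AlgSt.RepByAlgSp1 y)
    (hx₁ : AlgSt.RepByAlgSpWith (AlgSp.LocP @Smooth) x) (hx₂ : AlgSt.RepByAlgSpWith AlgSp.IsSurjectiveMor x)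
    (h : AlgSt.RepByAlgSpWith P (BasedFunctor.comp x y)) : AlgSt.RepByAlgSpWith P y := by
  refine repWith_of_comp h𝒳 h𝒴 hPb.isoInv (K735.Rep.repByAlgSp1_of_with hx₁) hy h fun V W U hV hW v a b ha hab => ?_
  have h1 := prop_space h𝒳 h𝒴 (isoInv_locP _) (chLoc_locP K597.etLoc_smooth) hx₁ hV ha
  have h2 := prop_space h𝒳 h𝒴 isoInv_surj chLoc_surj hx₂ hV ha
  exact (hP' (ι := PUnit.{u + 1}) (fun _ => W) (fun _ => a) hV (fun _ => hW) (isCover_single h1 h2) b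
    (IsAlgSpace.yon_obj U)).2 fun _ => hab

/-- S12850. -/
theorem s12850 (h𝒳 : FibCat.IsFibGrpd 𝒳.p) (h𝒴 : FibCat.IsFibGrpd 𝒴.p) {P : MorphismProperty (Sp S)} (hPb : StabBC P)
    (hP' : AlgSp.IsLocalOnSource AlgSp.IsEtCover P)
    (x : 𝒳 ⥤ᵇ 𝒴) (y : 𝒴 ⥤ᵇ 𝒵) (hy : AlgSt.RepByAlgSp1 y)
    (hx₁ : AlgSt.RepByAlgSpWith AlgSp.IsEtaleMor x) (hx₂ : AlgSt.RepByAlgSpWith AlgSp.IsSurjectiveMor x)
    (h : AlgSt.RepByAlgSpWith P (BasedFunctor.comp x y)) : AlgSt.RepByAlgSpWith P y := by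
  refine repWith_of_comp h𝒳 h𝒴 hPb.isoInv (K735.Rep.repByAlgSp1_of_with hx₁) hy h fun V W U hV hW v a b ha hab => ?_
  have hx₁' : AlgSt.RepByAlgSpWith (LocP @Etale) x :=
    K735.Rep.AlgSt_RepByAlgSpWith_mono (fun _ _ _ h => K597.locP_etale_of_isEtaleMor h) hx₁
  have h1 := K597.isEtaleMor_of_locP_etale K597.etLoc_etale hV
    (prop_space h𝒳 h𝒴 (isoInv_locP _) (chLoc_locP K597.etLoc_etale) hx₁' hV ha)
  have h2 := prop_space h𝒳 h𝒴 isoInv_surj chLoc_surj hx₂ hV ha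
  exact (hP' (ι := PUnit.{u + 1}) (fun _ => W) (fun _ => a) hV (fun _ => hW) (isCover_single h1 h2) b
    (IsAlgSpace.yon_obj U)).2 fun _ => hab

/-- S12851. -/
theorem s12851 (h𝒳 : FibCat.IsFibGrpd 𝒳.p) (h𝒴 : FibCat.IsFibGrpd 𝒴.p) {P : MorphismProperty (Sp S)} (hPb : StabBC P)
    (hP' : AlgSp.IsLocalOnSource AlgSp.IsFppfCover P)
    (x : 𝒳 ⥤ᵇ 𝒴) (y : 𝒴 ⥤ᵇ 𝒵) (hy : AlgSt.RepByAlgSp1 y)
    (hx₁ : AlgSt.RepByAlgSpWith (AlgSp.LocP @Flat) x)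
    (hx₂ : AlgSt.RepByAlgSpWith (AlgSp.LocP @LocallyOfFinitePresentation) x)
    (hx₃ : AlgSt.RepByAlgSpWith AlgSp.IsSurjectiveMor x)
    (h : AlgSt.RepByAlgSpWith P (BasedFunctor.comp x y)) : AlgSt.RepByAlgSpWith P y := by
  refine repWith_of_comp h𝒳 h𝒴 hPb.isoInv (K735.Rep.repByAlgSp1_of_with hx₁) hy h fun V W U hV hW v a b ha hab => ?_
  have h1 := prop_space h𝒳 h𝒴 (isoInv_locP _) (chLoc_locP K597.etLoc_flat) hx₁ hV ha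
  have h2 := prop_space h𝒳 h𝒴 (isoInv_locP _) (chLoc_locP K597.etLoc_lfp) hx₂ hV ha
  have h3 := prop_space h𝒳 h𝒴 isoInv_surj chLoc_surj hx₃ hV ha
  exact (hP' (ι := PUnit.{u + 1}) (fun _ => W) (fun _ => a) hV (fun _ => hW) ⟨fun _ => ⟨h1, h2⟩, fun x => ⟨⟨⟩, h3 x⟩⟩ b
    (IsAlgSpace.yon_obj U)).2 fun _ => hab

end K736.LocSrc
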