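import Mathlib.CategoryTheory.Limits.Shapes.Pullback.IsPullback.Basic
import Mathlib.CategoryTheory.Limits.Types.Pullbacks
import Mathlib.CategoryTheory.Limits.Types.Limits
import Mathlib.CategoryTheory.Limits.FunctorCategory.Basic
import Groth.Prelude.Def_AlgSt
import Groth.Agent.AlgSt.K736.Cart
/-!
# Presheaves of sets as categories over the base: the dictionary (helper736)

* a functor `Stk.ofPsh V ⥤ᵇ Stk.ofPsh W` is `Stk.ofPshMap (secMap Φ)` up to a 2-isomorphism, and `Stk.ofPshMap φ ≅ Stk.ofPshMap ψ`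
  forces `φ = ψ`;
* 2-morphisms between functors into a category fibred in sets such as `Stk.ofPsh W` or `overCat U` are unique;
* `secFun s : overCat T ⥤ᵇ Stk.ofPsh V` for `s ∈ V(T)`;
* elementwise criteria for squares with vertex `Stk.ofPsh V`.
-/

set_option autoImplicit false
set_option backward.isDefEq.respectTransparency false
set_option backward.isDefEq.respectTransparency.types false

universe w v₇ u₇ v₆ u₆ v₅ u₅ v₄ u₄ v₃ u₃ v₂ u₂ v u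

open CategoryTheory CategoryTheory.Limits Opposite

namespace K736.Fib

variable {C : Type u} [Category.{v} C]

/-! ### Functors into `ofPsh` -/

section IntoPsh

variable {𝒲 : BasedCategory.{v₂, u₂} C} {W : Cᵒᵖ ⥤ Type w}

theorem base_eq (Φ : 𝒲 ⥤ᵇ Stk.ofPsh W) (a : 𝒲.obj) : (Φ.obj a).base = 𝒲.p.obj a := Φ.w_obj a

theorem psh_map_map (W : Cᵒᵖ ⥤ Type w) {T T' T'' : C} (f : T' ⟶ T) (g : T'' ⟶ T') (x : W.obj (op T)) :
    W.map g.op (W.map f.op x) = W.map (g ≫ f).op x := by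
  rw [op_comp, W.map_comp]; rfl

theorem psh_map_id (W : Cᵒᵖ ⥤ Type w) {T : C} (x : W.obj (op T)) : W.map (𝟙 T).op x = x := by simp

theorem psh_hom_map (Φ : 𝒲 ⥤ᵇ Stk.ofPsh W) {a b : 𝒲.obj} (f : a ⟶ b) :
    (Φ.map f).hom = eqToHom (base_eq Φ a) ≫ 𝒲.p.map f ≫ eqToHom (base_eq Φ b).symm := p_map Φ f

theorem psh_hom_app {Φ Ψ : 𝒲 ⥤ᵇ Stk.ofPsh W} (α : Φ ⟶ Ψ) (a : 𝒲.obj) :
    (α.toNatTrans.app a).hom = eqToHom ((base_eq Φ a).trans (base_eq Ψ a).symm) := p_map_app α a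

/-- The section attached to the value of a functor into `Stk.ofPsh W`, transported to the base object of the argument. -/
def secAt (Φ : 𝒲 ⥤ᵇ Stk.ofPsh W) (a : 𝒲.obj) : W.obj (op (𝒲.p.obj a)) :=
  W.map (eqToHom (base_eq Φ a).symm).op (Φ.obj a).sec

theorem secAt_map (Φ : 𝒲 ⥤ᵇ Stk.ofPsh W) {a b : 𝒲.obj} (f : a ⟶ b) :
    W.map (𝒲.p.map f).op (secAt Φ b) = secAt Φ a := by
  rw [secAt, secAt, ← (Φ.map f).map_sec, psh_map_map, psh_map_map, psh_hom_map]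
  simp

/-- The section of `Φ.obj a` is the transport of `secAt`. -/
theorem sec_eq (Φ : 𝒲 ⥤ᵇ Stk.ofPsh W) (a : 𝒲.obj) :
    (Φ.obj a).sec = W.map (eqToHom (base_eq Φ a)).op (secAt Φ a) := by
  rw [secAt, psh_map_map, eqToHom_trans, eqToHom_refl, psh_map_id]

/-- Construct a functor into `Stk.ofPsh W` from a compatible family of sections. -/
def toPsh (s : ∀ a : 𝒲.obj, W.obj (op (𝒲.p.obj a)))
    (hs : ∀ {a b : 𝒲.obj} (f : a ⟶ b), W.map (𝒲.p.map f).op (s b) = s a) : 𝒲 ⥤ᵇ Stk.ofPsh W where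
  toFunctor :=
    { obj := fun a => ⟨𝒲.p.obj a, s a⟩
      map := fun f => ⟨𝒲.p.map f, hs f⟩
      map_id := fun a => Stk.EltObj.hom_ext (𝒲.p.map_id a)
      map_comp := fun f g => Stk.EltObj.hom_ext (𝒲.p.map_comp f g) }
  w := rfl

@[simp] theorem secAt_toPsh (s : ∀ a : 𝒲.obj, W.obj (op (𝒲.p.obj a)))
    (hs : ∀ {a b : 𝒲.obj} (f : a ⟶ b), W.map (𝒲.p.map f).op (s b) = s a) (a : 𝒲.obj) :
    secAt (toPsh s hs) a = s a := psh_map_id W (s a)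

/-- A morphism of `Stk.ofPsh W` between values of two functors with the same section at `a`. -/
def homOfSec {Φ Ψ : 𝒲 ⥤ᵇ Stk.ofPsh W} (a : 𝒲.obj) (h : secAt Φ a = secAt Ψ a) : Φ.obj a ⟶ Ψ.obj a :=
  ⟨eqToHom ((base_eq Φ a).trans (base_eq Ψ a).symm), by
    rw [sec_eq Φ, sec_eq Ψ, h, psh_map_map, eqToHom_trans]⟩

theorem homOfSec_hom {Φ Ψ : 𝒲 ⥤ᵇ Stk.ofPsh W} (a : 𝒲.obj) (h : secAt Φ a = secAt Ψ a) :
    (homOfSec a h).hom = eqToHom ((base_eq Φ a).trans (base_eq Ψ a).symm) := rfl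

def isoOfSecAt {Φ Ψ : 𝒲 ⥤ᵇ Stk.ofPsh W} (a : 𝒲.obj) (h : secAt Φ a = secAt Ψ a) : Φ.obj a ≅ Ψ.obj a where
  hom := homOfSec a h
  inv := homOfSec a h.symm
  hom_inv_id := Stk.EltObj.hom_ext (by rw [Stk.EltObj.comp_hom, homOfSec_hom, homOfSec_hom, eqToHom_trans]; rfl)
  inv_hom_id := Stk.EltObj.hom_ext (by rw [Stk.EltObj.comp_hom, homOfSec_hom, homOfSec_hom, eqToHom_trans]; rfl)

/-- Two functors into `Stk.ofPsh W` with the same sections are 2-isomorphic. -/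
def isoOfSec {Φ Ψ : 𝒲 ⥤ᵇ Stk.ofPsh W} (h : ∀ a, secAt Φ a = secAt Ψ a) : Φ ≅ Ψ :=
  mkIso (fun a => isoOfSecAt a (h a))
    (fun {a b} f => Stk.EltObj.hom_ext (by
      change (Φ.map f ≫ homOfSec b (h b)).hom = (homOfSec a (h a) ≫ Ψ.map f).hom
      rw [Stk.EltObj.comp_hom, Stk.EltObj.comp_hom, psh_hom_map, psh_hom_map]
      simp [homOfSec]))
    (fun a => ⟨(Φ.w_obj a).trans (Ψ.w_obj a).symm, rfl⟩)

theorem secAt_eq_of_hom {Φ Ψ : 𝒲 ⥤ᵇ Stk.ofPsh W} (α : Φ ⟶ Ψ) (a : 𝒲.obj) : secAt Φ a = secAt Ψ a := by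
  rw [secAt, secAt, ← (α.toNatTrans.app a).map_sec, psh_map_map, psh_hom_app, eqToHom_trans]

/-- 2-morphisms into `Stk.ofPsh W` are unique. -/
theorem psh_hom_unique {Φ Ψ : 𝒲 ⥤ᵇ Stk.ofPsh W} (α β : Φ ⟶ Ψ) : α = β :=
  natTrans_ext _ _ fun a => Stk.EltObj.hom_ext ((p_map_app α a).trans (p_map_app β a).symm)

theorem psh_iso_unique {Φ Ψ : 𝒲 ⥤ᵇ Stk.ofPsh W} (α β : Φ ≅ Ψ) : α = β := by
  ext1; exact psh_hom_unique _ _

end IntoPsh

section PshPsh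

variable {V W X : Cᵒᵖ ⥤ Type w}

/-- The map of presheaves underlying a functor `Stk.ofPsh V ⥤ᵇ Stk.ofPsh W`. -/
def secMap (Φ : Stk.ofPsh V ⥤ᵇ Stk.ofPsh W) : V ⟶ W where
  app T := ↾fun x => secAt Φ (⟨T.unop, x⟩ : (Stk.ofPsh V).obj)
  naturality T T' g := by
    ext x
    exact (secAt_map Φ (⟨g.unop, rfl⟩ : (⟨T'.unop, V.map g x⟩ : (Stk.ofPsh V).obj) ⟶ ⟨T.unop, x⟩)).symm

theorem secMap_app (Φ : Stk.ofPsh V ⥤ᵇ Stk.ofPsh W) (T : C) (x : V.obj (op T)) :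
    (secMap Φ).app (op T) x = secAt Φ ⟨T, x⟩ := rfl

theorem secAt_ofPshMap (φ : V ⟶ W) (a : (Stk.ofPsh V).obj) : secAt (Stk.ofPshMap φ) a = φ.app _ a.sec :=
  psh_map_id W _

@[simp] theorem secMap_ofPshMap (φ : V ⟶ W) : secMap (Stk.ofPshMap φ) = φ := by
  ext T x
  exact secAt_ofPshMap φ ⟨T.unop, x⟩

/-- Every functor between categories of presheaves is the functor of a map. -/
def isoSecMap (Φ : Stk.ofPsh V ⥤ᵇ Stk.ofPsh W) : Φ ≅ Stk.ofPshMap (secMap Φ) :=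
  isoOfSec fun a => (secAt_ofPshMap (secMap Φ) a).symm

theorem ofPshMap_injective {φ ψ : V ⟶ W} (α : Stk.ofPshMap φ ⟶ Stk.ofPshMap ψ) : φ = ψ := by
  rw [← secMap_ofPshMap φ, ← secMap_ofPshMap ψ]
  ext T x
  exact secAt_eq_of_hom α ⟨T.unop, x⟩

theorem secMap_eq_of_hom {Φ Ψ : Stk.ofPsh V ⥤ᵇ Stk.ofPsh W} (α : Φ ⟶ Ψ) : secMap Φ = secMap Ψ := by
  ext T x
  exact secAt_eq_of_hom α ⟨T.unop, x⟩

theorem ofPshMap_comp (φ : V ⟶ W) (ψ : W ⟶ X) :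
    BasedFunctor.comp (Stk.ofPshMap φ) (Stk.ofPshMap ψ) = Stk.ofPshMap (φ ≫ ψ) := rfl

theorem ofPshMap_id : Stk.ofPshMap (𝟙 V) = BasedFunctor.id (Stk.ofPsh V) := rfl

theorem secMap_comp (Φ : Stk.ofPsh V ⥤ᵇ Stk.ofPsh W) (Ψ : Stk.ofPsh W ⥤ᵇ Stk.ofPsh X) :
    secMap (BasedFunctor.comp Φ Ψ) = secMap Φ ≫ secMap Ψ := by
  apply ofPshMap_injective
  refine (isoSecMap (BasedFunctor.comp Φ Ψ)).inv ≫ ?_
  exact (isoWhiskerRight (isoSecMap Φ) Ψ ≪≫ isoWhiskerLeft (Stk.ofPshMap (secMap Φ)) (isoSecMap Ψ)).hom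

/-- An equivalence between categories of presheaves comes from an isomorphism of presheaves. -/
theorem isIso_secMap {Φ : Stk.ofPsh V ⥤ᵇ Stk.ofPsh W} (h : FibCat.IsEquivOver Φ) : IsIso (secMap Φ) := by
  obtain ⟨Ψ, ⟨a⟩, ⟨b⟩⟩ := h
  refine ⟨secMap Ψ, ?_, ?_⟩
  · rw [← secMap_comp, secMap_eq_of_hom a.hom]; exact secMap_ofPshMap (𝟙 V)
  · rw [← secMap_comp, secMap_eq_of_hom b.hom]; exact secMap_ofPshMap (𝟙 W)

theorem isEquivOver_ofPshMap (φ : V ⟶ W) [IsIso φ] : FibCat.IsEquivOver (Stk.ofPshMap φ) := by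
  refine ⟨Stk.ofPshMap (inv φ), ⟨?_⟩, ⟨?_⟩⟩
  · rw [ofPshMap_comp, IsIso.hom_inv_id]; exact Iso.refl _
  · rw [ofPshMap_comp, IsIso.inv_hom_id]; exact Iso.refl _

theorem isEquivOver_ofPshMap_iff (φ : V ⟶ W) : FibCat.IsEquivOver (Stk.ofPshMap φ) ↔ IsIso φ :=
  ⟨fun h => by rw [← secMap_ofPshMap φ]; exact isIso_secMap h, fun h => isEquivOver_ofPshMap φ⟩

end PshPsh

/-! ### Sections as functors out of slices -/

section SecFun

variable {V : Cᵒᵖ ⥤ Type w}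

/-- The functor `C/T ⟶ ofPsh V` of a section `s ∈ V(T)`. -/
def secFun {T : C} (s : V.obj (op T)) : FibCat.overCat T ⥤ᵇ Stk.ofPsh V where
  toFunctor :=
    { obj := fun g => ⟨Comma.left g, V.map (Over.hom g).op s⟩
      map := fun {g h} φ => ⟨Over.Hom.left φ, by
        change V.map _ (V.map _ s) = V.map _ s
        rw [← Functor.map_comp_apply, ← op_comp]
        have := Over.w φ
        rw [← this]⟩
      map_id := fun g => Stk.EltObj.hom_ext rfl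
      map_comp := fun f g => Stk.EltObj.hom_ext rfl }
  w := rfl

@[simp] theorem secFun_obj_base {T : C} (s : V.obj (op T)) (g : Over T) : ((secFun s).obj g).base = g.left := rfl

@[simp] theorem secFun_obj_sec {T : C} (s : V.obj (op T)) (g : Over T) :
    ((secFun s).obj g).sec = V.map g.hom.op s := rfl

/-- The value of `secFun s` at the identity is (isomorphic to) `(T, s)`. -/
theorem secFun_obj_id {T : C} (s : V.obj (op T)) : (secFun s).obj (Over.mk (𝟙 T)) = ⟨T, s⟩ := by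
  change (⟨T, V.map (𝟙 T).op s⟩ : Stk.EltObj V) = ⟨T, s⟩
  congr 1
  simp

end SecFun

/-! ### Functors into slices -/

section IntoOver

variable {𝒲 : BasedCategory.{v₂, u₂} C} {U : C}

theorem left_eq (Φ : 𝒲 ⥤ᵇ FibCat.overCat U) (a : 𝒲.obj) : Comma.left (Φ.obj a) = 𝒲.p.obj a := Φ.w_obj a

theorem over_hom_map (Φ : 𝒲 ⥤ᵇ FibCat.overCat U) {a b : 𝒲.obj} (f : a ⟶ b) :
    Over.Hom.left (Φ.map f) = eqToHom (left_eq Φ a) ≫ 𝒲.p.map f ≫ eqToHom (left_eq Φ b).symm := p_map Φ f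

theorem over_hom_app {Φ Ψ : 𝒲 ⥤ᵇ FibCat.overCat U} (α : Φ ⟶ Ψ) (a : 𝒲.obj) :
    Over.Hom.left (α.toNatTrans.app a) = eqToHom ((left_eq Φ a).trans (left_eq Ψ a).symm) := p_map_app α a

/-- The structure morphism attached to the value of a functor into a slice. -/
def strAt (Φ : 𝒲 ⥤ᵇ FibCat.overCat U) (a : 𝒲.obj) : 𝒲.p.obj a ⟶ U :=
  eqToHom (left_eq Φ a).symm ≫ Over.hom (Φ.obj a)

theorem strAt_map (Φ : 𝒲 ⥤ᵇ FibCat.overCat U) {a b : 𝒲.obj} (f : a ⟶ b) :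
    𝒲.p.map f ≫ strAt Φ b = strAt Φ a := by
  have h1 : Over.Hom.left (Φ.map f) ≫ Over.hom (Φ.obj b) = Over.hom (Φ.obj a) := Over.w (Φ.map f)
  rw [strAt, strAt, ← h1, over_hom_map]
  simp

theorem hom_eq_strAt (Φ : 𝒲 ⥤ᵇ FibCat.overCat U) (a : 𝒲.obj) :
    Over.hom (Φ.obj a) = eqToHom (left_eq Φ a) ≫ strAt Φ a := by
  simp [strAt]

/-- Construct a functor into a slice from a compatible family of structure morphisms. -/
def toOver (s : ∀ a : 𝒲.obj, 𝒲.p.obj a ⟶ U)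
    (hs : ∀ {a b : 𝒲.obj} (f : a ⟶ b), 𝒲.p.map f ≫ s b = s a) : 𝒲 ⥤ᵇ FibCat.overCat U where
  toFunctor :=
    { obj := fun a => Over.mk (s a)
      map := fun f => Over.homMk (𝒲.p.map f) (hs f)
      map_id := fun a => Over.OverMorphism.ext (𝒲.p.map_id a)
      map_comp := fun f g => Over.OverMorphism.ext (𝒲.p.map_comp f g) }
  w := rfl

@[simp] theorem strAt_toOver (s : ∀ a : 𝒲.obj, 𝒲.p.obj a ⟶ U)
    (hs : ∀ {a b : 𝒲.obj} (f : a ⟶ b), 𝒲.p.map f ≫ s b = s a) (a : 𝒲.obj) :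
    strAt (toOver s hs) a = s a := Category.id_comp (s a)

def homOfStr {Φ Ψ : 𝒲 ⥤ᵇ FibCat.overCat U} (a : 𝒲.obj) (h : strAt Φ a = strAt Ψ a) : Φ.obj a ⟶ Ψ.obj a :=
  Over.homMk (eqToHom ((left_eq Φ a).trans (left_eq Ψ a).symm)) (by
    rw [hom_eq_strAt Φ, hom_eq_strAt Ψ, h]; simp)

theorem homOfStr_left {Φ Ψ : 𝒲 ⥤ᵇ FibCat.overCat U} (a : 𝒲.obj) (h : strAt Φ a = strAt Ψ a) :
    Over.Hom.left (homOfStr a h) = eqToHom ((left_eq Φ a).trans (left_eq Ψ a).symm) := rfl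

def isoOfStrAt {Φ Ψ : 𝒲 ⥤ᵇ FibCat.overCat U} (a : 𝒲.obj) (h : strAt Φ a = strAt Ψ a) : Φ.obj a ≅ Ψ.obj a where
  hom := homOfStr a h
  inv := homOfStr a h.symm
  hom_inv_id := Over.OverMorphism.ext (by
    change Over.Hom.left (homOfStr a h) ≫ Over.Hom.left (homOfStr a h.symm) = 𝟙 _
    rw [homOfStr_left, homOfStr_left, eqToHom_trans]; rfl)
  inv_hom_id := Over.OverMorphism.ext (by
    change Over.Hom.left (homOfStr a h.symm) ≫ Over.Hom.left (homOfStr a h) = 𝟙 _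
    rw [homOfStr_left, homOfStr_left, eqToHom_trans]; rfl)

/-- Two functors into a slice with the same structure morphisms are 2-isomorphic. -/
def isoOfStr {Φ Ψ : 𝒲 ⥤ᵇ FibCat.overCat U} (h : ∀ a, strAt Φ a = strAt Ψ a) : Φ ≅ Ψ :=
  mkIso (fun a => isoOfStrAt a (h a))
    (fun {a b} f => Over.OverMorphism.ext (by
      change Over.Hom.left (Φ.map f) ≫ Over.Hom.left (homOfStr b (h b)) =
        Over.Hom.left (homOfStr a (h a)) ≫ Over.Hom.left (Ψ.map f)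
      rw [over_hom_map, over_hom_map, homOfStr_left, homOfStr_left]
      simp))
    (fun a => ⟨(Φ.w_obj a).trans (Ψ.w_obj a).symm, rfl⟩)

theorem strAt_eq_of_hom {Φ Ψ : 𝒲 ⥤ᵇ FibCat.overCat U} (α : Φ ⟶ Ψ) (a : 𝒲.obj) : strAt Φ a = strAt Ψ a := by
  have h1 : Over.Hom.left (α.toNatTrans.app a) ≫ Over.hom (Ψ.obj a) = Over.hom (Φ.obj a) := Over.w (α.toNatTrans.app a)
  rw [strAt, strAt, ← h1, over_hom_app]
  simp

/-- 2-morphisms into a slice are unique. -/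
theorem over_hom_unique {Φ Ψ : 𝒲 ⥤ᵇ FibCat.overCat U} (α β : Φ ⟶ Ψ) : α = β :=
  natTrans_ext _ _ fun a => Over.OverMorphism.ext ((p_map_app α a).trans (p_map_app β a).symm)

theorem over_iso_unique {Φ Ψ : 𝒲 ⥤ᵇ FibCat.overCat U} (α β : Φ ≅ Ψ) : α = β := by
  ext1; exact over_hom_unique _ _

/-- Composition with `h : U ⟶ V` as a functor between slices over the base. -/
def overMap' {V : C} (h : U ⟶ V) : FibCat.overCat U ⥤ᵇ FibCat.overCat V where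
  toFunctor := Over.map h
  w := rfl

theorem strAt_comp_overMap' {V : C} (Φ : 𝒲 ⥤ᵇ FibCat.overCat U) (h : U ⟶ V) (a : 𝒲.obj) :
    strAt (BasedFunctor.comp Φ (overMap' h)) a = strAt Φ a ≫ h := by
  rw [strAt, strAt, Category.assoc]; rfl

/-- A functor between slices is composition with a morphism, namely the structure morphism of the value at the identity. -/
def isoOverMap' {V : C} (Φ : FibCat.overCat U ⥤ᵇ FibCat.overCat V) :
    Φ ≅ overMap' (strAt Φ (Over.mk (𝟙 U))) :=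
  isoOfStr fun g => by
    rw [← strAt_map Φ (toId g)]
    change _ = 𝟙 _ ≫ _
    rw [Category.id_comp]
    rfl

end IntoOver

/-! ### Squares of presheaves -/

section PshSq

variable {P X Y Z : Cᵒᵖ ⥤ Type w} {p : P ⟶ X} {q : P ⟶ Y} {f : X ⟶ Z} {g : Y ⟶ Z}

theorem isPullback_psh_iff : IsPullback p q f g ↔ p ≫ f = q ≫ g ∧
    ∀ (T : C) (x : X.obj (op T)) (y : Y.obj (op T)), f.app _ x = g.app _ y →
      ∃! z : P.obj (op T), p.app _ z = x ∧ q.app _ z = y := by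
  rw [_root_.CategoryTheory.IsPullback.iff_app]
  constructor
  · intro h
    refine ⟨NatTrans.ext (funext fun T => (h T).w), fun T x y hxy => ?_⟩
    obtain ⟨-, h2, h3⟩ := (Types.isPullback_iff _ _ _ _).1 (h (op T))
    obtain ⟨z, hz⟩ := h3 x y hxy
    exact ⟨z, hz, fun z' hz' => h2 _ _ ⟨hz'.1.trans hz.1.symm, hz'.2.trans hz.2.symm⟩⟩
  · rintro ⟨h1, h2⟩ T
    refine (Types.isPullback_iff _ _ _ _).2 ⟨congr_app h1 T, ?_, ?_⟩
    · rintro z z' ⟨h3, h4⟩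
      have h5 : f.app (op T.unop) (p.app _ z) = g.app _ (q.app _ z) := congrArg (fun t => t z) (congr_app h1 T)
      obtain ⟨z₀, -, hz⟩ := h2 T.unop (p.app _ z) (q.app _ z) h5
      rw [hz z ⟨rfl, rfl⟩, hz z' ⟨h3.symm, h4.symm⟩]
    · intro x y hxy
      obtain ⟨z, hz, -⟩ := h2 T.unop x y hxy
      exact ⟨z, hz⟩

theorem elt_sec_eq_of_hom {W : Cᵒᵖ ⥤ Type w} {T : C} {x y : W.obj (op T)}
    (φ : (⟨T, x⟩ : Stk.EltObj W) ⟶ (⟨T, y⟩ : Stk.EltObj W)) (h : φ.hom = 𝟙 T) : x = y := by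
  have := φ.map_sec
  rw [h] at this
  change W.map (𝟙 T).op y = x at this
  rw [psh_map_id] at this
  exact this.symm

/-- The isomorphism `(T, x) ≅ (T, y)` over the identity when `x = y`. -/
def eltIso {W : Cᵒᵖ ⥤ Type w} {T : C} {x y : W.obj (op T)} (h : x = y) :
    (⟨T, x⟩ : Stk.EltObj W) ≅ (⟨T, y⟩ : Stk.EltObj W) where
  hom := ⟨𝟙 T, by change W.map (𝟙 T).op y = x; rw [psh_map_id, h]⟩
  inv := ⟨𝟙 T, by change W.map (𝟙 T).op x = y; rw [psh_map_id, h]⟩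
  hom_inv_id := Stk.EltObj.hom_ext (Category.id_comp (𝟙 T))
  inv_hom_id := Stk.EltObj.hom_ext (Category.id_comp (𝟙 T))

@[simp] theorem eltIso_hom_hom {W : Cᵒᵖ ⥤ Type w} {T : C} {x y : W.obj (op T)} (h : x = y) :
    (eltIso h).hom.hom = 𝟙 T := rfl

@[simp] theorem eltIso_inv_hom {W : Cᵒᵖ ⥤ Type w} {T : C} {x y : W.obj (op T)} (h : x = y) :
    (eltIso h).inv.hom = 𝟙 T := rfl

/-- The 2-isomorphism of a commutative square of presheaves. -/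
def sqIso (h : p ≫ f = q ≫ g) : BasedFunctor.comp (Stk.ofPshMap p) (Stk.ofPshMap f) ≅
    BasedFunctor.comp (Stk.ofPshMap q) (Stk.ofPshMap g) :=
  isoOfSec fun a => by
    rw [ofPshMap_comp, ofPshMap_comp, h]

theorem isTwoCartOver_ofPsh_iff
    (e : BasedFunctor.comp (Stk.ofPshMap p) (Stk.ofPshMap f) ≅ BasedFunctor.comp (Stk.ofPshMap q) (Stk.ofPshMap g)) :
    FibCat.IsTwoCartOver (Stk.ofPshMap p) (Stk.ofPshMap q) e ↔ IsPullback p q f g := by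
  have hw : p ≫ f = q ≫ g := by
    apply ofPshMap_injective
    exact e.hom
  rw [isTwoCartOver_iff, isPullback_psh_iff]
  constructor
  · rintro ⟨h1, h2⟩
    refine ⟨hw, fun T x y hxy => ?_⟩
    obtain ⟨⟨T', z'⟩, i₁, i₂, h', h3, h4⟩ := h2 ⟨T, x⟩ ⟨T, y⟩ (eltIso hxy) rfl rfl
    have hT : T' = T := h'
    subst hT
    have e1 : i₁.hom.hom = 𝟙 T' := h3
    have e2 : p.app _ z' = x := elt_sec_eq_of_hom i₁.hom e1
    have e3 : i₂.hom.hom = 𝟙 T' := by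
      have h5 : i₁.hom.hom ≫ 𝟙 T' = (e.hom.toNatTrans.app ⟨T', z'⟩).hom ≫ i₂.hom.hom :=
        congrArg Stk.EltObj.Hom.hom h4
      have h6 : (e.hom.toNatTrans.app ⟨T', z'⟩).hom = 𝟙 T' := psh_hom_app e.hom ⟨T', z'⟩
      rw [h6, e1] at h5
      have h7 : 𝟙 T' ≫ i₂.hom.hom = i₂.hom.hom := Category.id_comp i₂.hom.hom
      rw [← h7, ← h5]; exact Category.id_comp _
    have e4 : q.app _ z' = y := elt_sec_eq_of_hom i₂.hom e3
    refine ⟨z', ⟨e2, e4⟩, fun z'' hz'' => ?_⟩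
    have e5 : p.app _ z'' = p.app _ z' := hz''.1.trans e2.symm
    have e6 : q.app _ z'' = q.app _ z' := hz''.2.trans e4.symm
    obtain ⟨k, ⟨hk1, -⟩, -⟩ := h1 ⟨T', z''⟩ ⟨T', z'⟩ (eltIso e5).hom (eltIso e6).hom (Stk.EltObj.hom_ext (by
      have h6 : (e.hom.toNatTrans.app ⟨T', z'⟩).hom = 𝟙 T' := psh_hom_app e.hom ⟨T', z'⟩
      have h7 : (e.hom.toNatTrans.app ⟨T', z''⟩).hom = 𝟙 T' := psh_hom_app e.hom ⟨T', z''⟩
      change 𝟙 T' ≫ (e.hom.toNatTrans.app ⟨T', z'⟩).hom = (e.hom.toNatTrans.app ⟨T', z''⟩).hom ≫ 𝟙 T'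
      rw [h6, h7]))
    have hk : k.hom = 𝟙 T' := congrArg Stk.EltObj.Hom.hom hk1
    exact elt_sec_eq_of_hom k hk
  · rintro ⟨-, h2⟩
    constructor
    · rintro ⟨T, z⟩ ⟨T', z'⟩ φ ψ hφψ
      have h3 : φ.hom = ψ.hom := by
        have h5 : φ.hom ≫ (e.hom.toNatTrans.app ⟨T', z'⟩).hom = (e.hom.toNatTrans.app ⟨T, z⟩).hom ≫ ψ.hom :=
          congrArg Stk.EltObj.Hom.hom hφψ
        have h6 : (e.hom.toNatTrans.app ⟨T', z'⟩).hom = 𝟙 T' := psh_hom_app e.hom ⟨T', z'⟩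
        have h7 : (e.hom.toNatTrans.app ⟨T, z⟩).hom = 𝟙 T := psh_hom_app e.hom ⟨T, z⟩
        rw [h6, h7] at h5
        have h8 : 𝟙 T ≫ ψ.hom = ψ.hom := Category.id_comp ψ.hom
        have h9 : φ.hom ≫ 𝟙 T' = φ.hom := Category.comp_id φ.hom
        exact h9.symm.trans (h5.trans h8)
      obtain ⟨φ, hφ⟩ := φ
      obtain ⟨ψ, hψ⟩ := ψ
      change φ = ψ at h3
      subst h3
      have h4 : X.map φ.op (p.app _ z') = p.app _ z := hφ
      have h5 : Y.map φ.op (q.app _ z') = q.app _ z := hψ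
      have h6 : P.map φ.op z' = z := by
        obtain ⟨z₀, -, hz₀⟩ := h2 T (p.app _ z) (q.app _ z) (congrArg (fun t => t.app _ z) hw)
        refine (hz₀ _ ⟨?_, ?_⟩).trans (hz₀ z ⟨rfl, rfl⟩).symm
        · rw [← h4]; exact NatTrans.naturality_apply p φ.op z'
        · rw [← h5]; exact NatTrans.naturality_apply q φ.op z'
      refine ⟨⟨φ, h6⟩, ⟨Stk.EltObj.hom_ext rfl, Stk.EltObj.hom_ext rfl⟩, ?_⟩
      rintro k ⟨hk, -⟩
      have hk' : k.hom = φ := congrArg Stk.EltObj.Hom.hom hk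
      exact Stk.EltObj.hom_ext hk'
    · rintro ⟨T, x⟩ ⟨T', y⟩ i hi hi'
      have hT : T = T' := hi
      subst hT
      have h3 : i.hom.hom = 𝟙 T := hi'
      have h4 : f.app _ x = g.app _ y := elt_sec_eq_of_hom i.hom h3
      obtain ⟨z, ⟨hz1, hz2⟩, -⟩ := h2 T x y h4
      refine ⟨⟨T, z⟩, eltIso hz1, eltIso hz2, rfl, rfl, Stk.EltObj.hom_ext ?_⟩
      change 𝟙 T ≫ i.hom.hom = (e.hom.toNatTrans.app ⟨T, z⟩).hom ≫ 𝟙 T
      have h7 : (e.hom.toNatTrans.app ⟨T, z⟩).hom = 𝟙 T := psh_hom_app e.hom ⟨T, z⟩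
      rw [h7, h3]

end PshSq

end K736.Fib
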