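import Groth.Agent.AlgSt.K736.Cart
import Groth.Agent.AlgSt.K736.Psh
import Groth.Agent.AlgSt.K736.BC
import Groth.Agent.AlgSt.K746.ModLoc
import Groth.Agent.AlgSt.K735.Univ
import Groth.Agent.S12953
import Groth.Agent.AlgSt.K740.SpDM
import Groth.Agent.AlgSt.K738.RespIso
import Groth.Agent.AlgSt.K738.RepSep

/-!
# Moduli spaces: transport along isomorphisms of the target, base change of bijectivity on geometric points
-/

set_option autoImplicit false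
set_option linter.unusedVariables false
set_option backward.isDefEq.respectTransparency false
set_option backward.isDefEq.respectTransparency.types false

universe v₅ u₅ v₄ u₄ v₃ u₃ v₂ u₂ v u

open CategoryTheory CategoryTheory.Limits AlgebraicGeometry Opposite

namespace K736.Fib

variable {C : Type u} [Category.{v} C]

variable {𝒳 : BasedCategory.{v₂, u₂} C} {𝒴 : BasedCategory.{v₃, u₃} C} {𝒮 : BasedCategory.{v₄, u₄} C}
  {𝒲 : BasedCategory.{v₅, u₅} C}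
variable {F : 𝒳 ⥤ᵇ 𝒮} {G : 𝒴 ⥤ᵇ 𝒮}

/-- Postcomposition of a cartesian square with an equivalence. -/
theorem isTwoCartOver_postcomp {𝒮' : BasedCategory.{v₄, u₄} C} {K : 𝒮 ⥤ᵇ 𝒮'} (hK : FibCat.IsEquivOver K)
    {a : 𝒲 ⥤ᵇ 𝒳} {b : 𝒲 ⥤ᵇ 𝒴}
    {e : BasedFunctor.comp a F ≅ BasedFunctor.comp b G} (h : FibCat.IsTwoCartOver a b e) :
    FibCat.IsTwoCartOver (F := BasedFunctor.comp F K) (G := BasedFunctor.comp G K) a b (isoWhiskerRight e K) := by
  rw [isTwoCartOver_iff] at h ⊢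
  obtain ⟨h1, h2⟩ := h
  rw [isEquivOver_iff'] at hK
  obtain ⟨⟨hF, hF'⟩, -⟩ := hK
  constructor
  · intro w w' f g hfg
    refine h1 w w' f g (hF'.map_injective ?_)
    have h3 := K.toFunctor.map_comp (F.map f) (e.hom.toNatTrans.app w')
    have h4 := K.toFunctor.map_comp (e.hom.toNatTrans.app w) (G.map g)
    exact h3.trans (Eq.trans hfg h4.symm)
  · intro x y i hi hi'
    obtain ⟨j, hj⟩ := hF.map_surjective i.hom
    have : IsIso j := by
      have : K.toFunctor.Full := hF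
      have : K.toFunctor.Faithful := hF'
      have : IsIso (K.toFunctor.map j) := by rw [hj]; infer_instance
      exact isIso_of_reflects_iso j K.toFunctor
    have h5 : 𝒮.p.obj (F.obj x) = 𝒮.p.obj (G.obj y) := (K.w_obj _).symm.trans (hi.trans (K.w_obj _))
    obtain ⟨w, f, g, h', h3, h4⟩ := h2 x y (asIso j) h5 (by
      have h6 := p_map K j
      have h7 : K.map j = i.hom := hj
      rw [h7] at h6
      have h8 : 𝒮'.p.map i.hom = eqToHom hi := hi'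
      rw [h8] at h6
      have h9 : 𝒮.p.map j = eqToHom (K.w_obj _).symm ≫ (eqToHom (K.w_obj _) ≫ 𝒮.p.map j ≫ eqToHom (K.w_obj _).symm) ≫
        eqToHom (K.w_obj _) := by simp
      rw [asIso_hom, h9, ← h6]
      simp)
    refine ⟨w, f, g, h', h3, ?_⟩
    have h6 := congrArg K.toFunctor.map h4
    have h7 : K.toFunctor.map (F.map f.hom ≫ j) = K.toFunctor.map (F.map f.hom) ≫ i.hom := by
      rw [Functor.map_comp, hj]
    exact h7.symm.trans (h6.trans (K.toFunctor.map_comp _ _))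

end K736.Fib

namespace K736.ModIso

open K736.Fib

variable {S : Scheme.{u}} {𝒳 : BasedCategory.{v₂, u₂} (Over S)} {M M' : AlgSp.Sp S} (i : M ≅ M') (π : 𝒳 ⥤ᵇ AlgSt.ofSp M)

theorem secAt_comp_ofPshMap {𝒲 : BasedCategory.{v₄, u₄} (Over S)} {V W : (Over S)ᵒᵖ ⥤ Type (u + 1)}
    (Φ : 𝒲 ⥤ᵇ Stk.ofPsh V) (φ : V ⟶ W) (a : 𝒲.obj) :
    secAt (BasedFunctor.comp Φ (Stk.ofPshMap φ)) a = φ.app _ (secAt Φ a) := by
  change W.map _ (φ.app _ _) = φ.app _ (V.map _ _)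
  rw [NatTrans.naturality_apply]
  rfl

theorem app_unique {𝒲 : BasedCategory.{v₄, u₄} (Over S)} {W : (Over S)ᵒᵖ ⥤ Type (u + 1)} {Φ Ψ : 𝒲 ⥤ᵇ Stk.ofPsh W}
    (α β : Φ ⟶ Ψ) (w : 𝒲.obj) : α.toNatTrans.app w = β.toNatTrans.app w := by
  rw [psh_hom_unique α β]

theorem inv_hom_apply {T : (Over S)ᵒᵖ} (x : M'.obj.obj T) : i.hom.hom.app T (i.inv.hom.app T x) = x :=
  congrArg (fun f : M' ⟶ M' => f.hom.app T x) i.inv_hom_id

theorem hom_inv_apply {T : (Over S)ᵒᵖ} (x : M.obj.obj T) : i.inv.hom.app T (i.hom.hom.app T x) = x :=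
  congrArg (fun f : M ⟶ M => f.hom.app T x) i.hom_inv_id

/-- The 2-isomorphism of the comparison. -/
def cmpIso {𝒵 : BasedCategory.{v₃, u₃} (Over S)} (z : 𝒵 ⥤ᵇ AlgSt.ofSp M') :
    BasedFunctor.comp (FibCat.fpFst (BasedFunctor.comp z (AlgSt.ofSpMap i.inv)) π) z ≅
      BasedFunctor.comp (FibCat.fpSnd (BasedFunctor.comp z (AlgSt.ofSpMap i.inv)) π)
        (BasedFunctor.comp π (AlgSt.ofSpMap i.hom)) :=
  isoOfSec fun a => by
    have h1 := secAt_eq_of_hom (FibCat.fpIso (BasedFunctor.comp z (AlgSt.ofSpMap i.inv)) π).hom a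
    have h2 := secAt_comp_ofPshMap (BasedFunctor.comp (FibCat.fpFst (BasedFunctor.comp z (AlgSt.ofSpMap i.inv)) π) z)
      i.inv.hom a
    have h3 := secAt_comp_ofPshMap (BasedFunctor.comp (FibCat.fpSnd (BasedFunctor.comp z (AlgSt.ofSpMap i.inv)) π) π)
      i.hom.hom a
    refine Eq.trans ?_ h3.symm
    refine Eq.trans (inv_hom_apply i _).symm (congrArg (i.hom.hom.app _) ?_)
    exact h2.symm.trans h1

/-- Comparison of the base changes. -/
def cmp {𝒵 : BasedCategory.{v₃, u₃} (Over S)} (z : 𝒵 ⥤ᵇ AlgSt.ofSp M') :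
    FibCat.fp (BasedFunctor.comp z (AlgSt.ofSpMap i.inv)) π ⥤ᵇ FibCat.fp z (BasedFunctor.comp π (AlgSt.ofSpMap i.hom)) :=
  FibCat.fpLift (FibCat.fpFst _ _) (FibCat.fpSnd _ _) (cmpIso i π z)

theorem isEquivOver_cmp {𝒵 : BasedCategory.{v₃, u₃} (Over S)} (z : 𝒵 ⥤ᵇ AlgSt.ofSp M') :
    FibCat.IsEquivOver (cmp i π z) := by
  have h1 := isTwoCartOver_postcomp (K := AlgSt.ofSpMap i.hom) (isEquivOver_ofPshMap i.hom.hom)
    (isTwoCartOver_fp (BasedFunctor.comp z (AlgSt.ofSpMap i.inv)) π)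
  have e : BasedFunctor.comp (BasedFunctor.comp z (AlgSt.ofSpMap i.inv)) (AlgSt.ofSpMap i.hom) ≅ z :=
    isoOfSec fun a => by
      have h2 := secAt_comp_ofPshMap z i.inv.hom a
      have h3 := secAt_comp_ofPshMap (BasedFunctor.comp z (AlgSt.ofSpMap i.inv)) i.hom.hom a
      refine h3.trans ?_
      refine (congrArg (i.hom.hom.app _) h2).trans (inv_hom_apply i _)
  have h2 := isTwoCartOver_of_iso_cospan e (Iso.refl _) h1
  exact isTwoCartOver_congr (fun w => app_unique _ _ w) h2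

theorem isCatModuliIn_post {C : ObjectProperty (AlgSp.Sp S)} (hC : C M') (h : AlgSt.IsCatModuliIn C π) :
    AlgSt.IsCatModuliIn C (BasedFunctor.comp π (AlgSt.ofSpMap i.hom)) := by
  rw [K746.isCatModuliIn_iff] at h ⊢
  refine ⟨hC, fun N hN φ => ?_⟩
  obtain ⟨g, hg, hu⟩ := h.2 N hN φ
  refine ⟨i.inv ≫ g, fun z => ?_, fun g' hg' => ?_⟩
  · refine Eq.trans ?_ (hg z)
    change (⟨_, (i.inv ≫ g).hom.app _ (i.hom.hom.app _ _)⟩ : Stk.EltObj N.obj) = ⟨_, g.hom.app _ _⟩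
    congr 1
    exact congrArg (g.hom.app _) (hom_inv_apply i _)
  · rw [← hu (i.hom ≫ g') hg', Iso.inv_hom_id_assoc]

theorem geomPtBij_post (h : AlgSt.GeomPtBij π) : AlgSt.GeomPtBij (BasedFunctor.comp π (AlgSt.ofSpMap i.hom)) := by
  intro Ω _ _ t
  obtain ⟨h1, h2⟩ := h Ω t
  refine ⟨fun m => ?_, fun x y hxy => h2 x y ?_⟩
  · obtain ⟨x, hx⟩ := h1 (i.inv.hom.app _ m)
    refine ⟨x, ?_⟩
    rw [K746.fibSec_eq_iff] at hx ⊢
    refine (congrArg (AlgSt.ofSpMap i.hom).obj hx).trans ?_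
    change (⟨_, i.hom.hom.app _ (i.inv.hom.app _ m)⟩ : Stk.EltObj M'.obj) = _
    rw [inv_hom_apply]
  · have h3 : ∀ x : 𝒳.p.Fiber (Over.mk t), AlgSt.fibSec (BasedFunctor.comp π (AlgSt.ofSpMap i.hom)) x =
        i.hom.hom.app _ (AlgSt.fibSec π x) := by
      intro x
      rw [K746.fibSec_eq_iff]
      refine (congrArg (AlgSt.ofSpMap i.hom).obj ((K746.fibSec_eq_iff π x _).1 rfl)).trans rfl
    rw [h3, h3] at hxy
    rw [← hom_inv_apply i (AlgSt.fibSec π x), hxy, hom_inv_apply]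

end K736.ModIso

namespace K736.ModIso

open K736.Fib

variable {S : Scheme.{u}} {𝒳 : BasedCategory.{v₂, u₂} (Over S)} {M M' : AlgSp.Sp S} (i : M ≅ M') (π : 𝒳 ⥤ᵇ AlgSt.ofSp M)

theorem isUnifCatModuli_post (h : AlgSt.IsUnifCatModuli π) :
    AlgSt.IsUnifCatModuli (BasedFunctor.comp π (AlgSt.ofSpMap i.hom)) := by
  refine ⟨isCatModuliIn_post i π (h.1.1.of_iso i) h.1, fun M₁ hM₁ g hg => ?_⟩
  have h1 := h.2 M₁ hM₁ (g ≫ i.inv) (MorphismProperty.RespectsIso.postcomp _ i.inv g hg)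
  exact (K746.ModLoc.isCatModuliIn_comp_iff (e := cmp i π (AlgSt.ofSpMap g)) (isEquivOver_cmp i π (AlgSt.ofSpMap g))
    (fun z => rfl)).1 h1

theorem isUnivHomeo_post {K : Precoverage Scheme.{u}} (h : AlgSt.IsUnivHomeo K π) :
    AlgSt.IsUnivHomeo K (BasedFunctor.comp π (AlgSt.ofSpMap i.hom)) := by
  intro 𝒵 h𝒵 z
  have h1 := h 𝒵 h𝒵 (BasedFunctor.comp z (AlgSt.ofSpMap i.inv))
  have h2 := K735.Univ.isHomeomorph_map_of_isEquivOver (isEquivOver_cmp i π z)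
  have h3 : AlgSt.Points.map (FibCat.fpFst (BasedFunctor.comp z (AlgSt.ofSpMap i.inv)) π) =
      AlgSt.Points.map (FibCat.fpFst z (BasedFunctor.comp π (AlgSt.ofSpMap i.hom))) ∘ AlgSt.Points.map (cmp i π z) := by
    funext p
    obtain ⟨p, rfl⟩ := AlgSt.Points.mk_surjective p
    rfl
  rw [h3] at h1
  let H := h2.homeomorph
  have h4 : AlgSt.Points.map (FibCat.fpFst z (BasedFunctor.comp π (AlgSt.ofSpMap i.hom))) =
      (AlgSt.Points.map (FibCat.fpFst z (BasedFunctor.comp π (AlgSt.ofSpMap i.hom))) ∘ AlgSt.Points.map (cmp i π z)) ∘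
        H.symm := by
    funext p
    obtain ⟨q, rfl⟩ := H.surjective p
    simp only [Function.comp_apply, Homeomorph.symm_apply_apply]
    rfl
  rw [h4]
  exact h1.comp H.symm.isHomeomorph

theorem isSeparatedMor_post {𝒳 : AlgSt.Cat S} (h𝒳 : AlgSt.IsAlgStack Scheme.fppfPrecoverage 𝒳) (hM : AlgSp.IsAlgSpace M)
    (π : 𝒳 ⥤ᵇ AlgSt.ofSp M) (h : AlgSt.IsSeparatedMor π) :
    AlgSt.IsSeparatedMor (BasedFunctor.comp π (AlgSt.ofSpMap i.hom)) := by
  refine Groth.Agent.S12953.result S 𝒳 _ _ h𝒳 (K740.SpDM.isAlgStack_ofSp hM) (K740.SpDM.isAlgStack_ofSp (hM.of_iso i)) _ _ h ?_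
  have h1 : AlgSt.RepByAlgSpWith AlgSp.IsSeparatedMor (AlgSt.ofSpMap i.hom) := by
    rw [K735.SpFp.repByAlgSpWith_ofSpMap_iff]
    intro U P g fst snd sq
    have := sq.isIso_fst_of_isIso
    exact ⟨(AlgSp.IsAlgSpace.yon_obj U).of_iso (asIso fst).symm, MorphismProperty.of_isIso _ _⟩
  exact ((K738.tfae_separated (K735.Rep.repByAlgSp1_of_with h1)).out 0 2 rfl rfl).1 h1

/-- Bijectivity on geometric points is stable under base change. -/
theorem geomPtBij_fpFst (h𝒳 : FibCat.IsFibGrpd 𝒳.p) {M₁ : AlgSp.Sp S} (g : M₁ ⟶ M) (h : AlgSt.GeomPtBij π) :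
    AlgSt.GeomPtBij (FibCat.fpFst (AlgSt.ofSpMap g) π) := by
  intro Ω _ _ t
  obtain ⟨h1, h2⟩ := h Ω t
  have hfib := K734.Fib.isFibGrpd_fp (AlgSt.ofSpMap g) π (K735.Rep.isFibGrpd_ofSp M₁) h𝒳 (K735.Rep.isFibGrpd_ofSp M)
  refine ⟨fun m => ?_, fun x y hxy => ?_⟩
  · obtain ⟨x, hx⟩ := h1 (g.hom.app _ m)
    rw [K746.fibSec_eq_iff] at hx
    have e1 : (AlgSt.ofSpMap g).obj (⟨Over.mk t, m⟩ : (AlgSt.ofSp M₁).obj) = π.obj x.1 := by
      rw [hx]; rfl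
    refine ⟨⟨K734.Fib.mkObj (F := AlgSt.ofSpMap g) (G := π) (⟨Over.mk t, m⟩ : (AlgSt.ofSp M₁).obj) x.1 (eqToIso e1)
      (K734.Fib.IsVert.eqToHom e1), rfl⟩, ?_⟩
    rw [K746.fibSec_eq_iff]
    rfl
  · have key : ∀ x : (FibCat.fp (AlgSt.ofSpMap g) π).p.Fiber (Over.mk t),
        ∃ hx : 𝒳.p.obj x.1.obj.snd = Over.mk t, AlgSt.fibSec π (⟨x.1.obj.snd, hx⟩ : 𝒳.p.Fiber (Over.mk t)) =
          g.hom.app _ (AlgSt.fibSec (FibCat.fpFst (AlgSt.ofSpMap g) π) x) := by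
      intro x
      have e1 : (AlgSt.ofSpMap g).obj x.1.obj.fst = π.obj x.1.obj.snd := K734.Fib.eq_of_vert (K734.Fib.iso_vert x.1)
      have e2 := (K746.fibSec_eq_iff (FibCat.fpFst (AlgSt.ofSpMap g) π) x _).1 rfl
      have e3 : π.obj x.1.obj.snd = ⟨Over.mk t, g.hom.app _ (AlgSt.fibSec (FibCat.fpFst (AlgSt.ofSpMap g) π) x)⟩ :=
        e1.symm.trans (congrArg (AlgSt.ofSpMap g).obj e2)
      have e4 : 𝒳.p.obj x.1.obj.snd = Over.mk t := (π.w_obj _).symm.trans (congrArg Stk.EltObj.base e3)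
      exact ⟨e4, (K746.fibSec_eq_iff π _ _).2 e3⟩
    obtain ⟨hx, hx'⟩ := key x
    obtain ⟨hy, hy'⟩ := key y
    obtain ⟨e⟩ := h2 ⟨_, hx⟩ ⟨_, hy⟩ (by rw [hx', hy', hxy])
    obtain ⟨φ, hφ⟩ := K746.exists_vert_of_fiberIso e
    have e5 : x.1.obj.fst = y.1.obj.fst := by
      have e2 := (K746.fibSec_eq_iff (FibCat.fpFst (AlgSt.ofSpMap g) π) x _).1 rfl
      have e3 := (K746.fibSec_eq_iff (FibCat.fpFst (AlgSt.ofSpMap g) π) y _).1 rfl
      rw [hxy] at e2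
      exact e2.trans e3.symm
    refine K746.nonempty_fiberIso hfib (K734.Fib.mkHomFp (F := AlgSt.ofSpMap g) (G := π) (eqToHom e5) φ ?_) ?_
    · have h3 : K734.Fib.IsVert (AlgSt.ofSp M) ((AlgSt.ofSpMap g).map (eqToHom e5) ≫ y.1.obj.iso.hom) :=
        ((K734.Fib.IsVert.eqToHom e5).map (AlgSt.ofSpMap g)).comp (K734.Fib.iso_vert y.1)
      have h4 : K734.Fib.IsVert (AlgSt.ofSp M) (x.1.obj.iso.hom ≫ π.map φ) := (K734.Fib.iso_vert x.1).comp (hφ.map π)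
      obtain ⟨_, h5⟩ := K734.Fib.isVert_iff.1 h3
      obtain ⟨_, h6⟩ := K734.Fib.isVert_iff.1 h4
      exact Stk.EltObj.hom_ext (h5.trans h6.symm)
    · exact K734.Fib.vert_fp_iff_snd.2 hφ

end K736.ModIso
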