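import Groth.Agent.AlgSt.K736.Faithful
/-!
# Monomorphisms of algebraic stacks (helper736)
-/

set_option autoImplicit false
set_option backward.isDefEq.respectTransparency false
set_option backward.isDefEq.respectTransparency.types false

universe v₄ u₄ v₃ u₃ v₂ u₂ v u

open CategoryTheory CategoryTheory.Limits AlgebraicGeometry Opposite K736.Fib K736.Rep K736.Cover AlgSp

namespace K736.Mono

variable {S : Scheme.{u}}

theorem mono_of_sections {F G : Sp S} {f : F ⟶ G}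
    (h : ∀ (T : Over S) (s s' : F.obj.obj (op T)), f.hom.app (op T) s = f.hom.app (op T) s' → s = s') : CategoryTheory.Mono f := by
  have h1 : ∀ T, CategoryTheory.Mono (f.hom.app T) := fun T => by
    rw [mono_iff_injective]
    exact fun s s' hs => h T.unop s s' hs
  have h2 : CategoryTheory.Mono ((sheafToPresheaf (AlgSp.J S) (Type (u + 1))).map f) := by
    have : ∀ T, CategoryTheory.Mono (((sheafToPresheaf (AlgSp.J S) (Type (u + 1))).map f).app T) := h1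
    exact NatTrans.mono_of_mono_app _
  exact (sheafToPresheaf (AlgSp.J S) (Type (u + 1))).mono_of_mono_map h2

section General

variable {C : Type u} [Category.{v} C]
variable {𝒳 : BasedCategory.{v₂, u₂} C} {𝒴 : BasedCategory.{v₃, u₃} C}

/-- The base change of a full functor is injective on sections. -/
theorem injective_of_full {V Z : Cᵒᵖ ⥤ Type v₄} {z : Stk.ofPsh Z ⥤ᵇ 𝒴} {f : 𝒳 ⥤ᵇ 𝒴} {a : V ⟶ Z} (h : IsBC z f a)
    [f.toFunctor.Full] {T : C} {s s' : V.obj (op T)} (hs : a.app (op T) s = a.app (op T) s') : s = s' := by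
  obtain ⟨v, α, h⟩ := h
  rw [isTwoCartOver_iff] at h
  obtain ⟨h1, -⟩ := h
  -- the isomorphism `(T, a s) ⟶ (T, a s')`
  let g : (Stk.ofPshMap a).obj ⟨T, s⟩ ⟶ (Stk.ofPshMap a).obj ⟨T, s'⟩ := (eltIso hs).hom
  obtain ⟨φ, hφ⟩ := f.toFunctor.map_surjective
    (α.inv.toNatTrans.app ⟨T, s⟩ ≫ z.map g ≫ α.hom.toNatTrans.app ⟨T, s'⟩)
  obtain ⟨k, ⟨hk, -⟩, -⟩ := h1 ⟨T, s⟩ ⟨T, s'⟩ g φ (by
    have hφ' : f.map φ = α.inv.toNatTrans.app ⟨T, s⟩ ≫ z.map g ≫ α.hom.toNatTrans.app ⟨T, s'⟩ := hφ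
    rw [hφ', hom_inv_app_assoc])
  have hk' : k.hom = 𝟙 T := congrArg Stk.EltObj.Hom.hom hk
  exact elt_sec_eq_of_hom k hk'

end General

variable {𝒳 𝒴 : AlgSt.Cat S}

theorem isMono_of_full {𝒳 : BasedCategory.{v₂, u₂} (Over S)} {𝒴 : BasedCategory.{v₃, u₃} (Over S)} {f : 𝒳 ⥤ᵇ 𝒴} (hf : AlgSt.RepByAlgSp1 f) [f.toFunctor.Full] : AlgSt.IsMono f :=
  algRepWith_of_forall hf fun _ _ _ _ h => mono_of_sections fun _ _ _ hs => injective_of_full h hs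

/-- S12840. -/
theorem s12840 (h𝒳 : AlgSt.IsAlgStack Scheme.fppfPrecoverage 𝒳) (h𝒴 : AlgSt.IsAlgStack Scheme.fppfPrecoverage 𝒴)
    (f : 𝒳 ⥤ᵇ 𝒴) [f.toFunctor.Full] [f.toFunctor.Faithful] : AlgSt.IsMono f :=
  isMono_of_full ((Groth.Agent.S12762.result h𝒳 h𝒴 f).1 inferInstance)

/-- S12841. -/
theorem s12841 (h𝒳 : AlgSt.IsAlgStack Scheme.fppfPrecoverage 𝒳) (h𝒴 : AlgSt.IsAlgStack Scheme.fppfPrecoverage 𝒴)
    (f : 𝒳 ⥤ᵇ 𝒴) (W : AlgSp.Space S) (w : AlgSt.ofSp W.obj ⥤ᵇ 𝒴)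
    (hw₁ : AlgSt.RepByAlgSpWith (AlgSp.LocP @Flat) w)
    (hw₂ : AlgSt.RepByAlgSpWith (AlgSp.LocP @LocallyOfFinitePresentation) w)
    (hw₃ : AlgSt.RepByAlgSpWith AlgSp.IsSurjectiveMor w) :
    AlgSt.IsMono f ↔
      ∃ (V : AlgSp.Space S) (a : V ⟶ W) (e : AlgSt.ofSp V.obj ⥤ᵇ FibCat.fp w f),
        FibCat.IsEquivOver e ∧
          Nonempty (BasedFunctor.comp e (FibCat.fpFst w f) ≅ AlgSt.ofSpMap a.hom) ∧ CategoryTheory.Mono a.hom := by
  constructor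
  · intro h
    exact (Props.s12844 h𝒳.isStack.1 h𝒴.isStack.1 stabBC_mono isLocalOnBase_mono (K735.Rep.repByAlgSp1_of_with h) W w
      hw₁ hw₂ hw₃).1 h
  · intro h
    obtain ⟨V, a, e, he, -, -⟩ := id h
    have hf := Faithful.s12842 h𝒳 h𝒴 f w hw₁ hw₂ hw₃ ⟨V, e, he⟩
    exact (Props.s12844 h𝒳.isStack.1 h𝒴.isStack.1 stabBC_mono isLocalOnBase_mono hf W w
      hw₁ hw₂ hw₃).2 h

end K736.Mono
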