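import Groth.Agent.AlgSt.K736.Props
/-!
# Fibre products of two maps from algebraic spaces to a stack; composition (helper736)
-/

set_option autoImplicit false
set_option backward.isDefEq.respectTransparency false
set_option backward.isDefEq.respectTransparency.types false

universe v₄ u₄ v₃ u₃ v₂ u₂ v u

open CategoryTheory CategoryTheory.Limits AlgebraicGeometry Opposite K736.Fib K736.Rep K736.Cover K736.Props AlgSp

namespace K736.Prod

variable {S : Scheme.{u}}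

theorem stabBC_locP {P : MorphismProperty Scheme.{u}} (hP : K597.EtLoc P) [P.IsStableUnderBaseChange] :
    StabBC (S := S) (LocP P) := fun _ _ _ _ h1 h2 _ h4 _ _ _ _ sq h =>
  K597.locP_bc hP sq h1.hasAtlas h2.hasAtlas h4.hasAtlas h

theorem stabBC_surj : StabBC (S := S) IsSurjectiveMor := fun _ _ _ _ _ _ _ _ _ _ _ _ sq h =>
  K609.Points.surjective_map_of_isPullback sq.flip h

section

variable {𝒳 : BasedCategory.{v₂, u₂} (Over S)} {𝒴 : BasedCategory.{v₃, u₃} (Over S)} {𝒳' : BasedCategory.{v₄, u₄} (Over S)}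

theorem algRep_comp_equiv_iff {P : MorphismProperty (Sp S)} {K : 𝒳' ⥤ᵇ 𝒳} (hK : FibCat.IsEquivOver K) {f : 𝒳 ⥤ᵇ 𝒴} :
    AlgSt.RepByAlgSpWith P (BasedFunctor.comp K f) ↔ AlgSt.RepByAlgSpWith P f := by
  rw [algRepWith_iff, algRepWith_iff]
  exact forall₂_congr fun U y => exists₂_congr fun V a => and_congr_left fun _ => isBC_comp_equiv_iff hK

theorem algRep1_comp_equiv_iff {K : 𝒳' ⥤ᵇ 𝒳} (hK : FibCat.IsEquivOver K) {f : 𝒳 ⥤ᵇ 𝒴} :
    AlgSt.RepByAlgSp1 (BasedFunctor.comp K f) ↔ AlgSt.RepByAlgSp1 f := by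
  rw [K735.Rep.repByAlgSp1_iff_top, K735.Rep.repByAlgSp1_iff_top]
  exact algRep_comp_equiv_iff hK

/-- Pullback squares of sheaves give base changes. -/
theorem isBC_of_isPullback {V Z Z' V' : Sp S} {a : V ⟶ Z} {c : Z' ⟶ Z} {p : V' ⟶ V} {q : V' ⟶ Z'} (sq : IsPullback p q a c) :
    IsBC (AlgSt.ofSpMap c) (AlgSt.ofSpMap a) q.hom :=
  ⟨AlgSt.ofSpMap p, sqIso (isPullback_hom_iff.2 sq).w.symm, (isTwoCartOver_ofPsh_iff _).2 (isPullback_hom_iff.2 sq).flip⟩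

/-- Every map of sheaves is the base change of itself. -/
theorem isBC_self {V Z : Sp S} (a : V ⟶ Z) : IsBC (BasedFunctor.id _) (AlgSt.ofSpMap a) a.hom :=
  isBC_of_isPullback (c := 𝟙 Z) (p := 𝟙 V) (IsPullback.of_horiz_isIso ⟨by simp⟩)

theorem exists_isPullback_of_isBC {V Z Z' V' : Sp S} {a : V ⟶ Z} {c : Z' ⟶ Z} {q : V' ⟶ Z'}
    (h : IsBC (AlgSt.ofSpMap c) (AlgSt.ofSpMap a) q.hom) : ∃ p : V' ⟶ V, IsPullback p q a c :=
  Rep.exists_isPullback (isBC_self a) h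

/-- A map of algebraic spaces with `P` gives a 1-morphism with `P`. -/
theorem algRepWith_ofSpMap {P : MorphismProperty (Sp S)} (hP : StabBC P) {F G : Sp S} (hF : IsAlgSpace F)
    (hG : IsAlgSpace G) {a : F ⟶ G} (ha : P a) : AlgSt.RepByAlgSpWith P (AlgSt.ofSpMap a) := by
  rw [algRepWith_iff]
  intro U y
  let c : (yon S).obj U ⟶ G := ObjectProperty.homMk (secMap y)
  have hU := IsAlgSpace.yon_obj U
  have hV := K613.Chart.isAlgSpace_pullback hF hU hG a c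
  exact ⟨⟨pullback a c, hV⟩, pullback.snd a c,
    (isBC_of_isPullback (IsPullback.of_hasPullback a c)).congr_left (isoSecMap y).symm,
    hP hF hG hV hU a c _ _ (IsPullback.of_hasPullback a c) ha⟩

/-- Composition with a map of algebraic spaces. -/
theorem algRepWith_comp_ofSpMap {P : MorphismProperty (Sp S)} (hP : StabBC P)
    (hPc : ∀ ⦃X Y Z : AlgSp.Sp S⦄, AlgSp.IsAlgSpace X → AlgSp.IsAlgSpace Y → AlgSp.IsAlgSpace Z →
      ∀ (a : X ⟶ Y) (b : Y ⟶ Z), P a → P b → P (a ≫ b)) {Z Z' : Sp S} (hZ : IsAlgSpace Z) (hZ' : IsAlgSpace Z')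
    {z : AlgSt.ofSp Z ⥤ᵇ 𝒳} (hz : AlgSt.RepByAlgSpWith P z) {b : Z' ⟶ Z} (hb : P b) :
    AlgSt.RepByAlgSpWith P (BasedFunctor.comp (AlgSt.ofSpMap b) z) := by
  rw [algRepWith_iff]
  intro U y
  obtain ⟨V, a, ⟨v, α, h⟩, ha⟩ := (algRepWith_iff _ _).1 hz U y
  let c : V.obj ⟶ Z := ObjectProperty.homMk (secMap v)
  have hV' := K613.Chart.isAlgSpace_pullback hZ' V.property hZ b c
  have h1 : IsBC v (AlgSt.ofSpMap b) (pullback.snd b c).hom :=
    (isBC_of_isPullback (IsPullback.of_hasPullback b c)).congr_left (isoSecMap v).symm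
  refine ⟨⟨_, hV'⟩, pullback.snd b c ≫ a, IsBC.comp h h1, ?_⟩
  exact hPc hV' V.property (IsAlgSpace.yon_obj U) _ _ (hP hZ' hZ hV' V.property b c _ _ (IsPullback.of_hasPullback b c) hb) ha

end

section Cat

variable {𝒳 𝒴 𝒵 : AlgSt.Cat S}

/-- The fibre product of two maps `z`, `z'` from algebraic spaces to a stack. -/
theorem exists_prod (h𝒳 : FibCat.IsFibGrpd 𝒳.p) {Z Z' : Sp S} (hZ : IsAlgSpace Z) (z : AlgSt.ofSp Z ⥤ᵇ 𝒳)
    (z' : AlgSt.ofSp Z' ⥤ᵇ 𝒳) (hz' : AlgSt.RepByAlgSp1 z') :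
    ∃ (W : Sp S) (a : W ⟶ Z) (b : W ⟶ Z'), IsAlgSpace W ∧ IsBC z z' a.hom ∧ IsBC z' z b.hom ∧
      Nonempty (BasedFunctor.comp (AlgSt.ofSpMap a) z ≅ BasedFunctor.comp (AlgSt.ofSpMap b) z') := by
  obtain ⟨W, a, v, α, h⟩ := exists_space (Stk.isFibGrpd_ofPsh Z'.obj) h𝒳 hz' hZ z
  let b : W.obj ⟶ Z' := ObjectProperty.homMk (secMap v)
  let β : v ≅ AlgSt.ofSpMap b := isoSecMap v
  let e := α.trans (isoWhiskerRight β z')
  have h1 : FibCat.IsTwoCartOver (AlgSt.ofSpMap a) (AlgSt.ofSpMap b) e := by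
    refine isTwoCartOver_of_iso (Iso.refl _) β (fun w => ?_) h
    change z.map (𝟙 _) ≫ α.hom.toNatTrans.app w ≫ z'.map (β.hom.toNatTrans.app w) = _
    have h3 : z.map (𝟙 ((AlgSt.ofSpMap a).obj w)) = 𝟙 _ := z.toFunctor.map_id _
    erw [h3]
    exact Category.id_comp _
  exact ⟨W.obj, a, b, W.property, ⟨_, e, h1⟩, ⟨_, _, isTwoCartOver_symm h1⟩, ⟨e⟩⟩

end Cat

end K736.Prod
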