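import Groth.Agent.AlgSt.K736.Fam
import Groth.Agent.S12766
import Groth.Agent.S12781
/-!
# Properties of representable 1-morphisms: base changes to algebraic spaces and flat covers (helper736)
-/

set_option autoImplicit false
set_option backward.isDefEq.respectTransparency false
set_option backward.isDefEq.respectTransparency.types false

universe u

open CategoryTheory CategoryTheory.Limits AlgebraicGeometry Opposite K736.Fib K736.Rep K736.Cover AlgSp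

namespace K736.Props

variable {S : Scheme.{u}} {𝒳 𝒴 : AlgSt.Cat S}

/-- Base changes of a representable 1-morphism to algebraic spaces. -/
theorem exists_space {f : 𝒳 ⥤ᵇ 𝒴} (h𝒳 : FibCat.IsFibGrpd 𝒳.p) (h𝒴 : FibCat.IsFibGrpd 𝒴.p) (hf : AlgSt.RepByAlgSp1 f)
    {Z : Sp S} (hZ : IsAlgSpace Z) (z : AlgSt.ofSp Z ⥤ᵇ 𝒴) : ∃ (V : Space S) (a : V.obj ⟶ Z), IsBC z f a.hom := by
  obtain ⟨V, e, he⟩ := Groth.Agent.S12766.result h𝒳 h𝒴 (Stk.isFibGrpd_ofPsh Z.obj) f z hf ⟨⟨Z, hZ⟩, BasedFunctor.id _, isEquivOver_id _⟩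
  refine ⟨V, ObjectProperty.homMk (secMap (BasedFunctor.comp e (FibCat.fpFst z f))), ?_⟩
  exact isBC_iff.2 ⟨e, he, ⟨isoSecMap _⟩⟩

theorem isAlgSpace_of_isBC {f : 𝒳 ⥤ᵇ 𝒴} (h𝒳 : FibCat.IsFibGrpd 𝒳.p) (h𝒴 : FibCat.IsFibGrpd 𝒴.p) (hf : AlgSt.RepByAlgSp1 f)
    {Z V : Sp S} (hZ : IsAlgSpace Z) {z : AlgSt.ofSp Z ⥤ᵇ 𝒴} {a : V ⟶ Z} (h : IsBC z f a.hom) : IsAlgSpace V := by
  obtain ⟨V', a', h'⟩ := exists_space h𝒳 h𝒴 hf hZ z
  obtain ⟨i, -⟩ := Rep.exists_iso h h'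
  exact V'.property.of_iso i.symm

/-- `P` descends along surjective étale scheme charts of the base. -/
def ChLoc (P : MorphismProperty (Sp S)) : Prop :=
  ∀ ⦃X Y X' : Sp S⦄ ⦃U : Over S⦄ (p : (yon S).obj U ⟶ Y), K613.Chart.Ch p → ∀ (f : X ⟶ Y) (f' : X' ⟶ (yon S).obj U)
    (q : X' ⟶ X), IsPullback q f' f p → IsAlgSpace X → IsAlgSpace Y → P f' → P f

theorem chLoc_of_isLocalOnBase {P : MorphismProperty (Sp S)} (hP : IsLocalOnBase IsFppfCover P) : ChLoc P :=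
  fun _ _ _ U _ hp _ _ _ sq hX hY h => (prop_iff_of_ffs hP sq (ffs_of_ch hp) hX hY (IsAlgSpace.yon_obj U)).2 h

theorem chLoc_locP {P : MorphismProperty Scheme.{u}} (hP : K597.EtLoc P) : ChLoc (S := S) (LocP P) :=
  fun _ _ _ U _ hp _ _ _ sq hX _ h => K597.locP_of_target hP sq hX.hasAtlas (IsAlgSpace.yon_obj U).hasAtlas hp.et hp.surj h

theorem chLoc_surj : ChLoc (S := S) IsSurjectiveMor := by
  intro X Y X' U p hp f f' q sq hX hY h y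
  obtain ⟨u, rfl⟩ := K609.Points.surjective_map_of_repWith_surjective hp.surj y
  obtain ⟨x', rfl⟩ := h u
  exact ⟨Points.map q x', by rw [← Points.map_comp, ← Points.map_comp, sq.w]⟩

/-- Base changes to algebraic spaces have `P`. -/
theorem prop_space {f : 𝒳 ⥤ᵇ 𝒴} (h𝒳 : FibCat.IsFibGrpd 𝒳.p) (h𝒴 : FibCat.IsFibGrpd 𝒴.p) {P : MorphismProperty (Sp S)}
    (hPb : IsoInv P) (hP : ChLoc P)
    (hf : AlgSt.RepByAlgSpWith P f)
    {Z V : Sp S} (hZ : IsAlgSpace Z) {z : AlgSt.ofSp Z ⥤ᵇ 𝒴} {a : V ⟶ Z} (h : IsBC z f a.hom) : P a := by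
  have hf1 := K735.Rep.repByAlgSp1_of_with hf
  have hV := isAlgSpace_of_isBC h𝒳 h𝒴 hf1 hZ h
  obtain ⟨U, p, hp⟩ := K613.Chart.exists_ch hZ
  have sq := IsPullback.of_hasPullback a p
  exact hP p hp a _ _ sq hV hZ (prop_of_isBC hPb hf (Rep.of_isPullback h sq)).2

/-- If the base change of `f` to the algebraic space `Z` is named by `a` with `P`, then `fpFst z f` has `P`. -/
theorem repWith_fpFst {f : 𝒳 ⥤ᵇ 𝒴} {P : MorphismProperty (Sp S)} (hPb : StabBC P) {Z V : Sp S} (hZ : IsAlgSpace Z)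
    (hV : IsAlgSpace V) {z : AlgSt.ofSp Z ⥤ᵇ 𝒴} {a : V ⟶ Z} (h : IsBC z f a.hom) (ha : P a) :
    AlgSt.RepByAlgSpWith P (FibCat.fpFst z f) := by
  rw [algRepWith_iff]
  intro U y
  have hU := IsAlgSpace.yon_obj U
  let c : (yon S).obj U ⟶ Z := ObjectProperty.homMk (secMap y)
  have hV' : IsAlgSpace (pullback a c) := K613.Chart.isAlgSpace_pullback hV hU hZ a c
  refine ⟨⟨pullback a c, hV'⟩, pullback.snd a c, ?_, ?_⟩
  · rw [isBC_fpFst_iff]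
    exact (Rep.of_isPullback h (IsPullback.of_hasPullback a c)).congr_left (isoWhiskerRight (isoSecMap y).symm z)
  · exact hPb hV hZ hV' hU a c _ _ (IsPullback.of_hasPullback a c) ha

/-- S12843. -/
theorem s12843 {𝒵 : AlgSt.Cat S} {f : 𝒳 ⥤ᵇ 𝒴} (h𝒳 : FibCat.IsFibGrpd 𝒳.p) (h𝒴 : FibCat.IsFibGrpd 𝒴.p)
    (h𝒵 : FibCat.IsFibGrpd 𝒵.p) {P : MorphismProperty (Sp S)}
    (hPb : StabBC P) (hP : IsLocalOnBase IsFppfCover P) (hf : AlgSt.RepByAlgSp1 f) (z : 𝒵 ⥤ᵇ 𝒴)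
    (hz₁ : AlgSt.RepByAlgSpWith (AlgSp.LocP @Flat) z)
    (hz₂ : AlgSt.RepByAlgSpWith (AlgSp.LocP @LocallyOfFinitePresentation) z)
    (hz₃ : AlgSt.RepByAlgSpWith AlgSp.IsSurjectiveMor z)
    (h : AlgSt.RepByAlgSpWith P (FibCat.fpFst z f)) : AlgSt.RepByAlgSpWith P f :=
  Groth.Agent.S12781.result h𝒳 h𝒴 h𝒵 P hPb hP f hf z (locEssSurj_sieve hz₁ hz₂ hz₃) h

/-- S12844. -/
theorem s12844 {f : 𝒳 ⥤ᵇ 𝒴} (h𝒳 : FibCat.IsFibGrpd 𝒳.p) (h𝒴 : FibCat.IsFibGrpd 𝒴.p)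
    {P : MorphismProperty (Sp S)}
    (hPb : StabBC P) (hP : IsLocalOnBase IsFppfCover P) (hf : AlgSt.RepByAlgSp1 f) (W : AlgSp.Space S) (w : AlgSt.ofSp W.obj ⥤ᵇ 𝒴)
    (hw₁ : AlgSt.RepByAlgSpWith (AlgSp.LocP @Flat) w)
    (hw₂ : AlgSt.RepByAlgSpWith (AlgSp.LocP @LocallyOfFinitePresentation) w)
    (hw₃ : AlgSt.RepByAlgSpWith AlgSp.IsSurjectiveMor w) :
    AlgSt.RepByAlgSpWith P f ↔
      ∃ (V : AlgSp.Space S) (a : V ⟶ W) (e : AlgSt.ofSp V.obj ⥤ᵇ FibCat.fp w f),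
        FibCat.IsEquivOver e ∧
          Nonempty (BasedFunctor.comp e (FibCat.fpFst w f) ≅ AlgSt.ofSpMap a.hom) ∧ P a.hom := by
  constructor
  · intro h
    obtain ⟨V, a, ha⟩ := exists_space h𝒳 h𝒴 hf W.property w
    have hPa := prop_space h𝒳 h𝒴 hPb.isoInv (chLoc_of_isLocalOnBase hP) h W.property ha
    obtain ⟨e, he, hi⟩ := isBC_iff.1 ha
    exact ⟨V, ObjectProperty.homMk a, e, he, hi, hPa⟩
  · rintro ⟨V, a, e, he, hi, hPa⟩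
    have h1 : IsBC w f a.hom.hom := isBC_iff.2 ⟨e, he, hi⟩
    exact s12843 h𝒳 h𝒴 (Stk.isFibGrpd_ofPsh W.obj.obj) hPb hP hf w hw₁ hw₂ hw₃
      (repWith_fpFst hPb W.property V.property h1 hPa)

/-- S12845. -/
theorem s12845 {f : 𝒳 ⥤ᵇ 𝒴} (h𝒳 : FibCat.IsFibGrpd 𝒳.p) (h𝒴 : FibCat.IsFibGrpd 𝒴.p)
    {P : MorphismProperty (Sp S)}
    (hPb : StabBC P) (hP : IsLocalOnBase IsFppfCover P) (hf : AlgSt.RepByAlgSp1 f) :
    AlgSt.RepByAlgSpWith P f ↔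
      ∀ (Z : AlgSp.Space S) (z : AlgSt.ofSp Z.obj ⥤ᵇ 𝒴),
        ∃ (V : AlgSp.Space S) (a : V ⟶ Z) (e : AlgSt.ofSp V.obj ⥤ᵇ FibCat.fp z f),
          FibCat.IsEquivOver e ∧
            Nonempty (BasedFunctor.comp e (FibCat.fpFst z f) ≅ AlgSt.ofSpMap a.hom) ∧ P a.hom := by
  constructor
  · intro h Z z
    obtain ⟨V, a, ha⟩ := exists_space h𝒳 h𝒴 hf Z.property z
    have hPa := prop_space h𝒳 h𝒴 hPb.isoInv (chLoc_of_isLocalOnBase hP) h Z.property ha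
    obtain ⟨e, he, hi⟩ := isBC_iff.1 ha
    exact ⟨V, ObjectProperty.homMk a, e, he, hi, hPa⟩
  · intro h
    rw [algRepWith_iff]
    intro U y
    obtain ⟨V, a, e, he, hi, hPa⟩ := h ⟨(yon S).obj U, IsAlgSpace.yon_obj U⟩ y
    exact ⟨V, a.hom, isBC_iff.2 ⟨e, he, hi⟩, hPa⟩

end K736.Props
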