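import Groth.Agent.AlgSt.K736.Fib
import Groth.Agent.AlgSt.K735.Pts
/-!
# Full 1-morphisms are injective on points (helper736)
-/

set_option autoImplicit false
set_option backward.isDefEq.respectTransparency false
set_option backward.isDefEq.respectTransparency.types false

universe v₄ u₄ v₃ u₃ v₂ u₂ v u

open CategoryTheory CategoryTheory.Limits AlgebraicGeometry Opposite K736.Fib AlgSt

namespace K736.PtsInj

variable {S : Scheme.{u}} {𝒳 : BasedCategory.{v₂, u₂} (Over S)} {𝒴 : BasedCategory.{v₃, u₃} (Over S)}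

theorem exists_restrict (h𝒳 : FibCat.IsFibGrpd 𝒳.p) (h𝒴 : FibCat.IsFibGrpd 𝒴.p) (f : 𝒳 ⥤ᵇ 𝒴) {x : 𝒳.obj} {y : 𝒴.obj}
    (a : y ⟶ f.obj x) : ∃ (z : 𝒳.obj) (_ : z ⟶ x) (_ : 𝒳.p.obj z = 𝒴.p.obj y) (_ : f.obj z ⟶ y) (_ : y ⟶ f.obj z), True := by
  obtain ⟨z, φ, hz, hφ⟩ := exists_pull h𝒳 (x := x) (𝒴.p.map a ≫ eqToHom (f.w_obj x))
  have h1 : eqToHom ((f.w_obj z).trans hz) ≫ 𝒴.p.map a = 𝒴.p.map (f.map φ) := by
    rw [p_map, hφ]; simp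
  have h2 : 𝒴.p.map (lift h𝒴 a (f.map φ) _ h1) = _ := map_lift h𝒴 _ _ _ h1
  have : IsIso (𝒴.p.map (lift h𝒴 a (f.map φ) _ h1)) := by rw [h2]; infer_instance
  have : IsIso (lift h𝒴 a (f.map φ) _ h1) := isIso_of_isIso_map h𝒴 _
  exact ⟨z, φ, hz, lift h𝒴 a (f.map φ) _ h1, inv (lift h𝒴 a (f.map φ) _ h1), trivial⟩

/-- A full 1-morphism is injective on points. -/
theorem injective_map_of_full (h𝒳 : FibCat.IsFibGrpd 𝒳.p) (h𝒴 : FibCat.IsFibGrpd 𝒴.p) (f : 𝒳 ⥤ᵇ 𝒴) [f.toFunctor.Full] :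
    Function.Injective (Points.map f) := by
  intro x x' h
  obtain ⟨p, rfl⟩ := Points.mk_surjective x
  obtain ⟨q, rfl⟩ := Points.mk_surjective x'
  rw [Points.map_mk, Points.map_mk, K735.Pts.mk_eq_mk_iff h𝒴] at h
  obtain ⟨r, a, b, -⟩ := h
  obtain ⟨z, φ, hz, χ, -, -⟩ := exists_restrict h𝒳 h𝒴 f a
  obtain ⟨z', φ', -, -, χ', -⟩ := exists_restrict h𝒳 h𝒴 f b
  obtain ⟨ψ, -⟩ := f.toFunctor.map_surjective (χ ≫ χ')
  exact Points.sound ⟨⟨r.K, r.str, z, hz.trans r.lies⟩, φ, ψ ≫ φ', trivial⟩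

end K736.PtsInj
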