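import Groth.Prelude.Def_AlgSt5
/-!
# Points calculus for actions and the canonical functor `X ⟶ [X/G]` (helper736)
-/

set_option autoImplicit false
set_option backward.isDefEq.respectTransparency false
set_option backward.isDefEq.respectTransparency.types false

universe u

open CategoryTheory CategoryTheory.Limits MonoidalCategory CartesianMonoidalCategory MonObj GrpObj AlgebraicGeometry

namespace K736.QuotTriv

variable {S : Scheme.{u}} {G : Over S} [GrpObj G] {X : Over S}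

theorem lift_mul_act (aX : AlgGrp.Action G X) {T : Over S} (g h : T ⟶ G) (x : T ⟶ X) :
    lift (g * h) x ≫ aX.act = lift g (lift h x ≫ aX.act) ≫ aX.act := by
  have h1 : lift (lift g h) x ≫ (μ[G] ▷ X) ≫ aX.act =
      lift (lift g h) x ≫ (α_ G G X).hom ≫ (G ◁ aX.act) ≫ aX.act := by rw [aX.mul_act]
  have h2 : lift (lift g h) x ≫ (μ[G] ▷ X) = lift (g * h) x := by
    apply CartesianMonoidalCategory.hom_ext
    · simp [Hom.mul_def]
    · simp
  have h3 : lift (lift g h) x ≫ (α_ G G X).hom ≫ (G ◁ aX.act) = lift g (lift h x ≫ aX.act) := by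
    apply CartesianMonoidalCategory.hom_ext
    · simp
    · simp only [Category.assoc, whiskerLeft_snd, lift_snd]
      have : lift (lift g h) x ≫ (α_ G G X).hom ≫ snd G (G ⊗ X) = lift h x := by
        apply CartesianMonoidalCategory.hom_ext <;> simp
      rw [reassoc_of% this]
  rw [← Category.assoc, h2] at h1
  rw [h1, ← Category.assoc, ← Category.assoc, Category.assoc _ (α_ G G X).hom, h3]

theorem lift_one_act (aX : AlgGrp.Action G X) {T : Over S} (x : T ⟶ X) :
    lift (1 : T ⟶ G) x ≫ aX.act = x := by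
  have h1 : lift (toUnit T) x ≫ (η[G] ▷ X) ≫ aX.act = lift (toUnit T) x ≫ (λ_ X).hom := by rw [aX.one_act]
  have h2 : lift (toUnit T) x ≫ (η[G] ▷ X) = lift (1 : T ⟶ G) x := by
    apply CartesianMonoidalCategory.hom_ext
    · simp [Hom.one_def]
    · simp
  rw [← Category.assoc, h2] at h1
  rw [h1]
  simp [leftUnitor_hom]

theorem leftMul_act_pt {T T' : Over S} (g : T' ⟶ G) (h : T' ⟶ G) (t : T' ⟶ T) :
    lift g (lift h t) ≫ (AlgSt.leftMul G T).act = lift (g * h) t := by
  apply CartesianMonoidalCategory.hom_ext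
  · simp [AlgSt.leftMul, comp_mul]
  · simp [AlgSt.leftMul]

/-- The map `(h, t) ↦ (h · g(t), f t)`. -/
noncomputable def rmul {T T' : Over S} (g : T ⟶ G) (f : T ⟶ T') : G ⊗ T ⟶ G ⊗ T' :=
  lift (fst G T * (snd G T ≫ g)) (snd G T ≫ f)

@[reassoc (attr := simp)]
theorem lift_rmul {T T' W : Over S} (g : T ⟶ G) (f : T ⟶ T') (h : W ⟶ G) (t : W ⟶ T) :
    lift h t ≫ rmul g f = lift (h * (t ≫ g)) (t ≫ f) := by
  apply CartesianMonoidalCategory.hom_ext <;> simp [rmul, comp_mul]

omit [GrpObj G] in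
theorem eq_lift_pt {T W : Over S} (a : W ⟶ G ⊗ T) : a = lift (a ≫ fst G T) (a ≫ snd G T) := by
  apply CartesianMonoidalCategory.hom_ext <;> simp

theorem isIso_rmul_id {T : Over S} (g : T ⟶ G) : IsIso (rmul g (𝟙 T)) := by
  refine ⟨rmul g⁻¹ (𝟙 T), ?_, ?_⟩
  · rw [eq_lift_pt (rmul g (𝟙 T) ≫ rmul g⁻¹ (𝟙 T))]
    apply CartesianMonoidalCategory.hom_ext <;> simp [rmul, comp_mul, comp_inv]
  · apply CartesianMonoidalCategory.hom_ext <;> simp [rmul, comp_mul, comp_inv]

theorem rmul_eq {T T' : Over S} (g : T ⟶ G) (f : T ⟶ T') : rmul g f = rmul g (𝟙 T) ≫ (G ◁ f) := by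
  apply CartesianMonoidalCategory.hom_ext <;> simp [rmul]

theorem isPullback_rmul {T T' : Over S} (g : T ⟶ G) (f : T ⟶ T') :
    IsPullback (rmul g f) (snd G T) (snd G T') f := by
  have := isIso_rmul_id g
  rw [rmul_eq]
  refine IsPullback.of_iso (AlgSt.isPullback_whiskerLeft (G := G) f) (asIso (rmul g (𝟙 T))).symm (Iso.refl _) (Iso.refl _)
    (Iso.refl _) ?_ ?_ ?_ ?_
  · simp
  · simp [rmul]
  · simp
  · simp

theorem exists_rightMul (aX : AlgGrp.Action G X) {T T' : Over S} (f : T ⟶ T') (x : T ⟶ X) (x' : T' ⟶ X)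
    (top : G ⊗ T ⟶ G ⊗ T') (hw : top ≫ snd G T' = snd G T ≫ f)
    (heq : (AlgSt.leftMul G T).act ≫ top = (G ◁ top) ≫ (AlgSt.leftMul G T').act)
    (hφ : top ≫ (G ◁ x') ≫ aX.act = (G ◁ x) ≫ aX.act) :
    ∃ g : T ⟶ G, lift g (f ≫ x') ≫ aX.act = x ∧ top = lift (fst G T * (snd G T ≫ g)) (snd G T ≫ f) := by
  -- the value at the unit section
  let u : T ⟶ G ⊗ T := lift (1 : T ⟶ G) (𝟙 T)
  have hu : u ≫ top = lift (u ≫ top ≫ fst G T') f := by
    apply CartesianMonoidalCategory.hom_ext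
    · simp
    · rw [Category.assoc, hw]; simp [u]
  refine ⟨u ≫ top ≫ fst G T', ?_, ?_⟩
  · have h1 : u ≫ top ≫ (G ◁ x') ≫ aX.act = u ≫ (G ◁ x) ≫ aX.act := by rw [hφ]
    have h2 : u ≫ (G ◁ x) = lift (1 : T ⟶ G) x := by
      apply CartesianMonoidalCategory.hom_ext <;> simp [u]
    have h3 : lift (u ≫ top ≫ fst G T') f ≫ (G ◁ x') = lift (u ≫ top ≫ fst G T') (f ≫ x') := by
      apply CartesianMonoidalCategory.hom_ext <;> simp
    rw [← Category.assoc u (G ◁ x), h2, lift_one_act] at h1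
    rw [← h3, ← hu]
    simp only [Category.assoc]
    exact h1
  · have key : ∀ (W : Over S) (a : W ⟶ G) (t : W ⟶ T), lift a t ≫ top =
        lift a t ≫ lift (fst G T * (snd G T ≫ u ≫ top ≫ fst G T')) (snd G T ≫ f) := fun W a t => by
      have h4 : lift a t = lift a (t ≫ u) ≫ (AlgSt.leftMul G T).act := by
        have : t ≫ u = lift (1 : W ⟶ G) t := by
          apply CartesianMonoidalCategory.hom_ext <;> simp [u, comp_one]
        rw [this, leftMul_act_pt, _root_.mul_one]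
      have h5 : lift a (t ≫ u) ≫ (G ◁ top) = lift a (lift (t ≫ u ≫ top ≫ fst G T') (t ≫ f)) := by
        apply CartesianMonoidalCategory.hom_ext
        · simp
        · simp only [Category.assoc, whiskerLeft_snd, lift_snd_assoc]
          rw [hu]
          apply CartesianMonoidalCategory.hom_ext <;> simp
      have h6 := lift_rmul (u ≫ top ≫ fst G T') f a t
      rw [rmul] at h6
      rw [h6]
      conv_lhs => rw [h4, Category.assoc, heq, ← Category.assoc, h5, leftMul_act_pt]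
    have := key (G ⊗ T) (fst G T) (snd G T)
    simpa using this

theorem rmul_eqv {T T' : Over S} (g : T ⟶ G) (f : T ⟶ T') :
    (AlgSt.leftMul G T).act ≫ rmul g f = (G ◁ rmul g f) ≫ (AlgSt.leftMul G T').act := by
  have key : ∀ (W : Over S) (a b : W ⟶ G) (t : W ⟶ T),
      lift a (lift b t) ≫ (AlgSt.leftMul G T).act ≫ rmul g f =
      lift a (lift b t) ≫ (G ◁ rmul g f) ≫ (AlgSt.leftMul G T').act := by
    intro W a b t
    have h1 : lift a (lift b t) ≫ (G ◁ rmul g f) = lift a (lift (b * (t ≫ g)) (t ≫ f)) := by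
      apply CartesianMonoidalCategory.hom_ext <;> simp
    rw [← Category.assoc, leftMul_act_pt, lift_rmul, ← Category.assoc, h1,
      leftMul_act_pt, _root_.mul_assoc]
  have := key _ (fst G (G ⊗ T)) (snd G (G ⊗ T) ≫ fst G T) (snd G (G ⊗ T) ≫ snd G T)
  have h2 : lift (fst G (G ⊗ T)) (lift (snd G (G ⊗ T) ≫ fst G T) (snd G (G ⊗ T) ≫ snd G T)) = 𝟙 _ := by
    apply CartesianMonoidalCategory.hom_ext
    · simp
    · apply CartesianMonoidalCategory.hom_ext <;> simp
  rw [h2, Category.id_comp, Category.id_comp] at this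
  exact this

theorem rmul_act (aX : AlgGrp.Action G X) {T T' : Over S} (f : T ⟶ T') (x : T ⟶ X) (x' : T' ⟶ X)
    (g : T ⟶ G) (hg : lift g (f ≫ x') ≫ aX.act = x) :
    rmul g f ≫ (G ◁ x') ≫ aX.act = (G ◁ x) ≫ aX.act := by
  have key : ∀ (W : Over S) (a : W ⟶ G) (t : W ⟶ T),
      lift a t ≫ rmul g f ≫ (G ◁ x') ≫ aX.act = lift a t ≫ (G ◁ x) ≫ aX.act := by
    intro W a t
    have h1 : lift a t ≫ (G ◁ x) = lift a (t ≫ x) := by
      apply CartesianMonoidalCategory.hom_ext <;> simp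
    have h2 : lift (a * (t ≫ g)) (t ≫ f) ≫ (G ◁ x') = lift (a * (t ≫ g)) (t ≫ f ≫ x') := by
      apply CartesianMonoidalCategory.hom_ext <;> simp
    have h3 : lift (t ≫ g) (t ≫ f ≫ x') = t ≫ lift g (f ≫ x') := by
      apply CartesianMonoidalCategory.hom_ext <;> simp
    rw [lift_rmul_assoc, ← Category.assoc, h2, lift_mul_act, h3, Category.assoc, hg,
      ← Category.assoc (lift a t), h1]
  have := key _ (fst G T) (snd G T)
  simpa using this

omit [GrpObj G] in
theorem hom_eq {T T' : Over S} (g g' : G ⊗ T ⟶ G ⊗ T') (h : ∀ (W : Over S) (a : W ⟶ G) (t : W ⟶ T),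
    lift a t ≫ g = lift a t ≫ g') : g = g' := by
  have := h (G ⊗ T) (fst G T) (snd G T)
  simpa using this

/-- The map `(g, t) ↦ g · s(t)` attached to a section `s` of a space with action. -/
theorem sect_eqv {P T : Over S} (aP : AlgGrp.Action G P) (s : T ⟶ P) :
    (AlgSt.leftMul G T).act ≫ (G ◁ s) ≫ aP.act = (G ◁ ((G ◁ s) ≫ aP.act)) ≫ aP.act := by
  have key : ∀ (W : Over S) (a b : W ⟶ G) (t : W ⟶ T),
      lift a (lift b t) ≫ (AlgSt.leftMul G T).act ≫ (G ◁ s) ≫ aP.act =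
      lift a (lift b t) ≫ (G ◁ ((G ◁ s) ≫ aP.act)) ≫ aP.act := by
    intro W a b t
    have h1 : lift (a * b) t ≫ (G ◁ s) = lift (a * b) (t ≫ s) := by
      apply CartesianMonoidalCategory.hom_ext <;> simp
    have h2 : lift b t ≫ (G ◁ s) = lift b (t ≫ s) := by
      apply CartesianMonoidalCategory.hom_ext <;> simp
    have h3 : lift a (lift b t) ≫ (G ◁ ((G ◁ s) ≫ aP.act)) = lift a (lift b (t ≫ s) ≫ aP.act) := by
      apply CartesianMonoidalCategory.hom_ext
      · simp
      · simp only [Category.assoc, whiskerLeft_snd, lift_snd_assoc, lift_snd]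
        rw [← Category.assoc, h2]
    rw [← Category.assoc, leftMul_act_pt, ← Category.assoc, h1, lift_mul_act, ← Category.assoc, h3]
  have := key _ (fst G (G ⊗ T)) (snd G (G ⊗ T) ≫ fst G T) (snd G (G ⊗ T) ≫ snd G T)
  have h2 : lift (fst G (G ⊗ T)) (lift (snd G (G ⊗ T) ≫ fst G T) (snd G (G ⊗ T) ≫ snd G T)) = 𝟙 _ := by
    apply CartesianMonoidalCategory.hom_ext
    · simp
    · apply CartesianMonoidalCategory.hom_ext <;> simp
  rw [h2, Category.id_comp, Category.id_comp] at this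
  exact this

/-- A section `s` of the torsor of an object `A` of `[X/G]` over `f : T ⟶ A.base` gives a morphism from the trivial object. -/
theorem exists_hom_of_sect {K : Precoverage Scheme.{u}} [K.HasIsos] {aX : AlgGrp.Action G X} (A : AlgSt.QuotObj K G aX)
    {T : Over S} (s : T ⟶ A.P) (f : T ⟶ A.base) (hs : s ≫ A.π = f) :
    ∃ (x : T ⟶ X) (h : (AlgSt.quotMap K G aX).obj ((AlgSt.ofOverCat X).obj (Over.mk x)) ⟶ A), h.base = f := by
  subst hs
  refine ⟨s ≫ A.φ, { base := s ≫ A.π, top := (G ◁ s) ≫ A.act.act, eqv := sect_eqv A.act s, cart := ?_, wφ := ?_ }, rfl⟩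
  · exact (AlgSt.isPullback_whiskerLeft (G := G) s).paste_horiz A.cart
  · change ((G ◁ s) ≫ A.act.act) ≫ A.φ = (G ◁ (s ≫ A.φ)) ≫ aX.act
    rw [Category.assoc, A.eqv, MonoidalCategory.whiskerLeft_comp, Category.assoc]

end K736.QuotTriv
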