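import Groth.Agent.AlgSt.K736.Prod
/-!
# Properties of schemes local for the smooth topology and algebraic stacks (helper736)
-/

set_option autoImplicit false
set_option backward.isDefEq.respectTransparency false
set_option backward.isDefEq.respectTransparency.types false

universe v₄ u₄ v₃ u₃ v₂ u₂ v u

open CategoryTheory CategoryTheory.Limits AlgebraicGeometry Opposite K736.Fib K736.Rep K736.Cover K736.Props K736.Prod AlgSp

namespace K736.Smooth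

variable {S : Scheme.{u}}

/-- `P` is local for the smooth topology. -/
def SmLoc (P : Scheme.{u} → Prop) : Prop :=
  ∀ (U : Scheme.{u}) (R : Presieve U), R ∈ Scheme.precoverage @Smooth U →
      (P U ↔ ∀ ⦃V : Scheme.{u}⦄ (g : V ⟶ U), R g → P V)

variable {P : Scheme.{u} → Prop}

theorem SmLoc.of_surj (hP : SmLoc P) {U V : Scheme.{u}} (g : V ⟶ U) (hg : Smooth g) (hs : Surjective g) (h : P V) : P U := by
  refine (hP U (Presieve.singleton g) ((Scheme.singleton_mem_precoverage_iff @AlgebraicGeometry.Smooth g).2 ⟨hs.surj, hg⟩)).2 ?_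
  rintro _ _ ⟨⟩
  exact h

theorem SmLoc.of_smooth (hP : SmLoc P) {U V : Scheme.{u}} (g : V ⟶ U) (hg : Smooth g) (h : P U) : P V := by
  let X : Bool → Scheme.{u} := fun b => cond b V U
  let f : ∀ b, X b ⟶ U := fun b => match b with
    | true => g
    | false => 𝟙 U
  refine (hP U (Presieve.ofArrows X f) ((Scheme.ofArrows_mem_precoverage_iff @AlgebraicGeometry.Smooth).2 ⟨fun x => ⟨false, x, rfl⟩, ?_⟩)).1 h g
    (Presieve.ofArrows.mk (f := f) true)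
  rintro (_ | _)
  · exact inferInstanceAs (Smooth (𝟙 U))
  · exact hg

theorem smooth_of_ch {U : Over S} {X : Sp S} {p : (yon S).obj U ⟶ X} (h : K613.Chart.Ch p) : LocP @Smooth p :=
  K597.locP_of_repWith K597.etLoc_smooth.precomp (K597.repWith_mono (fun _ _ f (hf : Etale f) => by infer_instance) h.et)

theorem surj_of_ch {U : Over S} {X : Sp S} {p : (yon S).obj U ⟶ X} (h : K613.Chart.Ch p) : IsSurjectiveMor p :=
  K609.Points.surjective_map_of_repWith_surjective h.surj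

theorem locP_smooth_comp ⦃X Y Z : AlgSp.Sp S⦄ (hX : AlgSp.IsAlgSpace X) (hY : AlgSp.IsAlgSpace Y) (hZ : AlgSp.IsAlgSpace Z)
    (a : X ⟶ Y) (b : Y ⟶ Z) (ha : LocP @Smooth a) (hb : LocP @Smooth b) : LocP @Smooth (a ≫ b) :=
  K597.locP_comp K597.etLoc_smooth hX.hasAtlas hY.hasAtlas hZ.hasAtlas ha hb

theorem surj_comp ⦃X Y Z : AlgSp.Sp S⦄ (_ : AlgSp.IsAlgSpace X) (_ : AlgSp.IsAlgSpace Y) (_ : AlgSp.IsAlgSpace Z)
    (a : X ⟶ Y) (b : Y ⟶ Z) (ha : IsSurjectiveMor a) (hb : IsSurjectiveMor b) : IsSurjectiveMor (a ≫ b) := by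
  intro z
  obtain ⟨y, rfl⟩ := hb z
  obtain ⟨x, rfl⟩ := ha y
  exact ⟨x, Points.map_comp _ _ _⟩

theorem isoInv_top : IsoInv (S := S) ⊤ := fun _ _ _ _ _ _ _ _ => trivial

variable {𝒳 𝒴 𝒵 : AlgSt.Cat S}

/-- Precomposing a (surjective) smooth map from an algebraic space with a chart. -/
theorem smooth_comp_ch {Z : Sp S} (hZ : IsAlgSpace Z) {z : AlgSt.ofSp Z ⥤ᵇ 𝒳} (hz : AlgSt.RepByAlgSpWith (LocP @Smooth) z)
    {U : Over S} {p : (yon S).obj U ⟶ Z} (hp : K613.Chart.Ch p) :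
    AlgSt.RepByAlgSpWith (LocP @Smooth) (BasedFunctor.comp (AlgSt.ofSpMap p) z) :=
  algRepWith_comp_ofSpMap (stabBC_locP K597.etLoc_smooth) locP_smooth_comp hZ (IsAlgSpace.yon_obj U) hz (smooth_of_ch hp)

theorem surj_comp_ch {Z : Sp S} (hZ : IsAlgSpace Z) {z : AlgSt.ofSp Z ⥤ᵇ 𝒳} (hz : AlgSt.RepByAlgSpWith IsSurjectiveMor z)
    {U : Over S} {p : (yon S).obj U ⟶ Z} (hp : K613.Chart.Ch p) :
    AlgSt.RepByAlgSpWith IsSurjectiveMor (BasedFunctor.comp (AlgSt.ofSpMap p) z) :=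
  algRepWith_comp_ofSpMap stabBC_surj surj_comp hZ (IsAlgSpace.yon_obj U) hz (surj_of_ch hp)

/-- Common refinement of a smooth surjective and a smooth scheme chart. -/
theorem exists_common_sch (h𝒳 : FibCat.IsFibGrpd 𝒳.p) {U V : Over S} (x : AlgSt.ofSch U ⥤ᵇ 𝒳) (y : AlgSt.ofSch V ⥤ᵇ 𝒳)
    (hx : AlgSt.RepByAlgSpWith (LocP @Smooth) x) (hx' : AlgSt.RepByAlgSpWith IsSurjectiveMor x)
    (hy : AlgSt.RepByAlgSpWith (LocP @Smooth) y) :
    ∃ (W : Over S) (a : W ⟶ U) (b : W ⟶ V), AlgebraicGeometry.Smooth a.left ∧ AlgebraicGeometry.Smooth b.left ∧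
      Surjective b.left ∧
      Nonempty (BasedFunctor.comp (AlgSt.ofSpMap ((yon S).map a)) x ≅ BasedFunctor.comp (AlgSt.ofSpMap ((yon S).map b)) y) := by
  have hU := IsAlgSpace.yon_obj U
  have hV := IsAlgSpace.yon_obj V
  obtain ⟨W₀, a₀, b₀, hW₀, h1, h2, ⟨e⟩⟩ := exists_prod h𝒳 hU x y (K735.Rep.repByAlgSp1_of_with hy)
  have ha₀ : LocP @Smooth a₀ := (prop_of_isBC (isoInv_locP _) hy h1).2
  have hb₀ : LocP @Smooth b₀ := (prop_of_isBC (isoInv_locP _) hx h2).2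
  have hb₀' : IsSurjectiveMor b₀ := (prop_of_isBC isoInv_surj hx' h2).2
  obtain ⟨W, p, hp⟩ := K613.Chart.exists_ch hW₀
  obtain ⟨a, ha⟩ := (yon S).map_surjective (p ≫ a₀)
  obtain ⟨b, hb⟩ := (yon S).map_surjective (p ≫ b₀)
  refine ⟨W, a, b, ?_, ?_, ?_, ⟨?_⟩⟩
  · exact locP_yon_map (ha ▸ K597.locP_precomp hp.et ha₀)
  · exact locP_yon_map (hb ▸ K597.locP_precomp hp.et hb₀)
  · refine ⟨(K609.Points.surjective_map_yon_map_iff b).1 ?_⟩
    rw [hb]
    exact surj_comp (IsAlgSpace.yon_obj W) hW₀ hV _ _ (surj_of_ch hp) hb₀'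
  · rw [ha, hb]
    exact isoWhiskerLeft (AlgSt.ofSpMap p) e

/-- One smooth surjective chart with `P` suffices. -/
theorem smoothLocally_of_chart (h𝒳 : FibCat.IsFibGrpd 𝒳.p) (hP : SmLoc P) {U : Over S} (x : AlgSt.ofSch U ⥤ᵇ 𝒳)
    (hx : AlgSt.RepByAlgSpWith (LocP @Smooth) x) (hx' : AlgSt.RepByAlgSpWith IsSurjectiveMor x) (hU : P U.left) :
    AlgSt.SmoothLocally P 𝒳 := by
  intro V y hy
  obtain ⟨W, a, b, ha, hb, hb', -⟩ := exists_common_sch h𝒳 x (BasedFunctor.comp (AlgSt.toOverCat V) y) hx hx'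
    ((algRep_comp_equiv_iff (isEquivOver_toOverCat V)).2 hy)
  exact hP.of_surj b.left hb hb' (hP.of_smooth a.left ha hU)

theorem s12846 (h𝒳 : AlgSt.IsAlgStack Scheme.fppfPrecoverage 𝒳) (hP : SmLoc P) :
    AlgSt.SmoothLocally P 𝒳 ↔
      ∃ (U : Over S) (x : FibCat.overCat U ⥤ᵇ 𝒳),
        AlgSt.RepByAlgSpWith (AlgSp.LocP @Smooth) x ∧ AlgSt.RepByAlgSpWith AlgSp.IsSurjectiveMor x ∧ P U.left := by
  constructor
  · intro h
    obtain ⟨U, x, hx, hx'⟩ := h𝒳.atlas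
    exact ⟨U, x, hx, hx', h U x hx⟩
  · rintro ⟨U, x, hx, hx', hU⟩
    exact smoothLocally_of_chart h𝒳.isStack.1 hP (BasedFunctor.comp (AlgSt.toOverCat U) x)
      ((algRep_comp_equiv_iff (isEquivOver_toOverCat U)).2 hx) ((algRep_comp_equiv_iff (isEquivOver_toOverCat U)).2 hx') hU

/-- `EtaleLocally P h_U` for `P` smooth local. -/
theorem etaleLocally_yon_iff (hP : SmLoc P) (U : Over S) : EtaleLocally P ((yon S).obj U) ↔ P U.left := by
  constructor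
  · rintro ⟨U', p, h1, h2, h3⟩
    obtain ⟨g, rfl⟩ := (yon S).map_surjective p
    have h4 : Etale g.left := (repWith_yon_map_iff _ _).1 h1
    exact hP.of_surj g.left inferInstance ((repWith_yon_map_iff _ _).1 h2) h3
  · intro h
    exact ⟨U, 𝟙 _, repWith_id _ U, repWith_id _ U, h⟩

theorem s12852 (_ : AlgSt.IsAlgStack Scheme.fppfPrecoverage 𝒳) (hP : SmLoc P) :
    AlgSt.SmoothLocally P 𝒳 ↔
      ∀ (U : AlgSp.Space S) (x : AlgSt.ofSp U.obj ⥤ᵇ 𝒳),
        AlgSt.RepByAlgSpWith (AlgSp.LocP @Smooth) x → AlgSp.EtaleLocally P U.obj := by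
  constructor
  · intro h U x hx
    obtain ⟨U', p, hp⟩ := K613.Chart.exists_ch U.property
    refine ⟨U', p, hp.et, hp.surj, h U' (BasedFunctor.comp (AlgSt.ofOverCat U') (BasedFunctor.comp (AlgSt.ofSpMap p) x)) ?_⟩
    exact (algRep_comp_equiv_iff (isEquivOver_ofOverCat U')).2 (smooth_comp_ch U.property hx hp)
  · intro h U x hx
    exact (etaleLocally_yon_iff hP U).1 (h ⟨(yon S).obj U, IsAlgSpace.yon_obj U⟩ (BasedFunctor.comp (AlgSt.toOverCat U) x)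
      ((algRep_comp_equiv_iff (isEquivOver_toOverCat U)).2 hx))

theorem s12853 (h𝒳 : AlgSt.IsAlgStack Scheme.fppfPrecoverage 𝒳) (hP : SmLoc P) :
    AlgSt.SmoothLocally P 𝒳 ↔
      ∃ (U : AlgSp.Space S) (x : AlgSt.ofSp U.obj ⥤ᵇ 𝒳),
        AlgSt.RepByAlgSpWith (AlgSp.LocP @Smooth) x ∧ AlgSt.RepByAlgSpWith AlgSp.IsSurjectiveMor x ∧
          AlgSp.EtaleLocally P U.obj := by
  constructor
  · intro h
    obtain ⟨U, x, hx, hx'⟩ := h𝒳.atlas
    exact ⟨⟨(yon S).obj U, IsAlgSpace.yon_obj U⟩, BasedFunctor.comp (AlgSt.toOverCat U) x,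
      (algRep_comp_equiv_iff (isEquivOver_toOverCat U)).2 hx, (algRep_comp_equiv_iff (isEquivOver_toOverCat U)).2 hx',
      (etaleLocally_yon_iff hP U).2 (h U x hx)⟩
  · rintro ⟨U, x, hx, hx', U', p, hp1, hp2, hU'⟩
    exact smoothLocally_of_chart h𝒳.isStack.1 hP (BasedFunctor.comp (AlgSt.ofSpMap p) x)
      (smooth_comp_ch U.property hx ⟨hp1, hp2⟩) (surj_comp_ch U.property hx' ⟨hp1, hp2⟩) hU'

theorem s12854 (U : Over S) (hP : SmLoc P) : AlgSt.SmoothLocally P (AlgSt.ofSch U) ↔ P U.left := by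
  constructor
  · intro h
    refine h U (AlgSt.ofOverCat U) ?_
    have h1 : AlgSt.RepByAlgSpWith (LocP @Smooth) (AlgSt.ofSpMap (𝟙 ((yon S).obj U))) :=
      algRepWith_ofSpMap (stabBC_locP K597.etLoc_smooth) (IsAlgSpace.yon_obj U) (IsAlgSpace.yon_obj U)
        (smooth_of_ch (K613.Chart.Ch.id U))
    exact (algRep_comp_equiv_iff (isEquivOver_ofOverCat U)).2 h1
  · intro hU
    exact smoothLocally_of_chart (Stk.isFibGrpd_ofPsh _) hP (AlgSt.ofSpMap (𝟙 ((yon S).obj U)))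
      (algRepWith_ofSpMap (stabBC_locP K597.etLoc_smooth) (IsAlgSpace.yon_obj U) (IsAlgSpace.yon_obj U)
        (smooth_of_ch (K613.Chart.Ch.id U)))
      (algRepWith_ofSpMap stabBC_surj (IsAlgSpace.yon_obj U) (IsAlgSpace.yon_obj U)
        (surj_of_ch (K613.Chart.Ch.id U))) hU

end K736.Smooth
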