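import Groth.Agent.AlgSt.K739.StabEt
import Groth.Agent.AlgSt.K738.SecRep
import Groth.Agent.AlgSt.K746.ChartEx
import Groth.Agent.AlgSt.K742.Aff
import Groth.Agent.AlgSt.K746.WnaRep
import Groth.Agent.AlgSt.K746.GeomBij

/-!
# Openness of the stabilizer preserving locus (helper736)
-/

set_option autoImplicit false
set_option linter.unusedVariables false
set_option backward.isDefEq.respectTransparency false
set_option backward.isDefEq.respectTransparency.types false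

universe v₃ w₃ v₂ w₂ v₁ w₁ w' v' w v u

open CategoryTheory CategoryTheory.Limits AlgebraicGeometry Opposite

namespace K736.StabOpen

section Lift

open K739.Psh K739.Rep K739.Isom K739.Diag K739.DiagComp K739.Props K739.Alg

variable {S : Scheme.{u}} {𝒰 : BasedCategory.{u, w} (Over S)} {𝒳 : BasedCategory.{v', w'} (Over S)}

/-- The locus where an automorphism lifts is open. -/
theorem exists_open_lift (h𝒰 : FibCat.IsFibGrpd 𝒰.p) (h𝒳 : FibCat.IsFibGrpd 𝒳.p) (h : 𝒰 ⥤ᵇ 𝒳)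
    (hd : AlgSt.RepByAlgSpWith (AlgSp.RepWith @IsOpenImmersion) (FibCat.diag h))
    {T : Over S} (x : FibCat.overCat T ⥤ᵇ 𝒰) (φ : BasedFunctor.comp x h ≅ BasedFunctor.comp x h) :
    ∃ O : T.left.Opens, ∀ {T' : Over S} (u : T' ⟶ T),
      (∃ s : Sec h x x φ T', s.u = u) ↔ Set.range u.left ⊆ O := by
  obtain ⟨hG, hA, hπ⟩ := (repPsh_iff (isoInv_of_respectsIso _) _).1
    ((repByAlgSpWith_diag_iff _ h h𝒰 h𝒳).1 hd T x x φ)
  set F : AlgSp.Sp S := ⟨psh h x x φ h𝒰 h𝒳, hG⟩ with hF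
  set π : F ⟶ (AlgSp.yon S).obj T := ObjectProperty.homMk (toBase h x x φ h𝒰 h𝒳) with hπdef
  obtain ⟨E, i, fst, sq⟩ := hπ.1 (𝟙 ((AlgSp.yon S).obj T))
  have hi : IsOpenImmersion i.left := hπ.2 _ _ _ sq
  have hpt : ∀ (R : Over S) (s : Sec h x x φ R), ∃ j : R ⟶ E, j ≫ i = s.u := by
    intro R s
    have h1 : K609.Points.ofSection (F := F) (T := R) s ≫ π = (AlgSp.yon S).map s.u ≫ 𝟙 _ := by
      rw [Category.comp_id]
      apply ObjectProperty.hom_ext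
      apply NatTrans.ext
      funext R'
      ext ψ
      change π.hom.app R' (F.obj.map ψ.down.op s) = _
      rw [NatTrans.naturality_apply]
      rfl
    obtain ⟨j, hj⟩ := (AlgSp.yon S).map_surjective (sq.lift _ _ h1)
    refine ⟨j, (AlgSp.yon S).map_injective ?_⟩
    rw [Functor.map_comp, hj, sq.lift_snd]
  refine ⟨i.left.opensRange, fun {T'} u => ⟨?_, ?_⟩⟩
  · rintro ⟨s, rfl⟩
    obtain ⟨j, hj⟩ := hpt _ s
    rw [← hj, Over.comp_left, Scheme.Hom.coe_opensRange]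
    rintro _ ⟨z, rfl⟩
    exact ⟨j.left z, by rw [Scheme.Hom.comp_apply]⟩
  · intro hr
    rw [Scheme.Hom.coe_opensRange] at hr
    let j : T' ⟶ E := Over.homMk (IsOpenImmersion.lift i.left u.left hr) (by
      rw [← Over.w i, IsOpenImmersion.lift_fac_assoc, Over.w])
    have hj : j ≫ i = u := by
      apply Over.OverMorphism.ext
      exact IsOpenImmersion.lift_fac _ _ _
    refine ⟨((AlgSp.yon S).map j ≫ fst).hom.app (op T') ⟨𝟙 T'⟩, ?_⟩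
    have h4 : ((AlgSp.yon S).map j ≫ fst) ≫ π = (AlgSp.yon S).map u := by
      rw [Category.assoc, sq.w, Category.comp_id, ← Functor.map_comp, hj]
    have h5 := congrArg (fun (k : (AlgSp.yon S).obj T' ⟶ (AlgSp.yon S).obj T) => (k.hom.app (op T') ⟨𝟙 T'⟩).down) h4
    refine Eq.trans h5 ?_
    exact Category.id_comp u

end Lift

section Aut

open K734.Fib K746

variable {S : Scheme.{u}} {𝒳 : BasedCategory.{v₃, w₃} (Over S)} {T J : Over S} (h𝒳 : FibCat.IsFibGrpd 𝒳.p)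
  {x : FibCat.overCat T ⥤ᵇ 𝒳}

theorem map_eq_id_of_vert {a : 𝒳.obj} {φ : a ⟶ a} (h : IsVert 𝒳 φ) : 𝒳.p.map φ = 𝟙 _ := by
  obtain ⟨h1, h2⟩ := isVert_iff.1 h
  rw [h2, eqToHom_refl]

theorem vert_of_map_eq_id {a : 𝒳.obj} {φ : a ⟶ a} (h : 𝒳.p.map φ = 𝟙 _) : IsVert 𝒳 φ :=
  isVert_iff.2 ⟨rfl, h⟩

variable (x) in
/-- The object `(t, (x(t), ψ))`. -/
noncomputable def mkI {T' : Over S} (t : T' ⟶ T) (ψ : Xo x t ⟶ Xo x t) (hψ : IsVert 𝒳 ψ) :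
    (FibCat.fp x (FibCat.inertiaToBase (FibCat.toSelf 𝒳))).obj :=
  mkObj (F := x) (G := FibCat.inertiaToBase (FibCat.toSelf 𝒳)) (Over.mk t : (FibCat.overCat T).obj)
    (⟨Xo x t, @asIso _ _ _ _ ψ (isIso_of_vert h𝒳 hψ), map_eq_id_of_vert hψ⟩ :
      (FibCat.inertia (FibCat.toSelf 𝒳)).obj) (Iso.refl _) (IsVert.id _)

theorem exists_mkI (z : (FibCat.fp x (FibCat.inertiaToBase (FibCat.toSelf 𝒳))).obj) :
    ∃ (t : (FibCat.fp x (FibCat.inertiaToBase (FibCat.toSelf 𝒳))).p.obj z ⟶ T) (ψ : Xo x t ⟶ Xo x t) (hψ : IsVert 𝒳 ψ)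
      (e : z ⟶ mkI h𝒳 x t ψ hψ), (FibCat.fp x (FibCat.inertiaToBase (FibCat.toSelf 𝒳))).p.map e = 𝟙 _ := by
  obtain ⟨⟨a, b, i⟩, hi⟩ := z
  have hv : IsVert 𝒳 i.hom := IsVert.of_lift hi
  have hi2 : IsVert 𝒳 i.inv := by
    have := IsVert.isIso_inv (φ := i.hom) hv
    rwa [IsIso.Iso.inv_hom] at this
  have hβ : IsVert 𝒳 b.aut.hom := vert_of_map_eq_id b.map_aut
  refine ⟨a.hom, i.hom ≫ b.aut.hom ≫ i.inv, hv.comp (hβ.comp hi2),
    mkHomFp (F := x) (G := FibCat.inertiaToBase (FibCat.toSelf 𝒳)) (𝟙 (Over.mk a.hom) : a ⟶ Over.mk a.hom)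
      (⟨i.inv, ?_⟩ : b ⟶ (⟨Xo x a.hom, @asIso _ _ _ _ (i.hom ≫ b.aut.hom ≫ i.inv)
        (isIso_of_vert h𝒳 (hv.comp (hβ.comp hi2))), map_eq_id_of_vert (hv.comp (hβ.comp hi2))⟩ :
        (FibCat.inertia (FibCat.toSelf 𝒳)).obj)) ?_, rfl⟩
  · change b.aut.hom ≫ i.inv = i.inv ≫ i.hom ≫ b.aut.hom ≫ i.inv
    rw [i.inv_hom_id_assoc]
  · have h1 : x.map (𝟙 (Over.mk a.hom) : a ⟶ Over.mk a.hom) = 𝟙 (x.obj a) := x.map_id a
    refine (congrArg (· ≫ 𝟙 _) h1).trans ?_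
    change 𝟙 (x.obj a) ≫ 𝟙 _ = i.hom ≫ i.inv
    rw [i.hom_inv_id]
    exact Category.comp_id _

variable {π₀ : (AlgSp.yon S).obj J ⟶ (AlgSp.yon S).obj T}

/-- the point of `J` -/
noncomputable def ptOf (SR : K738.SecRep (FibCat.fpFst x (FibCat.inertiaToBase (FibCat.toSelf 𝒳)))
    ((AlgSp.yon S).obj J) π₀) {T' : Over S} (t : T' ⟶ T) (ψ : Xo x t ⟶ Xo x t) (hψ : IsVert 𝒳 ψ) : T' ⟶ J :=
  (SR.sec (mkI h𝒳 x t ψ hψ)).down

theorem exists_univ_aux (SR : K738.SecRep (FibCat.fpFst x (FibCat.inertiaToBase (FibCat.toSelf 𝒳)))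
    ((AlgSp.yon S).obj J) π₀) {B : Over S} (h : J = B)
    (t : B ⟶ T) (ψ : Xo x t ⟶ Xo x t) (hψ : IsVert 𝒳 ψ)
    (h1 : eqToHom h ≫ ptOf h𝒳 SR t ψ hψ = 𝟙 J) :
    ∃ (π : J ⟶ T) (θ : Xo x π ⟶ Xo x π) (hθ : IsVert 𝒳 θ), ptOf h𝒳 SR π θ hθ = 𝟙 J := by
  subst h
  exact ⟨t, ψ, hψ, by simpa using h1⟩

theorem exists_univ (SR : K738.SecRep (FibCat.fpFst x (FibCat.inertiaToBase (FibCat.toSelf 𝒳)))
    ((AlgSp.yon S).obj J) π₀) :
    ∃ (π : J ⟶ T) (θ : Xo x π ⟶ Xo x π) (hθ : IsVert 𝒳 θ), ptOf h𝒳 SR π θ hθ = 𝟙 J := by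
  obtain ⟨z, h, hz⟩ := SR.surj (T := J) ⟨𝟙 J⟩
  obtain ⟨t, ψ, hψ, e, he⟩ := exists_mkI h𝒳 z
  refine exists_univ_aux h𝒳 SR h t ψ hψ ?_
  have h1 := SR.map e
  rw [he] at h1
  have h2 : 𝟙 _ ≫ ptOf h𝒳 SR t ψ hψ = (SR.sec z).down := congrArg ULift.down h1
  have h3 : eqToHom h ≫ (SR.sec z).down = 𝟙 J := congrArg ULift.down hz
  rw [← h3, ← h2]
  exact congrArg (eqToHom h ≫ ·) (Category.id_comp _).symm

include h𝒳 in
/-- The scheme of automorphisms of the object `x(𝟙)`, when the inertia is representable. -/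
theorem exists_autRep (SR : K738.SecRep (FibCat.fpFst x (FibCat.inertiaToBase (FibCat.toSelf 𝒳)))
    ((AlgSp.yon S).obj J) π₀) :
    ∃ (π : J ⟶ T) (θ : Xo x π ⟶ Xo x π), IsVert 𝒳 θ ∧ π₀ = (AlgSp.yon S).map π ∧
      ∀ {T' : Over S} (t : T' ⟶ T) (φ : Xo x t ⟶ Xo x t), IsVert 𝒳 φ → ∃ (r : T' ⟶ J) (h : r ≫ π = t),
        φ ≫ rs x r h = rs x r h ≫ θ := by
  obtain ⟨π, θ, hθ, h1⟩ := exists_univ h𝒳 SR
  refine ⟨π, θ, hθ, ?_, fun {T'} t φ hφ => ?_⟩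
  · have h2 := SR.proj (mkI h𝒳 x π θ hθ)
    obtain ⟨f, rfl⟩ := (AlgSp.yon S).map_surjective π₀
    have h3 : ptOf h𝒳 SR π θ hθ ≫ f = K738.str (FibCat.fpFst x (FibCat.inertiaToBase (FibCat.toSelf 𝒳)))
      (mkI h𝒳 x π θ hθ) := congrArg ULift.down h2
    rw [h1] at h3
    have h4 : K738.str (FibCat.fpFst x (FibCat.inertiaToBase (FibCat.toSelf 𝒳))) (mkI h𝒳 x π θ hθ) = π :=
      Category.id_comp _
    rw [h4] at h3
    have h5 : f = π := (Category.id_comp f).symm.trans h3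
    exact congrArg (AlgSp.yon S).map h5
  · obtain ⟨m, hm⟩ := SR.full (z := mkI h𝒳 x t φ hφ) (z' := mkI h𝒳 x π θ hθ) (ptOf h𝒳 SR t φ hφ) (by
      apply ULift.ext
      change ptOf h𝒳 SR t φ hφ ≫ ptOf h𝒳 SR π θ hθ = _
      rw [h1]; exact Category.comp_id _)
    have h2 : (show (Over.mk t : Over T) ⟶ Over.mk π from m.hom.fst).left = ptOf h𝒳 SR t φ hφ := hm
    have h3 : ptOf h𝒳 SR t φ hφ ≫ π = t := by
      rw [← h2]; exact Over.w (show (Over.mk t : Over T) ⟶ Over.mk π from m.hom.fst)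
    have h4 : (show (Over.mk t : Over T) ⟶ Over.mk π from m.hom.fst) = Over.homMk (ptOf h𝒳 SR t φ hφ) h3 :=
      Over.OverMorphism.ext h2
    have h5 : x.map (show (Over.mk t : Over T) ⟶ Over.mk π from m.hom.fst) = m.hom.snd.hom := by
      have h6 : x.map (show (Over.mk t : Over T) ⟶ Over.mk π from m.hom.fst) ≫ 𝟙 _ = 𝟙 _ ≫ m.hom.snd.hom := homFp_w m
      rw [Category.comp_id, Category.id_comp] at h6
      exact h6
    have h6 : φ ≫ m.hom.snd.hom = m.hom.snd.hom ≫ θ := m.hom.snd.comm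
    rw [← h5, h4] at h6
    exact ⟨ptOf h𝒳 SR t φ hφ, h3, h6⟩

/-- The automorphism scheme from finiteness of the inertia. -/
theorem exists_autRep_finite (h𝒳 : FibCat.IsFibGrpd 𝒳.p)
    (hI : AlgSt.RepByAlgSpWith AlgSp.IsFiniteMor (FibCat.inertiaToBase (FibCat.toSelf 𝒳)))
    (x : FibCat.overCat T ⥤ᵇ 𝒳) :
    ∃ (J : Over S) (π : J ⟶ T) (θ : Xo x π ⟶ Xo x π), IsFinite π.left ∧ IsVert 𝒳 θ ∧
      ∀ {T' : Over S} (t : T' ⟶ T) (φ : Xo x t ⟶ Xo x t), IsVert 𝒳 φ → ∃ (r : T' ⟶ J) (h : r ≫ π = t),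
        φ ≫ rs x r h = rs x r h ≫ θ := by
  obtain ⟨F, π₀, hP, ⟨R⟩⟩ := K738.repByAlgSpWith_iff_secRep.1 hI T x
  rw [K742.Aff.isFiniteMor_eq] at hP
  obtain ⟨J, i, fst, sq⟩ := hP.1 (𝟙 _)
  have hi := hP.2 _ _ _ sq
  have hfst : IsIso fst := sq.isIso_fst_of_isIso
  have e : (asIso fst).hom ≫ π₀ = (AlgSp.yon S).map i := by
    rw [asIso_hom, sq.w, Category.comp_id]
  have hR := secRepOfIso R (asIso fst).symm
  rw [Iso.symm_inv, e] at hR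
  obtain ⟨π, θ, hθ, hπ, hu⟩ := exists_autRep h𝒳 hR
  obtain rfl : i = π := (AlgSp.yon S).map_injective hπ
  exact ⟨J, i, θ, hi, hθ, hu⟩

end Aut

section Locus

open K734.Fib K746 K739.Isom K739.Diag

variable {S : Scheme.{u}} {𝒰 : BasedCategory.{u, w} (Over S)} {𝒳 : BasedCategory.{v', w'} (Over S)}

theorem vert_iff_isVert {𝒲 : BasedCategory.{v₃, w₃} (Over S)} {a b : 𝒲.obj} (φ : a ⟶ b) :
    K735.Fib.Vert 𝒲.p φ ↔ IsVert 𝒲 φ := Iff.rfl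

theorem exists_open_lift' (h𝒰 : FibCat.IsFibGrpd 𝒰.p) (h𝒳 : FibCat.IsFibGrpd 𝒳.p) (h : 𝒰 ⥤ᵇ 𝒳)
    (hd : AlgSt.RepByAlgSpWith (AlgSp.RepWith @IsOpenImmersion) (FibCat.diag h))
    {T J : Over S} (y : FibCat.overCat T ⥤ᵇ 𝒰) (π : J ⟶ T)
    (θ : h.obj (Xo y π) ⟶ h.obj (Xo y π)) (hθ : IsVert 𝒳 θ) :
    ∃ O : J.left.Opens, ∀ {T' : Over S} (r : T' ⟶ J) {t : T' ⟶ T} (ht : r ≫ π = t),
      (∃ ψ : Xo y t ⟶ Xo y t, IsVert 𝒰 ψ ∧ h.map ψ ≫ h.map (rs y r ht) = h.map (rs y r ht) ≫ θ) ↔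
        Set.range r.left ⊆ O := by
  let yJ : FibCat.overCat J ⥤ᵇ 𝒰 := BasedFunctor.comp (AlgSt.overMap π) y
  have e1 : 𝟙 J ≫ π = 𝟙 J ≫ π := rfl
  have e2 : 𝟙 J ≫ (𝟙 J ≫ π) = π := by simp
  let c : h.obj (Xo y (𝟙 J ≫ π)) ⟶ h.obj (Xo y (𝟙 J ≫ π)) := h.map (rs y (𝟙 J) e1) ≫ θ ≫ h.map (rs y (𝟙 J) e2)
  have hc : IsVert 𝒳 c := (IsVert.map h (rs_vert y e1)).comp (hθ.comp (IsVert.map h (rs_vert y e2)))
  obtain ⟨φ, hφ⟩ := K735.Fp.exists_yonIso h𝒳 (BasedFunctor.comp yJ h) (BasedFunctor.comp yJ h) c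
    ((vert_iff_isVert _).2 hc)
  obtain ⟨O, hO⟩ := exists_open_lift h𝒰 h𝒳 h hd yJ φ
  refine ⟨O, fun {T'} r {t} ht => ?_⟩
  subst ht
  rw [← hO]
  have hcc : c ≫ h.map (rs y (𝟙 J) e1) = h.map (rs y (𝟙 J) e1) ≫ θ := by
    have h1 : rs y (𝟙 J) e2 ≫ rs y (𝟙 J) e1 = 𝟙 _ := by
      rw [rs_comp y (𝟙 J) (𝟙 J) e1 e2 (by simp)]
      have h2 : (rs y (𝟙 J ≫ 𝟙 J) (by simp) : Xo y π ⟶ Xo y π) = rs y (𝟙 J) (by simp) := by
        congr 1
      rw [h2, rs_id]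
    change (h.map (rs y (𝟙 J) e1) ≫ θ ≫ h.map (rs y (𝟙 J) e2)) ≫ h.map (rs y (𝟙 J) e1) = _
    rw [Category.assoc, Category.assoc, ← h.map_comp, h1, h.map_id, Category.comp_id]
  have hφr : φ.hom.toNatTrans.app (pt r) ≫ h.map (rs y r rfl) = h.map (rs y r rfl) ≫ θ := by
    have h1 : h.map (yJ.map (K735.Fp.toId (pt r))) ≫ φ.hom.toNatTrans.app (K735.Fp.idObj J) =
      φ.hom.toNatTrans.app (pt r) ≫ h.map (yJ.map (K735.Fp.toId (pt r))) := φ.hom.toNatTrans.naturality _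
    have h2 : φ.hom.toNatTrans.app (K735.Fp.idObj J) = c := hφ
    rw [h2] at h1
    have h3 : (yJ.map (K735.Fp.toId (pt r))) ≫ rs y (𝟙 J) e1 = rs y r rfl := by
      change y.map _ ≫ y.map _ = y.map _
      rw [← y.map_comp]
      congr 1
    rw [← h3, h.map_comp, ← reassoc_of% h1, hcc, Category.assoc]
  constructor
  · rintro ⟨ψ, hψ, h1⟩
    refine ⟨⟨r, ψ, hψ.lift (Xo_base y _), ?_⟩, rfl⟩
    have h2 : h.map ψ ≫ h.map (rs y r rfl) = φ.hom.toNatTrans.app (pt r) ≫ h.map (rs y r rfl) := h1.trans hφr.symm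
    refine K735.Fib.hom_ext' h𝒳 (h.map (rs y r rfl)) ?_ h2
    rw [((vert_iff_isVert _).2 (IsVert.map h hψ)).map_eq]
    exact ((K735.Fib.vert_app φ.hom (pt r)).map_eq).symm
  · rintro ⟨s, hs⟩
    refine ⟨secAt s hs, IsVert.of_lift (secAt_lift s hs), ?_⟩
    have h1 : h.map (secAt s hs) = φ.hom.toNatTrans.app (pt r) := secAt_comp s hs
    rw [h1, hφr]

theorem exists_point_lift {W V : Scheme.{u}} (h : W ⟶ V) [LocallyQuasiFinite h] [LocallyOfFiniteType h]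
    (w : W) {K : Type u} [Field K] [IsAlgClosed K]
    (g : Spec (CommRingCat.of K) ⟶ V) (hw : h w = g (IsLocalRing.closedPoint K)) :
    ∃ l : Spec (CommRingCat.of K) ⟶ W, l ≫ h = g ∧ l (IsLocalRing.closedPoint K) = w := by
  obtain ⟨z, hz1, hz2⟩ := Scheme.Pullback.exists_preimage_pullback w _ hw
  have h1 : _root_.IsDiscrete ((pullback.snd h g) ⁻¹' {IsLocalRing.closedPoint K}) :=
    (pullback.snd h g).isDiscrete_preimage_singleton _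
  have h2 : (pullback.snd h g) ⁻¹' {IsLocalRing.closedPoint K} = Set.univ := by
    ext a
    simp only [Set.mem_preimage, Set.mem_singleton_iff, Set.mem_univ, iff_true]
    exact Subsingleton.elim _ _
  rw [h2] at h1
  have h3 : DiscreteTopology ↥(pullback h g) := isDiscrete_univ_iff.1 h1
  have hz : IsClosed {z} := isClosed_discrete _
  refine ⟨pointOfClosedPoint (pullback.snd h g) z hz ≫ pullback.fst h g, ?_, ?_⟩
  · rw [Category.assoc, pullback.condition, pointOfClosedPoint_comp_assoc]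
  · rw [Scheme.Hom.comp_apply, pointOfClosedPoint_apply, hz1]

theorem autMap_surjective_iff (h : 𝒰 ⥤ᵇ 𝒳) (a : 𝒰.obj) (h𝒰 : FibCat.IsFibGrpd 𝒰.p) (h𝒳 : FibCat.IsFibGrpd 𝒳.p) :
    Function.Surjective (Gerb.autMap h a) ↔ ∀ (α : h.obj a ⟶ h.obj a), IsVert 𝒳 α → ∃ β : a ⟶ a, IsVert 𝒰 β ∧
      h.map β = α := by
  constructor
  · intro H α hα
    have := isIso_of_vert h𝒳 hα
    have hα' : IsVert 𝒳 (inv α) := IsVert.isIso_inv hα
    let A : Gerb.AutO (h.obj a) :=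
      { hom := ⟨α, hα⟩
        inv := ⟨inv α, hα'⟩
        hom_inv_id := by
          apply Functor.Fiber.hom_ext
          exact IsIso.hom_inv_id α
        inv_hom_id := by
          apply Functor.Fiber.hom_ext
          exact IsIso.inv_hom_id α }
    obtain ⟨β, hβ⟩ := H A
    refine ⟨β.hom.1, β.hom.2, ?_⟩
    exact congrArg (fun k => k.hom.1) hβ
  · intro H A
    obtain ⟨β, hβ, h1⟩ := H A.hom.1 (IsVert.of_lift A.hom.2)
    have := isIso_of_vert h𝒰 hβ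
    have hβ' : IsVert 𝒰 (inv β) := IsVert.isIso_inv hβ
    let B : Gerb.AutO a :=
      { hom := ⟨β, hβ⟩
        inv := ⟨inv β, hβ'⟩
        hom_inv_id := by
          apply Functor.Fiber.hom_ext
          exact IsIso.hom_inv_id β
        inv_hom_id := by
          apply Functor.Fiber.hom_ext
          exact IsIso.inv_hom_id β }
    refine ⟨B, ?_⟩
    apply Aut.ext
    apply Functor.Fiber.hom_ext
    exact h1

/-- The locus of the points of `T` where `h` is not surjective on stabilizers is closed. -/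
theorem exists_closed_locus (h𝒰 : FibCat.IsFibGrpd 𝒰.p) (h𝒳 : FibCat.IsFibGrpd 𝒳.p) (h : 𝒰 ⥤ᵇ 𝒳)
    (hd : AlgSt.RepByAlgSpWith (AlgSp.RepWith @IsOpenImmersion) (FibCat.diag h))
    (hI : AlgSt.RepByAlgSpWith AlgSp.IsFiniteMor (FibCat.inertiaToBase (FibCat.toSelf 𝒳)))
    {T : Over S} (y : FibCat.overCat T ⥤ᵇ 𝒰) :
    ∃ Z : Set T.left, IsClosed Z ∧ ∀ (Ω : Type u) [Field Ω] [IsAlgClosed Ω] (t : Spec (CommRingCat.of Ω) ⟶ S)
      (τ : (Over.mk t : Over S) ⟶ T), Function.Surjective (Gerb.autMap h (y.obj (Over.mk τ))) ↔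
        τ.left (IsLocalRing.closedPoint Ω) ∉ Z := by
  obtain ⟨J, π, θ, hπ, hθ, hu⟩ := exists_autRep_finite h𝒳 hI (BasedFunctor.comp y h)
  obtain ⟨O, hO⟩ := exists_open_lift' h𝒰 h𝒳 h hd y π θ hθ
  refine ⟨π.left '' (O : Set J.left)ᶜ, (π.left.isClosedMap) _ O.2.isClosed_compl, ?_⟩
  intro Ω _ _ t τ
  have hpt : ∀ (r : (Over.mk t : Over S) ⟶ J), Set.range r.left ⊆ O ↔ r.left (IsLocalRing.closedPoint Ω) ∈ O := by
    intro r
    constructor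
    · intro H
      exact H ⟨_, rfl⟩
    · rintro H _ ⟨q, rfl⟩
      have : q = IsLocalRing.closedPoint Ω := Subsingleton.elim (α := ↥(Spec (CommRingCat.of Ω))) _ _
      rw [this]; exact H
  rw [autMap_surjective_iff h _ h𝒰 h𝒳]
  constructor
  · rintro H ⟨j, hj, hjτ⟩
    obtain ⟨l, hl1, hl2⟩ := exists_point_lift π.left j τ.left hjτ
    let r : (Over.mk t : Over S) ⟶ J := Over.homMk l (by
      rw [← Over.w π, reassoc_of% hl1]; exact Over.w τ)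
    have hr : r ≫ π = τ := Over.OverMorphism.ext hl1
    obtain ⟨α, hα, hα'⟩ : ∃ α : h.obj (Xo y τ) ⟶ h.obj (Xo y τ), IsVert 𝒳 α ∧
        α ≫ h.map (rs y r hr) = h.map (rs y r hr) ≫ θ := by
      obtain ⟨α, ⟨h1, h2⟩, -⟩ := K735.Fib.existsUnique_hom h𝒳 (h.map (rs y r hr)) (h.map (rs y r hr) ≫ θ)
        (𝟙 _) (by
          rw [Functor.map_comp, map_eq_id_of_vert hθ]
          exact (Category.id_comp _).trans (Category.comp_id _).symm)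
      exact ⟨α, vert_of_map_eq_id h1, h2⟩
    obtain ⟨β, hβ, hβ'⟩ := H α hα
    have h1 := (hO r hr).1 ⟨β, hβ, by rw [hβ', hα']⟩
    rw [hpt] at h1
    exact hj (hl2 ▸ h1)
  · intro H α hα
    obtain ⟨r, hr, h1⟩ := hu τ α hα
    have h2 : Set.range r.left ⊆ O := by
      rw [hpt]
      by_contra h3
      refine H ⟨_, h3, ?_⟩
      rw [← Scheme.Hom.comp_apply, ← Over.comp_left, hr]
    obtain ⟨ψ, hψ, h3⟩ := (hO r hr).2 h2
    refine ⟨ψ, hψ, ?_⟩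
    refine K735.Fib.hom_ext' h𝒳 (h.map (rs y r hr)) ?_ (h3.trans h1.symm)
    rw [((vert_iff_isVert _).2 (IsVert.map h hψ)).map_eq, ((vert_iff_isVert _).2 hα).map_eq]

end Locus

section Good

open K734.Fib K746 K739.Isom K739.Diag AlgSt

variable {S : Scheme.{u}} {𝒰 : BasedCategory.{u, w} (Over S)} {𝒳 : BasedCategory.{v', w'} (Over S)}

theorem autSurj_of_vert (h𝒰 : FibCat.IsFibGrpd 𝒰.p) (h𝒳 : FibCat.IsFibGrpd 𝒳.p) (h : 𝒰 ⥤ᵇ 𝒳) {a b : 𝒰.obj}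
    (e : a ≅ b) (he : IsVert 𝒰 e.hom) (H : Function.Surjective (Gerb.autMap h a)) :
    Function.Surjective (Gerb.autMap h b) := by
  rw [autMap_surjective_iff h _ h𝒰 h𝒳] at H ⊢
  intro α hα
  obtain ⟨β, hβ, h1⟩ := H (h.map e.hom ≫ α ≫ h.map e.inv)
    ((IsVert.map h he).comp (hα.comp (IsVert.map h (IsVert.inv he))))
  refine ⟨e.inv ≫ β ≫ e.hom, (IsVert.inv he).comp (hβ.comp he), ?_⟩
  rw [Functor.map_comp, Functor.map_comp, h1]
  simp only [Category.assoc]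
  rw [← Functor.map_comp, e.inv_hom_id, ← Functor.map_comp_assoc, e.inv_hom_id, CategoryTheory.Functor.map_id,
    Category.comp_id, Category.id_comp]

theorem autSurj_iff_of_vert (h𝒰 : FibCat.IsFibGrpd 𝒰.p) (h𝒳 : FibCat.IsFibGrpd 𝒳.p) (h : 𝒰 ⥤ᵇ 𝒳) {a b : 𝒰.obj}
    (e : a ⟶ b) (he : IsVert 𝒰 e) : Function.Surjective (Gerb.autMap h a) ↔ Function.Surjective (Gerb.autMap h b) := by
  have := isIso_of_vert h𝒰 he
  exact ⟨autSurj_of_vert h𝒰 h𝒳 h (asIso e) he, autSurj_of_vert h𝒰 h𝒳 h (asIso e).symm (IsVert.isIso_inv he)⟩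

/-- A restriction of an object is the value of its chart. -/
theorem exists_vert_yonF (h𝒰 : FibCat.IsFibGrpd 𝒰.p) {q r : FPt 𝒰} (m : r.obj ⟶ q.obj) :
    ∃ e : r.obj ⟶ (K735.Fp.yonF h𝒰 q.obj q.lies).obj (Over.mk (K735.Pts.baseHom m)), IsVert 𝒰 e := by
  let y := K735.Fp.yonF h𝒰 q.obj q.lies
  let ι := K735.Fp.yonFIso h𝒰 q.obj q.lies
  have hι : IsVert 𝒰 ι.hom := K735.Fp.vert_yonFIso h𝒰 q.obj q.lies
  let φ : y.obj (Over.mk (K735.Pts.baseHom m)) ⟶ q.obj := y.map (K735.Fp.toId (pt (K735.Pts.baseHom m))) ≫ ι.hom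
  obtain ⟨χ, ⟨h1, h2⟩, -⟩ := K735.Fib.existsUnique_hom h𝒰 φ m
    (eqToHom (r.lies.trans (y.w_obj (Over.mk (K735.Pts.baseHom m))).symm)) (by
      change _ ≫ 𝒰.p.map (_ ≫ _) = _
      rw [Functor.map_comp, K735.Fib.map_map, ((vert_iff_isVert _).2 hι).map_eq]
      change _ ≫ (_ ≫ K735.Pts.baseHom m ≫ _) ≫ _ = _
      rw [K735.Pts.baseHom]
      simp)
  exact ⟨χ, K735.Fib.vert_of_map_eq _ h1⟩

theorem autSurj_iff_of_hom (h𝒰 : FibCat.IsFibGrpd 𝒰.p) (h𝒳 : FibCat.IsFibGrpd 𝒳.p) (h : 𝒰 ⥤ᵇ 𝒳)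
    (hd : AlgSt.RepByAlgSpWith (AlgSp.RepWith @IsOpenImmersion) (FibCat.diag h))
    (hI : AlgSt.RepByAlgSpWith AlgSp.IsFiniteMor (FibCat.inertiaToBase (FibCat.toSelf 𝒳)))
    {q r : FPt 𝒰} (hq : IsAlgClosed q.K) (hr : IsAlgClosed r.K) (m : r.obj ⟶ q.obj) :
    Function.Surjective (Gerb.autMap h r.obj) ↔ Function.Surjective (Gerb.autMap h q.obj) := by
  obtain ⟨Z, -, hZ⟩ := exists_closed_locus h𝒰 h𝒳 h hd hI (K735.Fp.yonF h𝒰 q.obj q.lies)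
  obtain ⟨e, he⟩ := exists_vert_yonF h𝒰 m
  rw [autSurj_iff_of_vert h𝒰 h𝒳 h e he, hZ, ← autSurj_iff_of_vert h𝒰 h𝒳 h (K735.Fp.yonFIso h𝒰 q.obj q.lies).hom
    (K735.Fp.vert_yonFIso h𝒰 q.obj q.lies)]
  refine Iff.trans ?_ (hZ q.K q.str (𝟙 _)).symm
  have e1 : (K735.Pts.baseHom m).left (IsLocalRing.closedPoint r.K) =
      (𝟙 (Over.mk q.str) : Over.mk q.str ⟶ Over.mk q.str).left (IsLocalRing.closedPoint q.K) :=
    Subsingleton.elim (α := ↥(Spec (CommRingCat.of q.K))) _ _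
  rw [e1]

theorem autSurj_iff_of_rel (h𝒰 : FibCat.IsFibGrpd 𝒰.p) (h𝒳 : FibCat.IsFibGrpd 𝒳.p) (h : 𝒰 ⥤ᵇ 𝒳)
    (hd : AlgSt.RepByAlgSpWith (AlgSp.RepWith @IsOpenImmersion) (FibCat.diag h))
    (hI : AlgSt.RepByAlgSpWith AlgSp.IsFiniteMor (FibCat.inertiaToBase (FibCat.toSelf 𝒳)))
    {p q : FPt 𝒰} (hp : IsAlgClosed p.K) (hq : IsAlgClosed q.K) (H : FPt.Rel p q) :
    Function.Surjective (Gerb.autMap h p.obj) ↔ Function.Surjective (Gerb.autMap h q.obj) := by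
  obtain ⟨r, a, b, -⟩ := H
  obtain ⟨Ω, _, _, t, ⟨g⟩⟩ := K746.GeomBij.exists_geom r
  obtain ⟨c, hc, φ, -⟩ := K735.Pts.exists_restrict h𝒰 r t g
  have h1 := autSurj_iff_of_hom h𝒰 h𝒳 h hd hI (q := p) (r := ⟨Ω, t, c, hc⟩) hp inferInstance (φ ≫ a)
  have h2 := autSurj_iff_of_hom h𝒰 h𝒳 h hd hI (q := q) (r := ⟨Ω, t, c, hc⟩) hq inferInstance (φ ≫ b)
  exact h1.symm.trans h2

/-- The set of points where `h` is surjective on stabilizers. -/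
def good (h : 𝒰 ⥤ᵇ 𝒳) : Set (Points 𝒰) :=
  {p | ∃ q : FPt 𝒰, IsAlgClosed q.K ∧ Points.mk q = p ∧ Function.Surjective (Gerb.autMap h q.obj)}

theorem mem_good_iff (h𝒰 : FibCat.IsFibGrpd 𝒰.p) (h𝒳 : FibCat.IsFibGrpd 𝒳.p) (h : 𝒰 ⥤ᵇ 𝒳)
    (hd : AlgSt.RepByAlgSpWith (AlgSp.RepWith @IsOpenImmersion) (FibCat.diag h))
    (hI : AlgSt.RepByAlgSpWith AlgSp.IsFiniteMor (FibCat.inertiaToBase (FibCat.toSelf 𝒳)))
    (q : FPt 𝒰) (hq : IsAlgClosed q.K) : Points.mk q ∈ good h ↔ Function.Surjective (Gerb.autMap h q.obj) := by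
  constructor
  · rintro ⟨p, hp, h1, h2⟩
    exact (autSurj_iff_of_rel h𝒰 h𝒳 h hd hI hp hq ((K735.Pts.mk_eq_mk_iff h𝒰).1 h1)).1 h2
  · intro H
    exact ⟨q, hq, rfl, H⟩

theorem ofChart_mem_good_iff (h𝒰 : FibCat.IsFibGrpd 𝒰.p) (h𝒳 : FibCat.IsFibGrpd 𝒳.p) (h : 𝒰 ⥤ᵇ 𝒳)
    (hd : AlgSt.RepByAlgSpWith (AlgSp.RepWith @IsOpenImmersion) (FibCat.diag h))
    (hI : AlgSt.RepByAlgSpWith AlgSp.IsFiniteMor (FibCat.inertiaToBase (FibCat.toSelf 𝒳)))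
    {T : Over S} (y : FibCat.overCat T ⥤ᵇ 𝒰) (Z : Set T.left)
    (hZ : ∀ (Ω : Type u) [Field Ω] [IsAlgClosed Ω] (t : Spec (CommRingCat.of Ω) ⟶ S)
      (τ : (Over.mk t : Over S) ⟶ T), Function.Surjective (Gerb.autMap h (y.obj (Over.mk τ))) ↔
        τ.left (IsLocalRing.closedPoint Ω) ∉ Z) (u : T.left) :
    Points.ofChart y u ∈ good h ↔ u ∉ Z := by
  let Ω := AlgebraicClosure (T.left.residueField u)
  let τ : Spec (CommRingCat.of Ω) ⟶ T.left :=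
    Spec.map (CommRingCat.ofHom (algebraMap (T.left.residueField u) Ω)) ≫ T.left.fromSpecResidueField u
  let τ' : (Over.mk (τ ≫ T.hom) : Over S) ⟶ T := Over.homMk τ rfl
  let q : FPt 𝒰 := ⟨Ω, τ ≫ T.hom, y.obj (Over.mk τ'), y.w_obj _⟩
  have h1 : Points.mk q = Points.ofChart y u := by
    let κ : Over.mk (T.left.fromSpecResidueField u ≫ T.hom) ⟶ T := Over.homMk (T.left.fromSpecResidueField u) rfl
    let m : (Over.mk τ' : Over T) ⟶ Over.mk κ :=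
      Over.homMk (Over.homMk (Spec.map (CommRingCat.ofHom (algebraMap (T.left.residueField u) Ω))) (by
        simp [τ])) (by
        apply Over.OverMorphism.ext
        simp [τ', κ, τ])
    exact K735.Pts.mk_eq_of_hom (p := q) (y.map m)
  rw [← h1, mem_good_iff h𝒰 h𝒳 h hd hI q (inferInstanceAs (IsAlgClosed Ω))]
  refine (hZ Ω _ τ').trans ?_
  have h2 : τ'.left (IsLocalRing.closedPoint Ω) = u := by
    change τ (IsLocalRing.closedPoint Ω) = u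
    rw [Scheme.Hom.comp_apply]
    exact Scheme.fromSpecResidueField_apply _ _
  rw [h2]

/-- The stabilizer preserving locus is open. -/
theorem isOpen_good (h𝒰 : FibCat.IsFibGrpd 𝒰.p) (h𝒳 : FibCat.IsFibGrpd 𝒳.p) (h : 𝒰 ⥤ᵇ 𝒳)
    (hd : AlgSt.RepByAlgSpWith (AlgSp.RepWith @IsOpenImmersion) (FibCat.diag h))
    (hI : AlgSt.RepByAlgSpWith AlgSp.IsFiniteMor (FibCat.inertiaToBase (FibCat.toSelf 𝒳))) : IsOpen (good h) := by
  intro U y _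
  obtain ⟨Z, hZc, hZ⟩ := exists_closed_locus h𝒰 h𝒳 h hd hI y
  have h1 : Points.ofChart y ⁻¹' good h = Zᶜ := by
    ext u
    exact ofChart_mem_good_iff h𝒰 h𝒳 h hd hI y Z hZ u
  rw [h1]
  exact hZc.isOpen_compl

end Good

end K736.StabOpen
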